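import Cfsg.Agent.Phan.Unit

/-!
An amalgam of neighbouring planes over the unitary group: over a field with more than nine elements the
generated group maps injectively. Downward induction on the first moving coordinate; the cosets of the
stabiliser are defined on the vectors whose leading coordinate does not have norm one, and then extended.
-/

set_option autoImplicit false
set_option linter.unusedSectionVars false
set_option linter.unusedSimpArgs false

open Matrix Function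

namespace Cfsg.Agent.Phan

universe u v

variable {F : Type u} [Field F] [Fintype F] {σ : F →+* F} {q N : ℕ} [Fact (2 < q)] {U : Type v} [Group U]

/-! ### Counting rows -/

section Count

variable (hS : Fld σ q)
include hS

theorem card_roots_le (E C' C D : F) (h : C ≠ 0 ∨ E ≠ 0) [DecidableEq F] :
    (Finset.univ.filter fun S : F => E * (S * σ S) + C' * σ S + C * S + D = 0).card ≤ q + 1 := by
  open Polynomial in
  let P : F[X] := Polynomial.C E * X ^ (q + 1) + Polynomial.C C' * X ^ q + Polynomial.C C * X + Polynomial.C D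
  have hq := hS.one
  have hP : P ≠ 0 := by
    intro h0
    rcases h with hC | hE
    · refine hC ?_
      have := congrArg (fun p : Polynomial F => p.coeff 1) h0
      simpa [P, Polynomial.coeff_X_pow, Polynomial.coeff_C, show (1 : ℕ) ≠ q + 1 by omega,
        show (1 : ℕ) ≠ q by omega, show q ≠ 0 by omega] using this
    · refine hE ?_
      have := congrArg (fun p : Polynomial F => p.coeff (q + 1)) h0
      simpa [P, Polynomial.coeff_X_pow, Polynomial.coeff_C, Polynomial.coeff_X, show q + 1 ≠ q by omega,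
        show ¬ (1 = q + 1) by omega, show q ≠ 0 by omega] using this
  have hdeg : P.natDegree ≤ q + 1 := by
    simp only [P]
    compute_degree!
  refine le_trans ?_ hdeg
  refine le_trans (Finset.card_le_card (t := P.roots.toFinset) fun S hs => ?_)
    ((Multiset.toFinset_card_le _).trans (Polynomial.card_roots' P))
  simp only [Finset.mem_filter, Finset.mem_univ, true_and, hS.pow] at hs
  rw [Multiset.mem_toFinset, Polynomial.mem_roots hP, Polynomial.IsRoot.def, ← hs]
  simp only [P, Polynomial.eval_add, Polynomial.eval_mul, Polynomial.eval_C, Polynomial.eval_pow,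
    Polynomial.eval_X, pow_succ]
  ring

theorem card_bad_le [DecidableEq F] {z1 z2 : F} (h : z1 ≠ 0 ∨ z2 ≠ 0) :
    (Finset.univ.filter fun p : F × F =>
      nn σ p.1 + nn σ p.2 = 1 ∧ nn σ (p.1 * z1 - σ p.2 * z2) = 1).card ≤ (q + 1) * (q + 1) := by
  set B := Finset.univ.filter fun p : F × F =>
    nn σ p.1 + nn σ p.2 = 1 ∧ nn σ (p.1 * z1 - σ p.2 * z2) = 1 with hB
  have hmem : ∀ p ∈ B, nn σ p.1 + nn σ p.2 = 1 ∧ nn σ (p.1 * z1 - σ p.2 * z2) = 1 := fun p hp => by
    simpa [hB] using hp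
  set T := Finset.univ.filter fun t : F => (1 : F) * (t * σ t) + 0 * σ t + 0 * t + -1 = 0
  have hT : T.card ≤ q + 1 := card_roots_le hS 1 0 0 (-1) (Or.inr one_ne_zero)
  by_cases hz1 : z1 = 0
  · have hz2 : z2 ≠ 0 := h.resolve_left (not_not.2 hz1)
    subst hz1
    set e := (nn σ z2)⁻¹
    set R := Finset.univ.filter fun r : F => (1 : F) * (r * σ r) + 0 * σ r + 0 * r + -(1 - e) = 0
    have hR : R.card ≤ q + 1 := card_roots_le hS 1 0 0 _ (Or.inr one_ne_zero)
    refine (Finset.card_le_card_of_injOn (t := R ×ˢ T) (fun p => (p.1, -(σ p.2 * z2))) ?_ ?_).trans ?_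
    · intro p hp
      obtain ⟨h1, h2⟩ := hmem p (by simpa using hp)
      rw [mul_zero, zero_sub] at h2
      simp only [Finset.coe_product, Set.mem_prod, Finset.mem_coe, R, T, Finset.mem_filter, Finset.mem_univ,
        true_and]
      have he : nn σ p.2 = e := by
        refine eq_inv_of_mul_eq_one_left ?_
        rw [← h2]
        simp only [nn, map_mul, map_neg, hS.sigma_sigma]
        ring
      unfold nn at h1 h2 he
      exact ⟨by linear_combination h1 - he, by linear_combination h2⟩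
    · intro p _ p' _ hpp
      simp only [Prod.mk.injEq, neg_inj] at hpp
      exact Prod.ext hpp.1 (σ.injective (mul_right_cancel₀ hz2 hpp.2))
    · rw [Finset.card_product]; exact Nat.mul_le_mul hR hT
  · let f : F → Finset F := fun t => Finset.univ.filter fun S : F =>
      (nn σ z1 + nn σ z2) * (S * σ S) + (t * σ z2) * σ S + (σ t * z2) * S + (1 - nn σ z1) = 0
    have hf : ∀ t ∈ T, (f t).card ≤ q + 1 := fun t ht => by
      refine card_roots_le hS _ _ _ _ ?_
      by_cases hz2 : z2 = 0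
      · exact Or.inr (by rw [hz2, nn_zero, add_zero]; exact nn_ne_zero hz1)
      · refine Or.inl (mul_ne_zero ((map_ne_zero σ).2 fun e => ?_) hz2)
        simp [T, e] at ht
    refine (Finset.card_le_card_of_injOn (t := T.sigma f)
      (fun p => (⟨p.1 * z1 - σ p.2 * z2, σ p.2⟩ : Σ _ : F, F)) ?_ ?_).trans ?_
    · intro p hp
      obtain ⟨h1, h2⟩ := hmem p (by simpa using hp)
      simp only [Finset.mem_coe, Finset.mem_sigma, T, f, Finset.mem_filter, Finset.mem_univ, true_and]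
      simp only [nn, map_sub, map_mul, hS.sigma_sigma] at h1 h2 ⊢
      exact ⟨by linear_combination h2, by linear_combination z1 * σ z1 * h1 - h2⟩
    · intro p _ p' _ hpp
      simp only [Sigma.mk.injEq, heq_eq_eq] at hpp
      refine Prod.ext ?_ (σ.injective hpp.2)
      have := hpp.1
      rw [hpp.2] at this
      exact mul_right_cancel₀ hz1 (sub_left_injective this)
    · rw [Finset.card_sigma]
      exact (Finset.sum_le_card_nsmul _ _ _ hf).trans (by rw [smul_eq_mul]; exact Nat.mul_le_mul_right _ hT)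

/-- A row avoiding norm one against two vectors. -/
theorem exists_avoid (hq : 3 < q) {z1 z2 : F} (hz : z1 ≠ 0 ∨ z2 ≠ 0) (w1 w2 : F) :
    ∃ r s, nn σ r + nn σ s = 1 ∧ nn σ (r * z1 - σ s * z2) ≠ 1 ∧ nn σ (r * w1 - σ s * w2) ≠ 1 := by
  classical
  by_cases hw : w1 ≠ 0 ∨ w2 ≠ 0
  swap
  · push Not at hw
    obtain ⟨rfl, rfl⟩ := hw
    suffices ∃ r s, nn σ r + nn σ s = 1 ∧ nn σ (r * z1 - σ s * z2) ≠ 1 by
      obtain ⟨r, s, h1, h2⟩ := this
      exact ⟨r, s, h1, h2, by simp [nn]⟩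
    by_contra hc
    push Not at hc
    have e1 := hc 1 0 (by simp [nn])
    have e2 := hc 0 1 (by simp [nn])
    obtain ⟨s, hs, hs0, hs1⟩ := hS.avoid_two 0 1
    obtain ⟨r, hr⟩ := hS.exists_nn hs
    obtain ⟨t, ht⟩ := hS.exists_nn (a := 1 - s) (by rw [map_sub, map_one, hs])
    obtain ⟨η, hη, hη'⟩ := hS.exists_moved
    have e3 := hc r t (by rw [hr, ht]; ring)
    have e4 := hc (η * r) t (by
      rw [← hr] at ht
      simp only [nn, map_mul] at hη ht ⊢
      linear_combination r * σ r * hη + ht)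
    have e5 := hc (η * η * r) t (by
      rw [← hr] at ht
      simp only [nn, map_mul] at hη ht ⊢
      linear_combination r * σ r * (η * σ η + 1) * hη + ht)
    simp only [map_zero, zero_mul, sub_zero, one_mul, map_one, zero_sub, nn_neg] at e1 e2
    have hr0 : r ≠ 0 := fun e => hs0 (by rw [← hr, e, nn_zero])
    have ht0 : t ≠ 0 := fun e => hs1 (by rw [e, nn_zero] at ht; exact (sub_eq_zero.1 ht.symm).symm)
    have hz1 : z1 ≠ 0 := fun e => by rw [e, nn_zero] at e1; exact zero_ne_one e1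
    have hz2 : z2 ≠ 0 := fun e => by rw [e, nn_zero] at e2; exact zero_ne_one e2
    simp only [nn, map_sub, map_mul, hS.sigma_sigma] at hη hr ht e1 e2 e3 e4 e5
    have hA : r * z1 * t * σ z2 ≠ 0 := mul_ne_zero (mul_ne_zero (mul_ne_zero hr0 hz1) ht0) ((map_ne_zero σ).2 hz2)
    have k1 : r * z1 * t * σ z2 + σ r * σ z1 * σ t * z2 = 0 := by
      linear_combination r * σ r * e1 + t * σ t * e2 + hr + ht - e3
    have k2 : η * (r * z1 * t * σ z2) + σ η * (σ r * σ z1 * σ t * z2) = 0 := by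
      linear_combination η * σ η * r * σ r * e1 + r * σ r * hη + t * σ t * e2 + hr + ht - e4
    have : (η - σ η) * (r * z1 * t * σ z2) = 0 := by linear_combination k2 - σ η * k1
    exact hη' (sub_eq_zero.1 ((mul_eq_zero.1 this).resolve_right hA)).symm
  by_contra hc
  push Not at hc
  set R := Finset.univ.filter fun p : F × F => nn σ p.1 + nn σ p.2 = 1 with hR
  have hsub : R ⊆ (Finset.univ.filter fun p : F × F =>
      nn σ p.1 + nn σ p.2 = 1 ∧ nn σ (p.1 * z1 - σ p.2 * z2) = 1) ∪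
      (Finset.univ.filter fun p : F × F => nn σ p.1 + nn σ p.2 = 1 ∧ nn σ (p.1 * w1 - σ p.2 * w2) = 1) := by
    intro p hp
    simp only [hR, Finset.mem_filter, Finset.mem_univ, true_and] at hp
    simp only [Finset.mem_union, Finset.mem_filter, Finset.mem_univ, true_and]
    by_cases h1 : nn σ (p.1 * z1 - σ p.2 * z2) = 1
    · exact Or.inl ⟨hp, h1⟩
    · exact Or.inr ⟨hp, hc p.1 p.2 hp h1⟩
  have h1 := (Finset.card_le_card hsub).trans (Finset.card_union_le _ _)
  have h2 := card_bad_le hS hz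
  have h3 := card_bad_le hS hw
  have hcard : R.card = q * (q ^ 2 - 1) := by
    have := Classical.card_herm_one hS.invol hS.card_fix 2
    rw [if_pos (by decide), pow_one] at this
    rw [← this, hR, ← Fintype.card_subtype, ← Nat.card_eq_fintype_card]
    refine Nat.card_congr (Equiv.subtypeEquiv (finTwoArrowEquiv F).symm fun p => ?_)
    simp [Classical.hermB_apply, Fin.sum_univ_two, nn, finTwoArrowEquiv, mul_comm]
  have h4 : q * (q ^ 2 - 1) ≤ 2 * ((q + 1) * (q + 1)) := by omega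
  have h5 : q * (q ^ 2 - 1) = (q * (q - 1)) * (q + 1) := by
    rw [show q ^ 2 - 1 = (q + 1) * (q - 1) by rw [← Nat.sq_sub_sq, one_pow]]; ring
  rw [h5, ← mul_assoc] at h4
  have h6 := Nat.le_of_mul_le_mul_right h4 (by omega)
  have : 4 * (q - 1) ≤ q * (q - 1) := Nat.mul_le_mul_right _ hq
  omega

end Count

/-! ### The amalgam -/

/-- `π` has trivial kernel on `X`. -/
def KerFree (π : U →* SUn N F q) (X : Subgroup U) : Prop := ∀ x ∈ X, π x = 1 → x = 1

variable {π : U →* SUn N F q} {A : ℕ → Subgroup U}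

theorem KerFree.eq {X : Subgroup U} (h : KerFree π X) {x y : U} (hx : x ∈ X) (hy : y ∈ X)
    (e : π x = π y) : x = y :=
  inv_mul_eq_one.1 (h _ (X.mul_mem (X.inv_mem hx) hy) (by rw [map_mul, map_inv, e, inv_mul_cancel]))

/-- The amalgam. -/
structure Amal (σ : F →+* F) (π : U →* SUn N F q) (A : ℕ → Subgroup U) : Prop where
  fld : Fld σ q
  map : ∀ i, i + 1 < N → (A i).map π = blk i
  freeA : ∀ i, i + 1 < N → KerFree π (A i)
  free : ∀ i, i + 2 < N → KerFree π (A i ⊔ A (i + 1))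
  comm : ∀ i j, i + 2 ≤ j → j + 1 < N → ∀ x ∈ A i, ∀ y ∈ A j, x * y = y * x

/-- The subgroup generated by the members of index at least `k`. -/
def lvl (N : ℕ) (A : ℕ → Subgroup U) (k : ℕ) : Subgroup U := ⨆ (i : ℕ) (_ : k ≤ i ∧ i + 1 < N), A i

theorem le_lvl {k i : ℕ} (h : k ≤ i) (h' : i + 1 < N) : A i ≤ lvl N A k := le_iSup₂_of_le i ⟨h, h'⟩ le_rfl

theorem lvl_mono {k k' : ℕ} (h : k ≤ k') : lvl N A k' ≤ lvl N A k :=
  iSup₂_le fun _ hi => le_lvl (h.trans hi.1) hi.2

theorem Amal.map_lvl (am : Amal σ π A) (k : ℕ) : (lvl N A k).map π = lowFix k := by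
  rw [← gen_eq_lowFix am.fld k]
  simp only [lvl, gen, Subgroup.map_iSup]
  exact iSup_congr fun i => iSup_congr fun h => am.map i h.2

/-- The data of a step. -/
structure Step (σ : F →+* F) (π : U →* SUn N F q) (A : ℕ → Subgroup U) (k : ℕ) : Prop where
  am : Amal σ π A
  lt : k + 3 < N
  ih : KerFree π (lvl N A (k + 1))

namespace Step

variable {k : ℕ} (S : Step σ π A k)
include S

/-- The first coordinate. -/
def c0 : Fin N := ⟨k, by have := S.lt; omega⟩

/-- The second coordinate. -/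
def c1 : Fin N := ⟨k + 1, by have := S.lt; omega⟩

/-- The third coordinate. -/
def c2 : Fin N := ⟨k + 2, by have := S.lt; omega⟩

theorem ne01 : S.c0 ≠ S.c1 := Fin.ne_of_val_ne (by simp [c0, c1])
theorem ne02 : S.c0 ≠ S.c2 := Fin.ne_of_val_ne (by simp [c0, c2])
theorem ne12 : S.c1 ≠ S.c2 := Fin.ne_of_val_ne (by simp [c1, c2])

set_option linter.unusedVariables false
set_option linter.unreachableTactic false
set_option linter.unusedTactic false

local notation "hS" => S.am.fld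
local notation "KK" => lvl N A (k + 1)
local notation "MM" => lvl N A (k + 2)
local notation "PP" => A k ⊔ A (k + 1)

theorem lt0 : k + 1 < N := by have := S.lt; omega
theorem lt1 : k + 1 + 1 < N := by have := S.lt; omega

theorem B_le_K : A (k + 1) ≤ KK := le_lvl le_rfl S.lt1

omit S in
theorem M_le_K : MM ≤ KK := lvl_mono (Nat.le_succ _)

theorem P_le : PP ≤ lvl N A k := sup_le (le_lvl le_rfl S.lt0) (le_lvl (Nat.le_succ _) S.lt1)

theorem img_lvl {j : ℕ} {x : U} (hx : x ∈ lvl N A j) : π x ∈ lowFix j :=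
  S.am.map_lvl j ▸ Subgroup.mem_map_of_mem π hx

theorem exists_lift {j : ℕ} {g : SUn N F q} (hg : g ∈ lowFix j) : ∃ x ∈ lvl N A j, π x = g := by
  rw [← S.am.map_lvl j] at hg
  exact hg

theorem imgA {x : U} (hx : x ∈ A k) : π x ∈ blk k := S.am.map k S.lt0 ▸ Subgroup.mem_map_of_mem π hx

theorem imgB {x : U} (hx : x ∈ A (k + 1)) : π x ∈ blk (k + 1) :=
  S.am.map (k + 1) S.lt1 ▸ Subgroup.mem_map_of_mem π hx

theorem exists_liftA {g : SUn N F q} (hg : g ∈ blk k) : ∃ x ∈ A k, π x = g := by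
  rw [← S.am.map k S.lt0] at hg
  exact hg

theorem exists_liftB {g : SUn N F q} (hg : g ∈ blk (k + 1)) : ∃ x ∈ A (k + 1), π x = g := by
  rw [← S.am.map (k + 1) S.lt1] at hg
  exact hg

theorem blkA {g : SUn N F q} (hg : g ∈ fixSet fun l => l ≠ S.c0 ∧ l ≠ S.c1) : g ∈ blk k :=
  mem_blk_of_pair (i := S.c0) (j := S.c1) rfl hg

theorem blkB {g : SUn N F q} (hg : g ∈ fixSet fun l => l ≠ S.c1 ∧ l ≠ S.c2) : g ∈ blk (k + 1) :=
  mem_blk_of_pair (i := S.c1) (j := S.c2) rfl hg

/-- Coordinates outside the first two are kept by `A k`. -/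
theorem A_coord {u : U} (hu : u ∈ A k) {l : Fin N} (h0 : l ≠ S.c0) (h1 : l ≠ S.c1) (x : Vec N F) :
    ap (π u) x l = x l :=
  coord_fix hS (S.imgA hu l ⟨fun e => h0 (Fin.ext e), fun e => h1 (Fin.ext e)⟩) x

theorem B_coord {b : U} (hb : b ∈ A (k + 1)) {l : Fin N} (h1 : l ≠ S.c1) (h2 : l ≠ S.c2) (x : Vec N F) :
    ap (π b) x l = x l :=
  coord_fix hS (S.imgB hb l ⟨fun e => h1 (Fin.ext e), fun e => h2 (Fin.ext e)⟩) x

theorem K_fix {g : U} (hg : g ∈ KK) : ap (π g) (ev S.c0) = ev S.c0 := S.img_lvl hg _ (Nat.lt_succ_self k)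

theorem K_coord {g : U} (hg : g ∈ KK) (x : Vec N F) : ap (π g) x S.c0 = x S.c0 := coord_fix hS (S.K_fix hg) x

theorem M_fix {g : U} (hg : g ∈ MM) : ap (π g) (ev S.c1) = ev S.c1 := S.img_lvl hg _ (Nat.lt_succ_self (k + 1))

theorem imgP {p : U} (hp : p ∈ PP) :
    π p ∈ (fixSet fun l : Fin N => (l : ℕ) < k ∨ k + 2 < (l : ℕ) : Subgroup (SUn N F q)) := by
  have h : PP ≤ Subgroup.comap π (fixSet fun l : Fin N => (l : ℕ) < k ∨ k + 2 < (l : ℕ)) :=
    sup_le (fun x hx l hl => S.imgA hx l ⟨by omega, by omega⟩) fun x hx l hl => S.imgB hx l ⟨by omega, by omega⟩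
  exact h hp

theorem P_coord {p : U} (hp : p ∈ PP) {l : Fin N} (hl : k + 2 < (l : ℕ)) (x : Vec N F) : ap (π p) x l = x l :=
  coord_fix hS (S.imgP hp l (Or.inr hl)) x

theorem P_stab {p : U} (hp : p ∈ PP) (he : ap (π p) (ev S.c0) = ev S.c0) : p ∈ A (k + 1) := by
  obtain ⟨b, hb, e⟩ := S.exists_liftB (g := π p) fun l hl => by
    rcases lt_trichotomy (l : ℕ) k with h | h | h
    · exact S.imgP hp l (Or.inl h)
    · rw [show l = S.c0 from Fin.ext h]; exact he
    · exact S.imgP hp l (Or.inr (by omega))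
  rwa [(S.am.free k (by have := S.lt; omega)).eq hp (Subgroup.mem_sup_right hb) e.symm]

theorem P_stab2 {p : U} (hp : p ∈ PP) (he : ap (π p) (ev S.c2) = ev S.c2) : p ∈ A k := by
  obtain ⟨b, hb, e⟩ := S.exists_liftA (g := π p) fun l hl => by
    rcases lt_trichotomy (l : ℕ) (k + 2) with h | h | h
    · exact S.imgP hp l (Or.inl (by omega))
    · rw [show l = S.c2 from Fin.ext h]; exact he
    · exact S.imgP hp l (Or.inr h)
  rwa [(S.am.free k (by have := S.lt; omega)).eq hp (Subgroup.mem_sup_left hb) e.symm]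

theorem commMA {m u : U} (hm : m ∈ MM) (hu : u ∈ A k) : m * u = u * m := by
  have h : MM ≤ Subgroup.centralizer (A k : Set U) := iSup₂_le fun i hi y hy =>
    Subgroup.mem_centralizer_iff.2 fun x hx => S.am.comm k i hi.1 hi.2 x hx y hy
  exact ((Subgroup.mem_centralizer_iff.1 (h hm)) u hu).symm

/-- The domain: unit vectors supported from `k` on. -/
def Dom (S : Step σ π A k) (x : Vec N F) : Prop := Supp k x ∧ ip σ x x = 1

/-- The vectors where the coset is defined directly. -/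
def Good (S : Step σ π A k) (x : Vec N F) : Prop := nn σ (x S.c0) ≠ 1

theorem dom_ap {g : U} (hg : g ∈ lvl N A k) {x : Vec N F} (hx : S.Dom x) : S.Dom (ap (π g) x) :=
  ⟨supp_ap hS hx.1 (S.img_lvl hg), by rw [ip_ap hS, hx.2]⟩

theorem dom_ev : S.Dom (ev S.c0) := ⟨supp_ev le_rfl, by rw [ip_ev, ev_self]⟩

theorem sum_pair_inv {i j : Fin N} (hij : i ≠ j) {g : SUn N F q} (hg : ∀ l, l ≠ i → l ≠ j → ap g (ev l) = ev l)
    (x : Vec N F) : nn σ (ap g x i) + nn σ (ap g x j) = nn σ (x i) + nn σ (x j) := by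
  classical
  have h := ip_ap hS g x x
  rw [ip_self, ip_self, ← Finset.sum_add_sum_compl {i, j}, ← Finset.sum_add_sum_compl {i, j} fun l => nn σ (x l),
    Finset.sum_pair hij, Finset.sum_pair hij] at h
  refine add_right_cancel (h.trans (congrArg₂ (· + ·) rfl (Finset.sum_congr rfl fun l hl => ?_)))
  simp only [Finset.mem_compl, Finset.mem_insert, Finset.mem_singleton, not_or] at hl
  rw [coord_fix hS (hg l hl.1 hl.2)]

theorem ip_update (x : Vec N F) (l : Fin N) :
    ip σ x x = ip σ (update x l 0) (update x l 0) + nn σ (x l) := by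
  classical
  rw [ip_self, ip_self, ← Finset.add_sum_erase _ _ (Finset.mem_univ l), ← Finset.add_sum_erase _ (fun i => nn σ (update x l 0 i)) (Finset.mem_univ l),
    update_self, nn_zero, zero_add, add_comm]
  exact congrArg (· + _) (Finset.sum_congr rfl fun i hi => by rw [update_of_ne (Finset.mem_erase.1 hi).1])

theorem pairEl_ev {i j : Fin N} (hij : i ≠ j) (r s : F) (h : nn σ r + nn σ s = 1) :
    ap (pairEl hS hij r s h) (ev i) = r • ev i + s • ev j := by
  funext l
  by_cases h1 : l = i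
  · subst h1; simp [pairEl_fst hS, ev_self, ev_ne hij, ev_ne hij.symm]
  · by_cases h2 : l = j
    · subst h2; simp [pairEl_snd hS, ev_self, ev_ne h1]
    · simp [pairEl_other hS hij _ _ _ _ h1 h2, ev_ne h1, ev_ne h2]

/-- The image of the first basis vector under `A k`. -/
theorem A_image {h : U} (hh : h ∈ A k) : ∃ a b, ap (π h) (ev S.c0) = a • ev S.c0 + b • ev S.c1 ∧
    nn σ a + nn σ b = 1 := by
  refine ⟨ap (π h) (ev S.c0) S.c0, ap (π h) (ev S.c0) S.c1, funext fun l => ?_, ?_⟩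
  · by_cases h1 : l = S.c0
    · subst h1; simp [ev_self, ev_ne S.ne01]
    · by_cases h2 : l = S.c1
      · subst h2; simp [ev_self, ev_ne h1]
      · rw [S.A_coord hh h1 h2]; simp [ev_ne h1, ev_ne h2]
  · rw [S.sum_pair_inv S.ne01 (fun l h1 h2 => S.imgA hh l ⟨fun e => h1 (Fin.ext e), fun e => h2 (Fin.ext e)⟩),
      ev_self, ev_ne S.ne01.symm, nn_zero, nn, map_one, mul_one, add_zero]

open _root_.Classical in
/-- The coset of a good vector. -/
noncomputable def big (S : Step σ π A k) (x : Vec N F) : U ⧸ KK :=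
  if h : ∃ p : U × U, p.1 ∈ KK ∧ p.2 ∈ A k ∧ ap (π (p.1 * p.2)) (ev S.c0) = x then
    ((Classical.choose h).1 * (Classical.choose h).2 : U)
  else ((1 : U) : U ⧸ KK)

theorem big_eq {g h : U} (hg : g ∈ KK) (hh : h ∈ A k) {x : Vec N F} (he : ap (π (g * h)) (ev S.c0) = x)
    (hx : S.Good x) : S.big x = ((g * h : U) : U ⧸ KK) := by
  have hex : ∃ p : U × U, p.1 ∈ KK ∧ p.2 ∈ A k ∧ ap (π (p.1 * p.2)) (ev S.c0) = x := ⟨(g, h), hg, hh, he⟩
  rw [big, dif_pos hex]
  obtain ⟨hg', hh', he'⟩ := Classical.choose_spec hex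
  set g' := (Classical.choose hex).1
  set h' := (Classical.choose hex).2
  refine (QuotientGroup.eq.2 ?_).symm
  obtain ⟨a, b, hab, -⟩ := S.A_image hh
  obtain ⟨a', b', hab', hn'⟩ := S.A_image hh'
  set d := g⁻¹ * g'
  have hd : d ∈ KK := mul_mem (inv_mem hg) hg'
  have hdh : ap (π d) (ap (π h') (ev S.c0)) = ap (π h) (ev S.c0) := by
    rw [← ap_mul, ← map_mul, mul_assoc, map_mul, ap_mul, he', ← he, map_mul, ap_mul, map_inv, ap_inv_ap]
  have ha' : x S.c0 = a' := by
    rw [← he', map_mul, ap_mul, S.K_coord hg', hab']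
    simp [ev_self, ev_ne S.ne01]
  have hb' : b' ≠ 0 := fun e => hx (by rw [ha']; rwa [e, nn_zero, add_zero] at hn')
  rw [hab, hab', ap_add, ap_smul, ap_smul, S.K_fix hd] at hdh
  have haa : a' = a := by
    have := congrFun hdh S.c0
    simpa [ev_self, ev_ne S.ne01, S.K_coord hd] using this
  rw [haa] at hdh
  have hde : ap (π d) (ev S.c1) = (b / b') • ev S.c1 := by
    rw [div_eq_inv_mul, mul_smul, ← add_left_cancel hdh, smul_smul, inv_mul_cancel₀ hb', one_smul]
  have hl : nn σ (b / b') + nn σ (0 : F) = 1 := by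
    rw [nn_zero, add_zero]
    have h1 := ip_ap hS (π d) (ev S.c1) (ev S.c1)
    rw [hde, ip_ev, ev_self] at h1
    rw [← h1]
    simp [ip, nn, ev, Pi.single_apply, map_mul, apply_ite σ]
  obtain ⟨d0, hd0, hd0e⟩ := S.exists_liftB (S.blkB (pairEl_mem hS S.ne12 (b / b') 0 hl))
  have hd0c : ap (π d0) (ev S.c1) = (b / b') • ev S.c1 := by
    rw [hd0e, S.pairEl_ev S.ne12, zero_smul, add_zero]
  have hd0K : d0 ∈ KK := S.B_le_K hd0
  obtain ⟨m, hm, hme⟩ := S.exists_lift (j := k + 2) (g := π (d0⁻¹ * d)) fun l hl' => by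
    rcases Nat.lt_succ_iff_lt_or_eq.1 hl' with h1 | h1
    · exact S.img_lvl (mul_mem (inv_mem hd0K) hd) l h1
    · rw [show l = S.c1 from Fin.ext h1, map_mul, ap_mul, hde, map_inv, ← hd0c, ap_inv_ap]
  have hdm : d = d0 * m := by
    rw [S.ih.eq (M_le_K hm) (mul_mem (inv_mem hd0K) hd) hme]; group
  have hq : h⁻¹ * d0 * h' ∈ A (k + 1) := by
    refine S.P_stab (mul_mem (mul_mem (inv_mem (Subgroup.mem_sup_left hh)) (Subgroup.mem_sup_right hd0))
      (Subgroup.mem_sup_left hh')) ?_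
    have hfix : ap (π m) (ap (π h') (ev S.c0)) = ap (π h') (ev S.c0) := by
      rw [hab', ap_add, ap_smul, ap_smul, S.K_fix (M_le_K hm), S.M_fix hm]
    rw [map_mul, map_mul, ap_mul, ap_mul, ← hfix, ← ap_mul (π d0), ← map_mul π d0, ← hdm, ← ap_mul (π d),
      ← map_mul π d, show d * h' = g⁻¹ * (g' * h') by rw [mul_assoc], map_mul π g⁻¹, ap_mul, he', ← he,
      map_inv π g, map_mul π g, ap_mul, ap_inv_ap, map_inv, ap_inv_ap]
  have e : (g * h)⁻¹ * (g' * h') = h⁻¹ * d0 * h' * m := by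
    calc (g * h)⁻¹ * (g' * h') = h⁻¹ * d * h' := by simp only [d]; group
      _ = h⁻¹ * d0 * (m * h') := by rw [hdm]; group
      _ = h⁻¹ * d0 * (h' * m) := by rw [S.commMA hm hh']
      _ = _ := by group
  rw [e]
  exact mul_mem (S.B_le_K hq) (M_le_K hm)

theorem exists_rep {x : Vec N F} (hx : S.Dom x) (hg : S.Good x) :
    ∃ g ∈ KK, ∃ h ∈ A k, ap (π (g * h)) (ev S.c0) = x := by
  set v : Vec N F := update x S.c0 0 with hv
  have hvs : Supp (S.c1 : ℕ) v := fun l hl => by
    by_cases h1 : l = S.c0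
    · simp [hv, h1]
    · rw [hv, update_of_ne h1]
      exact hx.1 l (by have := Fin.val_ne_of_ne h1; simp [c0, c1] at this hl; omega)
  have hvn : ip σ v v = 1 - nn σ (x S.c0) := by rw [← hx.2, S.ip_update x S.c0]; ring
  obtain ⟨g, hg', c, hc, hcn⟩ := exists_axis hS (N - k - 2) S.c1 (by have := S.lt; simp [c1]; omega) v hvs
    (by rw [hvn]; exact sub_ne_zero.2 (Ne.symm hg))
  rw [gen_eq_lowFix hS] at hg'
  obtain ⟨G, hG, rfl⟩ := S.exists_lift hg'
  have hn : nn σ (x S.c0) + nn σ c = 1 := by rw [hcn, hvn]; ring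
  obtain ⟨h, hh, he⟩ := S.exists_liftA (S.blkA (pairEl_mem hS S.ne01 (x S.c0) c hn))
  refine ⟨G⁻¹, inv_mem hG, h, hh, ?_⟩
  rw [map_mul, ap_mul, he, S.pairEl_ev S.ne01, ap_add, ap_smul, ← hc, map_inv, ap_inv_ap, ← map_inv,
    S.K_fix (inv_mem hG)]
  funext l
  by_cases h1 : l = S.c0
  · subst h1; simp [hv, ev_self]
  · simp [hv, update_of_ne h1, ev_ne h1]

theorem big_K {m : U} (hm : m ∈ KK) {x : Vec N F} (hx : S.Dom x) (hg : S.Good x) :
    S.big (ap (π m) x) = m • S.big x := by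
  obtain ⟨g, hg', h, hh, e⟩ := S.exists_rep hx hg
  rw [S.big_eq hg' hh e hg, S.big_eq (mul_mem hm hg') hh (by rw [mul_assoc, map_mul, ap_mul, e])
    (by rwa [Good, S.K_coord hm]), MulAction.Quotient.smul_coe, smul_eq_mul, mul_assoc]

/-- Vectors living on the first three coordinates. -/
def Three (S : Step σ π A k) (x : Vec N F) : Prop := ∀ l : Fin N, k + 2 < (l : ℕ) → x l = 0

theorem three_rep {x : Vec N F} (hx : S.Dom x) (hg : S.Good x) (h3 : S.Three x) :
    ∃ g ∈ A (k + 1), ∃ h ∈ A k, ap (π (g * h)) (ev S.c0) = x := by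
  have h0 : ∀ l, l ≠ S.c0 → l ≠ S.c1 → l ≠ S.c2 → x l = 0 := fun l a b c => by
    rcases lt_or_ge (l : ℕ) k with h | h
    · exact hx.1 l h
    · have := Fin.val_ne_of_ne a; have := Fin.val_ne_of_ne b; have := Fin.val_ne_of_ne c
      exact h3 l (by simp [c0, c1, c2] at *; omega)
  have hsum : nn σ (x S.c1) + nn σ (x S.c2) = 1 - nn σ (x S.c0) := by
    rw [← hx.2, S.ip_update x S.c0, ip_self_two S.ne12 (fun l b c => ?_)]
    · simp [update_of_ne S.ne01.symm, update_of_ne S.ne02.symm]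
    · by_cases a : l = S.c0
      · simp [a]
      · rw [update_of_ne a]; exact h0 l a b c
  obtain ⟨c, hc⟩ := (hS).exists_nn (a := nn σ (x S.c1) + nn σ (x S.c2))
    (by rw [map_add, (hS).fix_nn, (hS).fix_nn])
  obtain ⟨g, hgm, he, hs⟩ := exists_move hS S.ne12 x c (Or.inl (by rw [hsum]; exact sub_ne_zero.2 (Ne.symm hg)))
  have hz : ap g x S.c2 = 0 := nn_eq_zero.1 (by rw [hc] at hs; linear_combination -hs)
  obtain ⟨G, hG, rfl⟩ := S.exists_liftB (S.blkB hgm)
  have hn : nn σ (x S.c0) + nn σ c = 1 := by rw [hc, hsum]; ring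
  obtain ⟨h, hh, he'⟩ := S.exists_liftA (S.blkA (pairEl_mem hS S.ne01 (x S.c0) c hn))
  refine ⟨G⁻¹, inv_mem hG, h, hh, ?_⟩
  have e : ap (π G) x = x S.c0 • ev S.c0 + c • ev S.c1 := by
    funext l
    by_cases h1 : l = S.c0
    · subst h1; rw [S.B_coord hG S.ne01 S.ne02]; simp [ev_self, ev_ne S.ne01]
    · by_cases h2 : l = S.c1
      · subst h2; rw [he]; simp [ev_self, ev_ne h1]
      · by_cases h4 : l = S.c2
        · subst h4; rw [hz]; simp [ev_ne h1, ev_ne h2]
        · rw [S.B_coord hG h2 h4, h0 l h1 h2 h4]; simp [ev_ne h1, ev_ne h2]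
  rw [map_mul, ap_mul, he', S.pairEl_ev S.ne01, ← e, map_inv, ap_inv_ap]

theorem big_P {p : U} (hp : p ∈ PP) (hg : S.Good (ap (π p) (ev S.c0))) :
    S.big (ap (π p) (ev S.c0)) = (p : U ⧸ KK) := by
  obtain ⟨g, hg', h, hh, e⟩ := S.three_rep (S.dom_ap (S.P_le hp) S.dom_ev) hg fun l hl => by
    rw [S.P_coord hp hl]
    exact ev_ne fun e => by rw [e] at hl; simp [c0] at hl <;> omega
  rw [S.big_eq (S.B_le_K hg') hh e hg, eq_comm, QuotientGroup.eq]
  refine S.B_le_K (S.P_stab (mul_mem (inv_mem hp) (mul_mem (Subgroup.mem_sup_right hg') (Subgroup.mem_sup_left hh))) ?_)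
  rw [map_mul, ap_mul, e, map_inv, ap_inv_ap]

theorem good_A_iff {u : U} (hu : u ∈ A k) {m : U} (hm : m ∈ MM) (x : Vec N F) :
    S.Good (ap (π u) (ap (π m) x)) ↔ S.Good (ap (π u) x) := by
  rw [← ap_mul, ← map_mul, ← S.commMA hm hu, map_mul, ap_mul, Good, Good, S.K_coord (M_le_K hm)]

/-- Transport along `M`. -/
theorem evA_transport {m u : U} (hm : m ∈ MM) (hu : u ∈ A k) {x : Vec N F} (hx : S.Dom x) (hg : S.Good x)
    (hg' : S.Good (ap (π u) x)) (h : S.big (ap (π u) (ap (π m) x)) = u • S.big (ap (π m) x)) :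
    S.big (ap (π u) x) = u • S.big x := by
  rw [← ap_mul, ← map_mul, ← S.commMA hm hu, map_mul, ap_mul,
    S.big_K (M_le_K hm) (S.dom_ap (le_lvl le_rfl S.lt0 hu) hx) hg', S.big_K (M_le_K hm) hx hg,
    ← mul_smul u m, ← S.commMA hm hu, mul_smul] at h
  exact smul_left_cancel m h

theorem evA_three {u : U} (hu : u ∈ A k) {x : Vec N F} (hx : S.Dom x) (h3 : S.Three x) (hg : S.Good x)
    (hg' : S.Good (ap (π u) x)) : S.big (ap (π u) x) = u • S.big x := by
  obtain ⟨g, hgm, h, hh, rfl⟩ := S.three_rep hx hg h3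
  have hp : g * h ∈ PP := mul_mem (Subgroup.mem_sup_right hgm) (Subgroup.mem_sup_left hh)
  rw [S.big_P hp hg, ← ap_mul, ← map_mul, S.big_P (mul_mem (Subgroup.mem_sup_left hu) hp)
    (by rwa [map_mul π u, ap_mul]), MulAction.Quotient.smul_coe, smul_eq_mul]

theorem evA_aniso {u : U} (hu : u ∈ A k) {x : Vec N F} (hx : S.Dom x) (hn : nn σ (x S.c0) + nn σ (x S.c1) ≠ 1)
    (hg : S.Good x) (hg' : S.Good (ap (π u) x)) : S.big (ap (π u) x) = u • S.big x := by
  set w : Vec N F := update (update x S.c0 0) S.c1 0 with hw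
  have hws : Supp (S.c2 : ℕ) w := fun l hl => by
    by_cases h1 : l = S.c1
    · simp [hw, h1]
    · rw [hw, update_of_ne h1]
      by_cases h0 : l = S.c0
      · simp [h0]
      · rw [update_of_ne h0]
        exact hx.1 l (by
          have := Fin.val_ne_of_ne h0; have := Fin.val_ne_of_ne h1; simp [c0, c1, c2] at *; omega)
  have hwn : ip σ w w = 1 - (nn σ (x S.c0) + nn σ (x S.c1)) := by
    rw [← hx.2, S.ip_update x S.c0, S.ip_update (update x S.c0 0) S.c1, update_of_ne S.ne01.symm]; ring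
  obtain ⟨g, hgm, c, hc, -⟩ := exists_axis hS (N - k - 3) S.c2 (by have := S.lt; simp [c2]; omega) w hws
    (by rw [hwn]; exact sub_ne_zero.2 (Ne.symm hn))
  rw [gen_eq_lowFix hS] at hgm
  obtain ⟨m, hm, rfl⟩ := S.exists_lift hgm
  have hgy : S.Good (ap (π m) x) := by rwa [Good, S.K_coord (M_le_K hm)]
  refine S.evA_transport hm hu hx hg hg' (S.evA_three hu (S.dom_ap (lvl_mono (Nat.le_add_right k 2) hm) hx) ?_
    hgy ((S.good_A_iff hu hm x).2 hg'))
  intro l hl
  have hd : x = x S.c0 • ev S.c0 + x S.c1 • ev S.c1 + w := by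
    funext i
    by_cases h0 : i = S.c0
    · subst h0; simp [hw, ev_self, ev_ne S.ne01, update_of_ne S.ne01]
    · by_cases h1 : i = S.c1
      · subst h1; simp [hw, ev_self, ev_ne h0]
      · simp [hw, ev_ne h0, ev_ne h1, update_of_ne h0, update_of_ne h1]
  rw [hd, ap_add, ap_add, ap_smul, ap_smul, S.K_fix (M_le_K hm), S.M_fix hm, hc]
  have n0 : l ≠ S.c0 := fun e => by rw [e] at hl; simp [c0] at hl <;> omega
  have n1 : l ≠ S.c1 := fun e => by rw [e] at hl; simp [c1] at hl <;> omega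
  have n2 : l ≠ S.c2 := fun e => by rw [e] at hl; simp [c2] at hl
  simp [ev_ne n0, ev_ne n1, ev_ne n2]

/-- Inside one slice, all good vectors are reached equivariantly from one of them. -/
theorem exists_slice_path {z0 : Vec N F} (h00 : z0 S.c0 = 0) (h01 : z0 S.c1 = 0) (hμ : nn σ (z0 S.c2) ≠ 0)
    (hq : 3 < q ∨ nn σ (z0 S.c2) = 1) (hd0 : S.Dom z0) {z : Vec N F} (hz : S.Dom z) (hgz : S.Good z)
    (hsl : ∀ l : Fin N, k + 2 < (l : ℕ) → z l = z0 l)
    (hsum : nn σ (z S.c0) + nn σ (z S.c1) + nn σ (z S.c2) = nn σ (z0 S.c2)) :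
    ∃ p ∈ PP, ap (π p) z0 = z ∧ S.big z = p • S.big z0 := by
  set μ := nn σ (z0 S.c2)
  let Q : Vec N F → Prop := fun z => ∃ p ∈ PP, ap (π p) z0 = z ∧ S.big z = p • S.big z0
  let Sl : Vec N F → Prop := fun z => S.Dom z ∧ (∀ l : Fin N, k + 2 < (l : ℕ) → z l = z0 l) ∧
    nn σ (z S.c0) + nn σ (z S.c1) + nn σ (z S.c2) = μ
  have slB : ∀ {b : U}, b ∈ A (k + 1) → ∀ {z}, Sl z → Sl (ap (π b) z) := fun {b} hb {z} ⟨h1, h2, h3⟩ =>
    ⟨S.dom_ap (le_lvl (Nat.le_succ k) S.lt1 hb) h1,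
      fun l hl => by rw [S.P_coord (Subgroup.mem_sup_right hb) hl, h2 l hl], by
      rw [S.B_coord hb S.ne01 S.ne02, add_assoc,
        S.sum_pair_inv S.ne12 (fun l a b => S.imgB hb l ⟨fun e => a (Fin.ext e), fun e => b (Fin.ext e)⟩),
        ← add_assoc, h3]⟩
  have slA : ∀ {u : U}, u ∈ A k → ∀ {z}, Sl z → Sl (ap (π u) z) := fun {u} hu {z} ⟨h1, h2, h3⟩ =>
    ⟨S.dom_ap (le_lvl le_rfl S.lt0 hu) h1,
      fun l hl => by rw [S.P_coord (Subgroup.mem_sup_left hu) hl, h2 l hl], by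
      rw [S.A_coord hu S.ne02.symm S.ne12.symm,
        S.sum_pair_inv S.ne01 (fun l a b => S.imgA hu l ⟨fun e => a (Fin.ext e), fun e => b (Fin.ext e)⟩),
        h3]⟩
  have backB : ∀ {b : U}, b ∈ A (k + 1) → ∀ {z}, Sl z → S.Good z → Q (ap (π b) z) → Q z := by
    rintro b hb z hz hgz ⟨p, hp, e1, e2⟩
    refine ⟨b⁻¹ * p, mul_mem (inv_mem (Subgroup.mem_sup_right hb)) hp, ?_, ?_⟩
    · rw [map_mul, ap_mul, e1, map_inv, ap_inv_ap]
    · rw [mul_smul, ← e2, S.big_K (S.B_le_K hb) hz.1 hgz, inv_smul_smul]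
  have backA : ∀ {u : U}, u ∈ A k → ∀ {z}, Sl z → S.Good z → S.Good (ap (π u) z) →
      nn σ (z S.c0) + nn σ (z S.c1) ≠ 1 → Q (ap (π u) z) → Q z := by
    rintro u hu z hz hgz hgu hn ⟨p, hp, e1, e2⟩
    refine ⟨u⁻¹ * p, mul_mem (inv_mem (Subgroup.mem_sup_left hu)) hp, ?_, ?_⟩
    · rw [map_mul, ap_mul, e1, map_inv, ap_inv_ap]
    · rw [mul_smul, ← e2, S.evA_aniso hu hz.1 hn hgz hgu, inv_smul_smul]
  have good0 : ∀ {z : Vec N F}, z S.c0 = 0 → S.Good z := fun h => by simp [Good, h, nn]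
  -- first coordinate zero
  have hR : ∀ {z}, Sl z → z S.c0 = 0 → Q z := by
    intro z hz h0
    obtain ⟨g, hgm, he, hs⟩ := exists_move hS S.ne12 z (z0 S.c2)
      (Or.inl (by have h3 := hz.2.2; rw [h0, nn_zero, zero_add] at h3; rw [h3]; exact hμ))
    obtain ⟨b, hb, rfl⟩ := S.exists_liftB (S.blkB hgm)
    refine backB hb hz (good0 h0) ?_
    have hz' := slB hb hz
    have h0' : ap (π b) z S.c0 = 0 := by rw [S.B_coord hb S.ne01 S.ne02, h0]
    have h2' : ap (π b) z S.c2 = 0 := nn_eq_zero.1 (by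
      have h3 := hz'.2.2
      rw [h0', nn_zero, zero_add, he] at h3
      linear_combination h3)
    obtain ⟨t, ht, hte⟩ := S.exists_liftB (S.blkB (pairEl_mem hS S.ne12 0 1 (by simp [nn])))
    refine backB ht hz' (good0 h0') ⟨1, one_mem _, ?_, ?_⟩ <;>
    · have key : ap (π t) (ap (π b) z) = z0 := by
        funext l
        rw [hte]
        change ap (turn hS S.ne12) (ap (π b) z) l = z0 l
        by_cases h1 : l = S.c1
        · subst h1; rw [turn_fst hS, h2', neg_zero, h01]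
        · by_cases h2 : l = S.c2
          · subst h2; rw [turn_snd hS, he]
          · rw [turn_other hS S.ne12 _ h1 h2]
            by_cases h4 : l = S.c0
            · subst h4; rw [h0', h00]
            · rcases lt_or_ge (l : ℕ) k with h | h
              · rw [hz'.1.1 l h, hd0.1 l h]
              · refine hz'.2.1 l ?_
                have := Fin.val_ne_of_ne h4; have := Fin.val_ne_of_ne h1; have := Fin.val_ne_of_ne h2
                simp [c0, c1, c2] at *; omega
      simp [key]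
  -- second coordinate zero
  have hP1 : ∀ {z}, Sl z → S.Good z → z S.c1 = 0 → Q z := by
    intro z hz hgz h1
    obtain ⟨t, ht, hte⟩ := S.exists_liftA (S.blkA (pairEl_mem hS S.ne01 0 1 (by simp [nn])))
    have h0 : ap (π t) z S.c0 = 0 := by
      rw [hte]; exact (turn_fst hS S.ne01 z).trans (by rw [h1, neg_zero])
    exact backA ht hz hgz (good0 h0) (by rw [h1, nn_zero, add_zero]; exact hgz) (hR (slA ht hz) h0)
  have main : ∀ {z}, Sl z → S.Good z → Q z := by
    intro z hz hgz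
    by_cases hσ : nn σ (z S.c1) + nn σ (z S.c2) ≠ 0
    · obtain ⟨g, hgm, he, -⟩ := exists_move hS S.ne12 z 0 (Or.inl hσ)
      obtain ⟨b, hb, rfl⟩ := S.exists_liftB (S.blkB hgm)
      exact backB hb hz hgz (hP1 (slB hb hz) (by rwa [Good, S.K_coord (S.B_le_K hb)]) he)
    push Not at hσ
    by_cases h12 : z S.c1 = 0
    · exact hP1 hz hgz h12
    rcases hq with hq | hq
    swap
    · refine absurd ?_ hgz
      linear_combination hz.2.2 - hσ + hq
    obtain ⟨s, hs, hs0, hs1, hs2⟩ := (hS).avoid hq 0 μ (μ - 1)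
    obtain ⟨b'', hb''⟩ := (hS).exists_nn (a := -s) (by rw [map_neg, hs])
    have hb0 : b'' ≠ 0 := fun e => hs0 (by rw [e, nn_zero] at hb''; linear_combination hb'')
    obtain ⟨g, hgm, he, hsum'⟩ := exists_move hS S.ne12 z b'' (Or.inr ⟨Or.inl h12, hb0⟩)
    obtain ⟨b, hb, rfl⟩ := S.exists_liftB (S.blkB hgm)
    have hz' := slB hb hz
    have hgz' : S.Good (ap (π b) z) := by rwa [Good, S.K_coord (S.B_le_K hb)]
    refine backB hb hz hgz ?_
    have ha : nn σ (ap (π b) z S.c0) = μ := by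
      have h3 := hz.2.2
      rw [S.B_coord hb S.ne01 S.ne02]
      linear_combination h3 - hσ
    have h01' : nn σ (ap (π b) z S.c0) + nn σ (ap (π b) z S.c1) = μ - s := by rw [ha, he, hb'']; ring
    have hfix : σ (μ - s) = μ - s := by rw [map_sub, (hS).fix_nn, hs]
    obtain ⟨a', ha'⟩ := (hS).exists_nn hfix
    obtain ⟨g, hgm', he', hsum''⟩ := exists_move hS S.ne01 (ap (π b) z) a'
      (Or.inl (by rw [h01']; exact sub_ne_zero.2 (Ne.symm hs1)))
    obtain ⟨u, hu, rfl⟩ := S.exists_liftA (S.blkA hgm')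
    have hne : μ - s ≠ 1 := fun e => hs2 (by linear_combination -e)
    have hgu : S.Good (ap (π u) (ap (π b) z)) := by rwa [Good, he', ha']
    refine backA hu hz' hgz' hgu (by rw [h01']; exact hne) (hP1 (slA hu hz') hgu ((nn_eq_zero (σ := σ)).1 ?_))
    rw [h01', ha'] at hsum''
    linear_combination -hsum''
  exact main ⟨hz, hsl, hsum⟩ hgz

/-- An element of the plane pair fixing a slice base point lies in `A k`. -/
theorem slice_stab {z0 : Vec N F} (hd0 : S.Dom z0) (h00 : z0 S.c0 = 0) (h01 : z0 S.c1 = 0)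
    (hμ : nn σ (z0 S.c2) ≠ 0) {g : U} (hgP : g ∈ PP) (hgz : ap (π g) z0 = z0) : g ∈ A k := by
  set c' := z0 S.c2
  refine S.P_stab2 hgP ?_
  have hr : ap (π g) (z0 - c' • ev S.c2) = z0 - c' • ev S.c2 := by
    refine ap_eq_self_of_coord _ fun i hi => S.imgP hgP i (Or.inr ?_)
    rcases lt_or_ge (i : ℕ) k with h | h
    · exact absurd (by
        have n2 : i ≠ S.c2 := fun e => by rw [e] at h; simp [c2] at h
        simp [hd0.1 i h, ev_ne n2]) hi
    · by_contra hle
      refine hi ?_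
      have : i = S.c0 ∨ i = S.c1 ∨ i = S.c2 := by
        simp only [Fin.ext_iff, c0, c1, c2]; omega
      rcases this with rfl | rfl | rfl
      · simp [h00, ev_ne S.ne02]
      · simp [h01, ev_ne S.ne12]
      · simp [c', ev_self]
  rw [ap_sub, hgz, ap_smul, sub_right_inj] at hr
  exact smul_right_injective _ (fun e => hμ (nn_eq_zero.2 e)) hr

theorem evA_slice (hq : 3 < q) {u : U} (hu : u ∈ A k) {y : Vec N F} (hy : S.Dom y)
    (hμ0 : nn σ (y S.c0) + nn σ (y S.c1) + nn σ (y S.c2) ≠ 0) (hg : S.Good y)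
    (hg' : S.Good (ap (π u) y)) : S.big (ap (π u) y) = u • S.big y := by
  obtain ⟨c, hc⟩ := (hS).exists_nn (a := nn σ (y S.c0) + nn σ (y S.c1) + nn σ (y S.c2))
    (by rw [map_add, map_add, (hS).fix_nn, (hS).fix_nn, (hS).fix_nn])
  set z0 : Vec N F := update (update (update y S.c0 0) S.c1 0) S.c2 c with hz0
  have h00 : z0 S.c0 = 0 := by simp [hz0, update_of_ne S.ne01, update_of_ne S.ne02]
  have h01 : z0 S.c1 = 0 := by simp [hz0, update_of_ne S.ne12]
  have h02 : z0 S.c2 = c := by simp [hz0]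
  have hoth : ∀ l, l ≠ S.c0 → l ≠ S.c1 → l ≠ S.c2 → z0 l = y l := fun l a b c' => by
    simp [hz0, update_of_ne a, update_of_ne b, update_of_ne c']
  have hd0 : S.Dom z0 := by
    refine ⟨fun l hl => ?_, ?_⟩
    · have a : l ≠ S.c0 := fun e => by rw [e] at hl; simp [c0] at hl
      have b : l ≠ S.c1 := fun e => by rw [e] at hl; simp [c1] at hl <;> omega
      have c' : l ≠ S.c2 := fun e => by rw [e] at hl; simp [c2] at hl <;> omega
      rw [hoth l a b c']; exact hy.1 l hl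
    · set w := update (update (update y S.c0 0) S.c1 0) S.c2 0
      have e1 : ip σ z0 z0 = ip σ w w + nn σ c := by
        rw [S.ip_update z0 S.c2, h02, hz0, update_idem]
      have e2 : ip σ y y = ip σ w w + (nn σ (y S.c0) + nn σ (y S.c1) + nn σ (y S.c2)) := by
        rw [S.ip_update y S.c0, S.ip_update (update y S.c0 0) S.c1,
          S.ip_update (update (update y S.c0 0) S.c1 0) S.c2, update_of_ne S.ne01.symm,
          update_of_ne S.ne12.symm, update_of_ne S.ne02.symm]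
        ring
      rw [e1, hc, ← hy.2, e2]
  have hsl : ∀ l : Fin N, k + 2 < (l : ℕ) → y l = z0 l := fun l hl =>
    (hoth l (fun e => by rw [e] at hl; simp [c0] at hl <;> omega) (fun e => by rw [e] at hl; simp [c1] at hl <;> omega)
      (fun e => by rw [e] at hl; simp [c2] at hl)).symm
  have hμ : nn σ (z0 S.c2) ≠ 0 := by rw [h02, hc]; exact hμ0
  obtain ⟨p, hp, e1, e2⟩ := S.exists_slice_path h00 h01 hμ (Or.inl hq) hd0 hy hg hsl (by rw [h02, hc])
  obtain ⟨p', hp', e1', e2'⟩ := S.exists_slice_path h00 h01 hμ (Or.inl hq) hd0 (S.dom_ap (le_lvl le_rfl S.lt0 hu) hy) hg'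
    (fun l hl => by rw [S.P_coord (Subgroup.mem_sup_left hu) hl, hsl l hl]) (by
      rw [S.A_coord hu S.ne02.symm S.ne12.symm,
        S.sum_pair_inv S.ne01 (fun l a b => S.imgA hu l ⟨fun e => a (Fin.ext e), fun e => b (Fin.ext e)⟩), h02, hc])
  set g := p'⁻¹ * u * p
  have hgP : g ∈ PP := mul_mem (mul_mem (inv_mem hp') (Subgroup.mem_sup_left hu)) hp
  have hgz : ap (π g) z0 = z0 := by
    simp only [g, map_mul, ap_mul, e1]
    rw [← e1', map_inv, ap_inv_ap]
  have hgA : g ∈ A k := S.slice_stab hd0 h00 h01 hμ hgP hgz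
  have hfix : g • S.big z0 = S.big z0 := by
    rw [← S.evA_aniso hgA hd0 (by simp [h00, h01, nn]) (by simp [Good, h00, nn])
      (by rw [hgz]; simp [Good, h00, nn]), hgz]
  rw [e2, e2']
  conv_lhs => rw [← hfix]
  rw [← mul_smul, ← mul_smul]
  congr 1
  simp only [g]; group

theorem evA (hq : 3 < q) {u : U} (hu : u ∈ A k) {x : Vec N F} (hx : S.Dom x) (hg : S.Good x)
    (hg' : S.Good (ap (π u) x)) : S.big (ap (π u) x) = u • S.big x := by
  by_cases hn : nn σ (x S.c0) + nn σ (x S.c1) = 1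
  swap
  · exact S.evA_aniso hu hx hn hg hg'
  set w : Vec N F := update (update x S.c0 0) S.c1 0 with hw
  by_cases hw0 : w = 0
  · refine S.evA_three hu hx (fun l hl => ?_) hg hg'
    have n0 : l ≠ S.c0 := fun e => by rw [e] at hl; simp [c0] at hl <;> omega
    have n1 : l ≠ S.c1 := fun e => by rw [e] at hl; simp [c1] at hl <;> omega
    simpa [hw, update_of_ne n0, update_of_ne n1] using congrFun hw0 l
  have hws : Supp (S.c2 : ℕ) w := fun l hl => by
    by_cases h1 : l = S.c1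
    · simp [hw, h1]
    · rw [hw, update_of_ne h1]
      by_cases h0 : l = S.c0
      · simp [h0]
      · rw [update_of_ne h0]
        exact hx.1 l (by
          have := Fin.val_ne_of_ne h0; have := Fin.val_ne_of_ne h1; simp [c0, c1, c2] at *; omega)
  obtain ⟨s, hs, hs0, hs1⟩ := (hS).avoid_two 0 (-1)
  obtain ⟨c, hc⟩ := (hS).exists_nn hs
  obtain ⟨g, hgm, he⟩ := exists_first hS (N - k - 4) S.c2 (by have := S.lt; simp [c2]; omega) w hws hw0 c
    (Or.inr fun e => hs0 (by rw [← hc, e, nn_zero]))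
  rw [gen_eq_lowFix hS] at hgm
  obtain ⟨m, hm, rfl⟩ := S.exists_lift hgm
  refine S.evA_transport hm hu hx hg hg' (S.evA_slice hq hu (S.dom_ap (lvl_mono (Nat.le_add_right k 2) hm) hx) ?_
    (by rwa [Good, S.K_coord (M_le_K hm)]) ((S.good_A_iff hu hm x).2 hg'))
  have h2 : ap (π m) x S.c2 = c := by
    have hd : x = x S.c0 • ev S.c0 + x S.c1 • ev S.c1 + w := by
      funext i
      by_cases h0 : i = S.c0
      · subst h0; simp [hw, ev_self, ev_ne S.ne01, update_of_ne S.ne01]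
      · by_cases h1 : i = S.c1
        · subst h1; simp [hw, ev_self, ev_ne h0]
        · simp [hw, ev_ne h0, ev_ne h1, update_of_ne h0, update_of_ne h1]
    rw [hd, ap_add, ap_add, ap_smul, ap_smul, S.K_fix (M_le_K hm), S.M_fix hm]
    simp [ev_ne S.ne02.symm, ev_ne S.ne12.symm, he]
  rw [h2, S.K_coord (M_le_K hm), coord_fix hS (S.M_fix hm), hn, hc]
  exact fun e => hs1 (by linear_combination e)

theorem exists_good {x : Vec N F} (hx : S.Dom x) : ∃ p ∈ A k, S.Good (ap (π p) x) := by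
  by_cases hg : S.Good x
  · exact ⟨1, one_mem _, by rwa [map_one, ap_one]⟩
  obtain ⟨s, hs, hs0, hs1⟩ := (hS).avoid_two 0 1
  obtain ⟨a, ha⟩ := (hS).exists_nn hs
  have hne : x S.c0 ≠ 0 := fun e => hg (by simp [Good, e, nn])
  obtain ⟨g, hgm, he, -⟩ := exists_move hS S.ne01 x a
    (Or.inr ⟨Or.inl hne, fun e => hs0 (by rw [← ha, e, nn_zero])⟩)
  obtain ⟨p, hp, rfl⟩ := S.exists_liftA (S.blkA hgm)
  exact ⟨p, hp, by rwa [Good, he, ha]⟩

/-- The cosets of good vectors commute with `A k`. -/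
def EvA (S : Step σ π A k) : Prop := ∀ u ∈ A k, ∀ x, S.Dom x → S.Good x → S.Good (ap (π u) x) →
  S.big (ap (π u) x) = u • S.big x

open _root_.Classical in
/-- The coset of a unit vector. -/
noncomputable def tau (S : Step σ π A k) (x : Vec N F) : U ⧸ KK :=
  if h : ∃ p ∈ A k, S.Good (ap (π p) x) then (Classical.choose h)⁻¹ • S.big (ap (π (Classical.choose h)) x)
  else S.big x

theorem tau_eq (hev : S.EvA) {p : U} (hp : p ∈ A k) {x : Vec N F} (hx : S.Dom x) (hg : S.Good (ap (π p) x)) :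
    S.tau x = p⁻¹ • S.big (ap (π p) x) := by
  have hex : ∃ p ∈ A k, S.Good (ap (π p) x) := ⟨p, hp, hg⟩
  rw [tau, dif_pos hex]
  obtain ⟨h1, h2⟩ := Classical.choose_spec hex
  set p1 := Classical.choose hex
  have e : ap (π (p * p1⁻¹)) (ap (π p1) x) = ap (π p) x := by rw [map_mul, ap_mul, map_inv, ap_inv_ap]
  have h := hev _ (mul_mem hp (inv_mem h1)) _ (S.dom_ap (le_lvl le_rfl S.lt0 h1) hx) h2 (by rwa [e])
  rw [e] at h
  rw [h, ← mul_smul, ← mul_assoc, inv_mul_cancel, one_mul]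

/-- The elements for which the cosets are equivariant. -/
def equi (S : Step σ π A k) : Subgroup U where
  carrier := {g | g ∈ lvl N A k ∧ ∀ x, S.Dom x → S.tau (ap (π g) x) = g • S.tau x}
  one_mem' := ⟨one_mem _, fun x _ => by rw [map_one, ap_one, one_smul]⟩
  mul_mem' {g h} hg hh := ⟨mul_mem hg.1 hh.1, fun x hx => by
    rw [map_mul, ap_mul, hg.2 _ (S.dom_ap hh.1 hx), hh.2 x hx, mul_smul]⟩
  inv_mem' {g} hg := ⟨inv_mem hg.1, fun x hx => by
    have h := hg.2 _ (S.dom_ap (inv_mem hg.1) hx)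
    rw [map_inv, ap_ap_inv] at h
    rw [map_inv, h, inv_smul_smul]⟩

theorem A_le_equi (hev : S.EvA) : A k ≤ S.equi := fun u hu => by
  refine ⟨le_lvl le_rfl S.lt0 hu, fun x hx => ?_⟩
  obtain ⟨p, hp, hg⟩ := S.exists_good (S.dom_ap (le_lvl le_rfl S.lt0 hu) hx)
  have e : ap (π (p * u)) x = ap (π p) (ap (π u) x) := by rw [map_mul, ap_mul]
  rw [S.tau_eq hev hp (S.dom_ap (le_lvl le_rfl S.lt0 hu) hx) hg, S.tau_eq hev (mul_mem hp hu) hx (by rwa [e]), e,
    _root_.mul_inv_rev, mul_smul, smul_inv_smul]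

theorem M_le_equi (hev : S.EvA) : MM ≤ S.equi := fun m hm => by
  have hml : m ∈ lvl N A k := lvl_mono (Nat.le_add_right k 2) hm
  refine ⟨hml, fun x hx => ?_⟩
  obtain ⟨p, hp, hg⟩ := S.exists_good hx
  have hpx := S.dom_ap (le_lvl le_rfl S.lt0 hp) hx
  have e : ap (π p) (ap (π m) x) = ap (π m) (ap (π p) x) := by
    rw [← ap_mul, ← ap_mul, ← map_mul, ← map_mul, S.commMA hm hp]
  rw [S.tau_eq hev hp hx hg, S.tau_eq hev hp (S.dom_ap hml hx) ((S.good_A_iff hp hm x).2 hg), e,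
    S.big_K (M_le_K hm) hpx hg, ← mul_smul, ← mul_smul, ← S.commMA hm (inv_mem hp)]

theorem B_le_equi (hq : 3 < q) (hev : S.EvA) : A (k + 1) ≤ S.equi := fun b hb => by
  have hbl : b ∈ lvl N A k := le_lvl (Nat.le_succ k) S.lt1 hb
  refine ⟨hbl, fun x hx => ?_⟩
  by_cases hgx : S.Good x
  · have hgb : S.Good (ap (π b) x) := by rwa [Good, S.K_coord (S.B_le_K hb)]
    rw [S.tau_eq hev (one_mem _) hx (by rwa [map_one, ap_one]),
      S.tau_eq hev (one_mem _) (S.dom_ap hbl hx) (by rwa [map_one, ap_one]), map_one, ap_one, ap_one, inv_one,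
      one_smul, one_smul, S.big_K (S.B_le_K hb) hx hgx]
  obtain ⟨v, hv, hgv⟩ := S.exists_good hx
  set w := ap (π b) x
  have hz : w S.c0 ≠ 0 ∨ w S.c1 ≠ 0 :=
    Or.inl fun e => hgx (by simp only [w] at e; rw [S.K_coord (S.B_le_K hb)] at e; simp [Good, e, nn])
  set e' := ap (π b) (ap (π v)⁻¹ (ev S.c0))
  obtain ⟨r, s, hrs, h1, h2⟩ := exists_avoid hS hq hz (e' S.c0) (e' S.c1)
  obtain ⟨u, hu, hue⟩ := S.exists_liftA (S.blkA (pairEl_mem hS S.ne01 r s hrs))
  have hgu : S.Good (ap (π u) w) := by rw [Good, hue, pairEl_fst hS]; exact h1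
  set g := u * b * v⁻¹
  have hgP : g ∈ PP := mul_mem (mul_mem (Subgroup.mem_sup_left hu) (Subgroup.mem_sup_right hb))
    (inv_mem (Subgroup.mem_sup_left hv))
  have hgg : S.Good (ap (π g) (ev S.c0)) := by
    have : ap (π g) (ev S.c0) = ap (π u) e' := by
      simp only [g, e', map_mul, ap_mul, map_inv]
    rw [this, Good, hue, pairEl_fst hS]; exact h2
  obtain ⟨b1, hb1, u2, hu2, he⟩ := S.three_rep (S.dom_ap (S.P_le hgP) S.dom_ev) hgg fun l hl => by
    rw [S.P_coord hgP hl]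
    exact ev_ne fun e => by rw [e] at hl; simp [c0] at hl <;> omega
  have hb2 : (b1 * u2)⁻¹ * g ∈ A (k + 1) := by
    refine S.P_stab (mul_mem (inv_mem (mul_mem (Subgroup.mem_sup_right hb1) (Subgroup.mem_sup_left hu2))) hgP) ?_
    rw [map_mul, ap_mul, ← he, map_inv, ap_inv_ap]
  set b2 := (b1 * u2)⁻¹ * g
  set y1 := ap (π v) x
  have d1 : S.Dom y1 := S.dom_ap (le_lvl le_rfl S.lt0 hv) hx
  have d2 : S.Dom (ap (π b2) y1) := S.dom_ap (le_lvl (Nat.le_succ k) S.lt1 hb2) d1
  have g2 : S.Good (ap (π b2) y1) := by rwa [Good, S.K_coord (S.B_le_K hb2)]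
  have hgb : g = b1 * (u2 * b2) := by simp only [b2]; group
  have e3 : ap (π b1) (ap (π u2) (ap (π b2) y1)) = ap (π u) w := by
    rw [← ap_mul, ← ap_mul, ← map_mul, ← map_mul, mul_assoc, ← hgb]
    simp only [g, y1, w, map_mul, ap_mul, map_inv, ap_inv_ap]
  have g3 : S.Good (ap (π u2) (ap (π b2) y1)) := by
    have := hgu
    rwa [← e3, Good, S.K_coord (S.B_le_K hb1)] at this
  have key : S.big (ap (π u) w) = g • S.big y1 := by
    rw [← e3, S.big_K (S.B_le_K hb1) (S.dom_ap (le_lvl le_rfl S.lt0 hu2) d2) g3, hev _ hu2 _ d2 g2 g3,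
      S.big_K (S.B_le_K hb2) d1 hgv, ← mul_smul, ← mul_smul, mul_assoc, ← hgb]
  rw [S.tau_eq hev hu (S.dom_ap hbl hx) hgu, key, S.tau_eq hev hv hx hgv, ← mul_smul, ← mul_smul]
  congr 1
  simp only [g]; group

theorem lvl_le_equi (hev : S.EvA) (hB : A (k + 1) ≤ S.equi) : lvl N A k ≤ S.equi := by
  refine iSup₂_le fun i hi => ?_
  by_cases h0 : i = k
  · rw [h0]; exact S.A_le_equi hev
  by_cases h1 : i = k + 1
  · rw [h1]; exact hB
  · exact (le_lvl (by omega) hi.2).trans (S.M_le_equi hev)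

theorem kerFree (hev : S.EvA) (hB : A (k + 1) ≤ S.equi) : KerFree π (lvl N A k) := fun u hu he => by
  obtain ⟨t, ht, hte⟩ := S.exists_liftA (S.blkA (pairEl_mem hS S.ne01 0 1 (by simp [nn])))
  have hg : S.Good (ap (π t) (ev S.c0)) := by
    rw [hte, Good, pairEl_fst hS]; simp [ev_self, ev_ne S.ne01.symm, nn]
  have htau : S.tau (ev S.c0) = ((1 : U) : U ⧸ KK) := by
    rw [S.tau_eq hev ht S.dom_ev hg, S.big_P (Subgroup.mem_sup_left ht) hg, MulAction.Quotient.smul_coe, smul_eq_mul,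
      inv_mul_cancel]
  have h := (S.lvl_le_equi hev hB hu).2 _ S.dom_ev
  rw [he, ap_one, htau, MulAction.Quotient.smul_coe, smul_eq_mul, mul_one, QuotientGroup.eq, inv_one, one_mul] at h
  exact S.ih u h he

end Step

/-- Downward induction from a proof of the step. -/
theorem Amal.kerFree_of_step (am : Amal σ π A)
    (hstep : ∀ k, ∀ _ : Step σ π A k, KerFree π (lvl N A k)) : ∀ k, KerFree π (lvl N A k) := by
  suffices ∀ d k, N ≤ k + d → KerFree π (lvl N A k) from fun k => this N k (by omega)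
  intro d
  induction d with
  | zero =>
    intro k hk x hx _
    have : lvl N A k ≤ ⊥ := iSup₂_le fun i hi => absurd hi.2 (by omega)
    exact Subgroup.mem_bot.1 (this hx)
  | succ d ih =>
    intro k hk
    rcases lt_trichotomy (k + 3) N with h | h | h
    · exact hstep k ⟨am, h, ih (k + 1) (by omega)⟩
    · intro x hx
      refine am.free k (by omega) x ((iSup₂_le fun i hi => ?_ : lvl N A k ≤ A k ⊔ A (k + 1)) hx)
      rcases (show i = k ∨ i = k + 1 by omega) with rfl | rfl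
      exacts [le_sup_left, le_sup_right]
    · by_cases h2 : k + 2 = N
      · intro x hx
        refine am.freeA k (by omega) x ((iSup₂_le fun i hi => ?_ : lvl N A k ≤ A k) hx)
        rw [show i = k by omega]
      · intro x hx _
        have : lvl N A k ≤ ⊥ := iSup₂_le fun i hi => absurd hi.2 (by omega)
        exact Subgroup.mem_bot.1 (this hx)

/-- The amalgam maps injectively. -/
theorem Amal.kerFree (hq : 3 < q) (am : Amal σ π A) : ∀ k, KerFree π (lvl N A k) :=
  am.kerFree_of_step fun _ S =>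
    S.kerFree (fun _ hu _ => S.evA hq hu) (S.B_le_equi hq fun _ hu _ => S.evA hq hu)

end Cfsg.Agent.Phan
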