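import Cfsg.Agent.Phan.Amalgam

/-!
The amalgam over a field with at least nine elements when four consecutive coordinates are already faithful.
-/

set_option autoImplicit false
set_option linter.unusedSectionVars false
set_option linter.unusedSimpArgs false
set_option linter.unreachableTactic false
set_option linter.unusedTactic false

open Matrix Function

namespace Cfsg.Agent.Phan

universe u v

variable {F : Type u} [Field F] [Fintype F] {σ : F →+* F} {q N : ℕ} [Fact (2 < q)] {U : Type v} [Group U]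
variable {π : U →* SUn N F q} {A : ℕ → Subgroup U}

/-- Three consecutive coordinates are generated by their two planes. -/
theorem fix_three_le (hS : Fld σ q) {i : ℕ} (hi : i + 2 < N) :
    (fixSet fun l : Fin N => (l : ℕ) < i ∨ i + 2 < (l : ℕ) : Subgroup (SUn N F q)) ≤ blk i ⊔ blk (i + 1) := by
  set c : Fin 3 → Fin N := fun j => ⟨i + j, by omega⟩
  have hc : Injective c := fun a b h => Fin.ext (by simpa [c] using congrArg Fin.val h)
  have hrange : ∀ l : Fin N, l ∉ Set.range c ↔ (l : ℕ) < i ∨ i + 2 < (l : ℕ) := fun l => by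
    constructor
    · intro h
      by_contra h'
      push Not at h'
      exact h ⟨⟨(l : ℕ) - i, by omega⟩, Fin.ext (by simp [c]; omega)⟩
    · rintro h ⟨j, rfl⟩
      simp [c] at h
      omega
  have e : (fixSet fun l : Fin N => (l : ℕ) < i ∨ i + 2 < (l : ℕ) : Subgroup (SUn N F q)) =
      (emb hS c hc).range := by
    rw [range_emb]
    exact le_antisymm (fun g hg l hl => hg l ((hrange l).1 hl)) fun g hg l hl => hg l ((hrange l).2 hl)
  have htop : (gen 0 : Subgroup (SUn 3 F q)) = ⊤ := by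
    rw [gen_eq_lowFix hS]
    exact eq_top_iff.2 fun g _ l hl => absurd hl (Nat.not_lt_zero _)
  rw [e, MonoidHom.range_eq_map, ← htop, gen]
  simp only [Subgroup.map_iSup]
  refine iSup₂_le fun j hj => ?_
  rintro _ ⟨g, hg, rfl⟩
  have hmem : emb hS c hc g ∈ blk (i + j) := fun l hl => by
    by_cases hl' : l ∈ Set.range c
    · obtain ⟨a, rfl⟩ := hl'
      funext m
      have ha : ap g (ev a) = ev a := hg a ⟨fun e => hl.1 (by simp [c, e]), fun e => hl.2 (by simp [c, e]; omega)⟩
      by_cases hm : m ∈ Set.range c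
      · obtain ⟨b, rfl⟩ := hm
        rw [emb_c, ev_comp c hc, ha]
        by_cases hba : b = a
        · subst hba; rw [ev_self, ev_self]
        · rw [ev_ne hba, ev_ne fun e => hba (hc e)]
      · rw [emb_ne hS c hc g _ hm]
    · exact emb_ev_ne hS c hc g hl'
  obtain rfl | rfl : j = 0 ∨ j = 1 := by omega
  · exact Subgroup.mem_sup_left hmem
  · exact Subgroup.mem_sup_right hmem

/-- Four consecutive coordinates are faithful. -/
def Free4 (π : U →* SUn N F q) (A : ℕ → Subgroup U) : Prop :=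
  ∀ i, i + 3 < N → KerFree π (A i ⊔ (A (i + 1) ⊔ A (i + 2)))

namespace Step

variable {k : ℕ} (S : Step σ π A k) (h4 : Free4 π A)
include S

set_option linter.unusedVariables false

local notation "hS" => S.am.fld
local notation "KK" => lvl N A (k + 1)
local notation "MM" => lvl N A (k + 2)
local notation "BB" => A (k + 1) ⊔ A (k + 2)
local notation "P4" => A k ⊔ (A (k + 1) ⊔ A (k + 2))

/-- The fourth coordinate. -/
def c3 : Fin N := ⟨k + 3, S.lt⟩

theorem BB_le_K : BB ≤ KK := sup_le S.B_le_K (le_lvl (by omega) (by have := S.lt; omega))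

theorem P4_le : P4 ≤ lvl N A k :=
  sup_le (le_lvl le_rfl S.lt0) ((S.BB_le_K).trans (lvl_mono (Nat.le_succ k)))

theorem imgC {x : U} (hx : x ∈ A (k + 2)) : π x ∈ blk (k + 2) :=
  S.am.map (k + 2) (by have := S.lt; omega) ▸ Subgroup.mem_map_of_mem π hx

theorem imgP4 {p : U} (hp : p ∈ P4) :
    π p ∈ (fixSet fun l : Fin N => (l : ℕ) < k ∨ k + 3 < (l : ℕ) : Subgroup (SUn N F q)) := by
  have h : P4 ≤ Subgroup.comap π (fixSet fun l : Fin N => (l : ℕ) < k ∨ k + 3 < (l : ℕ)) :=
    sup_le (fun x hx l hl => S.imgA hx l ⟨by omega, by omega⟩)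
      (sup_le (fun x hx l hl => S.imgB hx l ⟨by omega, by omega⟩) fun x hx l hl => S.imgC hx l ⟨by omega, by omega⟩)
  exact h hp

theorem exists_liftC {g : SUn N F q} (hg : g ∈ blk (k + 2)) : ∃ x ∈ A (k + 2), π x = g := by
  rw [← S.am.map (k + 2) (by have := S.lt; omega)] at hg
  exact hg

include h4

theorem P4_stab {p : U} (hp : p ∈ P4) (he : ap (π p) (ev S.c0) = ev S.c0) : p ∈ KK := by
  have h : π p ∈ (BB).map π := by
    rw [Subgroup.map_sup, S.am.map _ S.lt1, S.am.map _ (by have := S.lt; omega)]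
    refine fix_three_le hS (i := k + 1) (by have := S.lt; omega) fun l hl => ?_
    rcases lt_trichotomy (l : ℕ) k with h | h | h
    · exact S.imgP4 hp l (Or.inl h)
    · rw [show l = S.c0 from Fin.ext h]; exact he
    · exact S.imgP4 hp l (Or.inr (by omega))
  obtain ⟨b, hb, e⟩ := h
  rw [(h4 k S.lt).eq hp (Subgroup.mem_sup_right hb) e.symm]
  exact S.BB_le_K hb

omit h4 in
/-- Vectors living on the first four coordinates. -/
def Four (S : Step σ π A k) (x : Vec N F) : Prop := ∀ l : Fin N, k + 3 < (l : ℕ) → x l = 0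

theorem four_rep {x : Vec N F} (hx : S.Dom x) (hg : S.Good x) (hF : S.Four x) :
    ∃ g ∈ BB, ∃ h ∈ A k, ap (π (g * h)) (ev S.c0) = x := by
  -- reduce to three coordinates
  suffices ∃ g ∈ BB, S.Three (ap (π g) x) by
    obtain ⟨g, hgB, h3⟩ := this
    obtain ⟨g', hg', h, hh, e⟩ := S.three_rep (S.dom_ap (S.P4_le (Subgroup.mem_sup_right hgB)) hx)
      (by rwa [Good, S.K_coord (S.BB_le_K hgB)]) h3
    refine ⟨g⁻¹ * g', mul_mem (inv_mem hgB) (Subgroup.mem_sup_left hg'), h, hh, ?_⟩
    rw [mul_assoc, map_mul, ap_mul, e, map_inv, ap_inv_ap]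
  have n23 : S.c2 ≠ S.c3 := Fin.ne_of_val_ne (by simp [c2, c3])
  have hzero : ∀ {g : U} {y : Vec N F}, g ∈ BB → S.Four y → S.Four (ap (π g) y) := fun {g y} hgB hy l hl => by
    rw [coord_fix hS (S.imgP4 (Subgroup.mem_sup_right hgB) l (Or.inr hl)), hy l hl]
  have key : ∀ y, S.Four y → nn σ (y S.c2) + nn σ (y S.c3) ≠ 0 → ∃ g ∈ BB, S.Three (ap (π g) y) := by
    intro y hy hn
    obtain ⟨c, hc⟩ := (hS).exists_nn (a := nn σ (y S.c2) + nn σ (y S.c3)) (by rw [map_add, (hS).fix_nn, (hS).fix_nn])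
    obtain ⟨g, hgm, he, hs⟩ := exists_move hS n23 y c (Or.inl hn)
    obtain ⟨G, hG, rfl⟩ := S.exists_liftC (mem_blk_of_pair (i := S.c2) (j := S.c3) rfl hgm)
    refine ⟨G, Subgroup.mem_sup_right hG, fun l hl => ?_⟩
    by_cases h : l = S.c3
    · subst h
      exact (nn_eq_zero (σ := σ)).1 (by rw [hc] at hs; linear_combination -hs)
    · exact hzero (Subgroup.mem_sup_right hG) hy l (by have := Fin.val_ne_of_ne h; simp [c3] at this; omega)
  by_cases hn : nn σ (x S.c2) + nn σ (x S.c3) ≠ 0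
  · exact key x hF hn
  push Not at hn
  by_cases h2 : x S.c2 = 0
  · refine ⟨1, one_mem _, fun l hl => ?_⟩
    rw [map_one, ap_one]
    by_cases h : l = S.c3
    · subst h
      rw [h2, nn_zero, zero_add] at hn
      exact nn_eq_zero.1 hn
    · exact hF l (by have := Fin.val_ne_of_ne h; simp [c3] at this; omega)
  obtain ⟨s, hs, hs0, hs1⟩ := (hS).avoid_two 0 (-nn σ (x S.c1))
  obtain ⟨c, hc⟩ := (hS).exists_nn hs
  have hc0 : c ≠ 0 := fun e => hs0 (by rw [← hc, e, nn_zero])
  obtain ⟨g, hgm, he, hsum⟩ := exists_move hS n23 x c (Or.inr ⟨Or.inl h2, hc0⟩)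
  obtain ⟨G, hG, rfl⟩ := S.exists_liftC (mem_blk_of_pair (i := S.c2) (j := S.c3) rfl hgm)
  have h1 : ap (π G) x S.c1 = x S.c1 :=
    coord_fix hS (S.imgC hG _ ⟨by simp [c1], by simp [c1]⟩) x
  have hn1 : nn σ (ap (π G) x S.c1) + nn σ (ap (π G) x S.c2) ≠ 0 := by
    rw [h1, he, hc]; exact fun e => hs1 (by linear_combination e)
  obtain ⟨c', hc'⟩ := (hS).exists_nn (a := nn σ (ap (π G) x S.c1) + nn σ (ap (π G) x S.c2))
    (by rw [map_add, (hS).fix_nn, (hS).fix_nn])
  obtain ⟨g', hgm', he', hs'⟩ := exists_move hS S.ne12 (ap (π G) x) c' (Or.inl hn1)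
  obtain ⟨G', hG', rfl⟩ := S.exists_liftB (S.blkB hgm')
  set y := ap (π G') (ap (π G) x)
  have hy2 : y S.c2 = 0 := (nn_eq_zero (σ := σ)).1 (by rw [hc'] at hs'; linear_combination -hs')
  have hy3 : nn σ (y S.c3) = -s := by
    show nn σ (ap (π G') (ap (π G) x) S.c3) = -s
    rw [coord_fix hS (S.imgB hG' S.c3 ⟨by simp [c3], by simp [c3]⟩)]
    rw [hn, hc] at hsum
    linear_combination -hsum
  have hG2 : G' * G ∈ BB := mul_mem (Subgroup.mem_sup_left hG') (Subgroup.mem_sup_right hG)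
  obtain ⟨G'', hG'', h3⟩ := key y (hzero (Subgroup.mem_sup_left hG') (hzero (Subgroup.mem_sup_right hG) hF))
    (by rw [hy2, nn_zero, zero_add, hy3]; exact neg_ne_zero.2 hs0)
  exact ⟨G'' * (G' * G), mul_mem hG'' hG2, by rwa [map_mul, map_mul, ap_mul, ap_mul]⟩

theorem big_P4 {p : U} (hp : p ∈ P4) (hg : S.Good (ap (π p) (ev S.c0))) :
    S.big (ap (π p) (ev S.c0)) = (p : U ⧸ KK) := by
  obtain ⟨g, hg', h, hh, e⟩ := S.four_rep h4 (S.dom_ap (S.P4_le hp) S.dom_ev) hg fun l hl => by
    rw [coord_fix hS (S.imgP4 hp l (Or.inr hl))]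
    exact ev_ne fun e => by rw [e] at hl; simp [c0] at hl <;> omega
  rw [S.big_eq (S.BB_le_K hg') hh e hg, eq_comm, QuotientGroup.eq]
  refine S.P4_stab h4 (mul_mem (inv_mem hp) (mul_mem (Subgroup.mem_sup_right hg') (Subgroup.mem_sup_left hh))) ?_
  rw [map_mul, ap_mul, e, map_inv, ap_inv_ap]

theorem evA_four {u : U} (hu : u ∈ A k) {x : Vec N F} (hx : S.Dom x) (hF : S.Four x) (hg : S.Good x)
    (hg' : S.Good (ap (π u) x)) : S.big (ap (π u) x) = u • S.big x := by
  obtain ⟨g, hgm, h, hh, rfl⟩ := S.four_rep h4 hx hg hF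
  have hp : g * h ∈ P4 := mul_mem (Subgroup.mem_sup_right hgm) (Subgroup.mem_sup_left hh)
  rw [S.big_P4 h4 hp hg, ← ap_mul, ← map_mul, S.big_P4 h4 (mul_mem (Subgroup.mem_sup_left hu) hp)
    (by rwa [map_mul π u, ap_mul]), MulAction.Quotient.smul_coe, smul_eq_mul]

omit h4 in
theorem supp_tail (x : Vec N F) (hx : S.Dom x) :
    Supp (S.c2 : ℕ) (update (update x S.c0 0) S.c1 0) := fun l hl => by
  by_cases h1 : l = S.c1
  · simp [h1]
  · rw [update_of_ne h1]
    by_cases h0 : l = S.c0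
    · simp [h0]
    · rw [update_of_ne h0]
      exact hx.1 l (by
        have := Fin.val_ne_of_ne h0; have := Fin.val_ne_of_ne h1; simp [c0, c1, c2] at *; omega)

omit h4 in
theorem coord_lowFix {j : ℕ} {g : SUn N F q} (hg : g ∈ lowFix j) (y : Vec N F) {l : Fin N} (hl : (l : ℕ) < j) :
    ap g y l = y l :=
  coord_fix hS (hg l hl) y

omit h4 in
theorem ap_update_eq {g : SUn N F q} {l : Fin N} (hg : ap g (ev l) = ev l) (x : Vec N F) (i : Fin N) (hi : i ≠ l) :
    ap g (update x l 0) i = ap g x i := by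
  have : x = update x l 0 + x l • ev l := funext fun m => by
    by_cases h : m = l
    · subst h; simp [ev_self]
    · simp [update_of_ne h, ev_ne h]
  conv_rhs => rw [this, ap_add, ap_smul, hg]
  simp [ev_ne hi]

theorem evA4 : S.EvA := by
  intro u hu x hx hg hg'
  by_cases hn : nn σ (x S.c0) + nn σ (x S.c1) = 1
  swap
  · exact S.evA_aniso hu hx hn hg hg'
  set w := update (update x S.c0 0) S.c1 0
  by_cases hw0 : w = 0
  · refine S.evA_three hu hx (fun l hl => ?_) hg hg'
    have n0 : l ≠ S.c0 := fun e => by rw [e] at hl; simp [c0] at hl <;> omega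
    have n1 : l ≠ S.c1 := fun e => by rw [e] at hl; simp [c1] at hl <;> omega
    simpa [w, update_of_ne n0, update_of_ne n1] using congrFun hw0 l
  have hwn : ip σ w w = 0 := by
    have h := hx.2
    rw [S.ip_update x S.c0, S.ip_update (update x S.c0 0) S.c1, update_of_ne S.ne01.symm] at h
    linear_combination h - hn
  obtain ⟨s, hs, hs0, -⟩ := (hS).avoid_two 0 0
  obtain ⟨c, hc⟩ := (hS).exists_nn hs
  obtain ⟨g, hgm, he⟩ := exists_first hS (N - k - 4) S.c2 (by have := S.lt; simp [c2]; omega) w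
    (S.supp_tail x hx) hw0 c (Or.inr fun e => hs0 (by rw [← hc, e, nn_zero]))
  rw [gen_eq_lowFix hS] at hgm
  set t := update (ap g w) S.c2 0
  have hgw : Supp (S.c2 : ℕ) (ap g w) := supp_ap hS (S.supp_tail x hx) hgm
  have hts : Supp (S.c3 : ℕ) t := fun l hl => by
    by_cases h : l = S.c2
    · simp [t, h]
    · simp only [t, update_of_ne h]
      exact hgw l (by have := Fin.val_ne_of_ne h; simp [c2, c3] at *; omega)
  have htn : ip σ t t = -s := by
    have h := S.ip_update (ap g w) S.c2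
    rw [ip_ap hS, hwn, he, hc] at h
    linear_combination -h
  obtain ⟨g', hgm', d, hd, -⟩ := exists_axis hS (N - k - 4) S.c3 (by have := S.lt; simp [c3]; omega) t hts
    (by rw [htn]; exact neg_ne_zero.2 hs0)
  rw [gen_eq_lowFix hS] at hgm'
  obtain ⟨m, hm, hme⟩ := S.exists_lift (j := k + 2) (g := g' * g)
    (mul_mem (fun l hl => hgm' l (by simp [c3]; omega)) hgm)
  have hmk : m ∈ lvl N A k := lvl_mono (Nat.le_add_right k 2) hm
  have hmx : S.Four (ap (π m) x) := by
    intro l hl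
    have n0 : l ≠ S.c0 := fun e => by rw [e] at hl; simp [c0] at hl <;> omega
    have n1 : l ≠ S.c1 := fun e => by rw [e] at hl; simp [c1] at hl <;> omega
    have n2 : l ≠ S.c2 := fun e => by rw [e] at hl; simp [c2] at hl <;> omega
    have n3 : l ≠ S.c3 := fun e => by rw [e] at hl; simp [c3] at hl
    rw [hme, ap_mul]
    have hg0 : ap g (ev S.c0) = ev S.c0 := hgm _ (by simp [c0, c2])
    have hg1 : ap g (ev S.c1) = ev S.c1 := hgm _ (by simp [c1, c2])
    have h0' : ap g' (ev S.c0) = ev S.c0 := hgm' _ (by simp [c0, c3])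
    have h1' : ap g' (ev S.c1) = ev S.c1 := hgm' _ (by simp [c1, c3])
    have h2' : ap g' (ev S.c2) = ev S.c2 := hgm' _ (by simp [c2, c3])
    have hdec : x = x S.c0 • ev S.c0 + x S.c1 • ev S.c1 + w := by
      funext i
      by_cases a : i = S.c0
      · subst a; simp [w, ev_self, ev_ne S.ne01, update_of_ne S.ne01]
      · by_cases b : i = S.c1
        · subst b; simp [w, ev_self, ev_ne a]
        · simp [w, ev_ne a, ev_ne b, update_of_ne a, update_of_ne b]
    have hgd : ap g w = t + c • ev S.c2 := by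
      funext i
      by_cases a : i = S.c2
      · subst a; simp [t, ev_self, he]
      · simp [t, ev_ne a, update_of_ne a]
    rw [hdec]
    simp only [ap_add, ap_smul, hg0, hg1, hgd, h0', h1', h2', hd]
    simp [ev_ne n0, ev_ne n1, ev_ne n2, ev_ne n3]
  exact S.evA_transport hm hu hx hg hg' (S.evA_four h4 hu (S.dom_ap hmk hx) hmx
    (by rwa [Good, S.K_coord (M_le_K hm)]) ((S.good_A_iff hu hm x).2 hg'))

theorem tau_four {x : Vec N F} (hx : S.Dom x) (hF : S.Four x) :
    ∀ r ∈ P4, ap (π r) (ev S.c0) = x → S.tau x = (r : U ⧸ KK) := by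
  intro r hr he
  obtain ⟨p, hp, hg⟩ := S.exists_good hx
  rw [S.tau_eq (S.evA4 h4) hp hx hg, ← he, ← ap_mul, ← map_mul,
    S.big_P4 h4 (mul_mem (Subgroup.mem_sup_left hp) hr) (by rwa [map_mul π p, ap_mul, he]),
    MulAction.Quotient.smul_coe, smul_eq_mul, inv_mul_cancel_left]

theorem exists_four_rep {x : Vec N F} (hx : S.Dom x) (hF : S.Four x) :
    ∃ r ∈ P4, ap (π r) (ev S.c0) = x := by
  obtain ⟨p, hp, hg⟩ := S.exists_good hx
  obtain ⟨g, hgm, h, hh, e⟩ := S.four_rep h4 (S.dom_ap (le_lvl le_rfl S.lt0 hp) hx) hg fun l hl => by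
    rw [coord_fix hS (S.imgP4 (Subgroup.mem_sup_left hp) l (Or.inr hl)), hF l hl]
  refine ⟨p⁻¹ * (g * h), mul_mem (inv_mem (Subgroup.mem_sup_left hp))
    (mul_mem (Subgroup.mem_sup_right hgm) (Subgroup.mem_sup_left hh)), ?_⟩
  rw [map_mul, ap_mul, e, map_inv, ap_inv_ap]

theorem B_equi4 : A (k + 1) ≤ S.equi := fun b hb => by
  have hev := S.evA4 h4
  have hbl : b ∈ lvl N A k := le_lvl (Nat.le_succ k) S.lt1 hb
  refine ⟨hbl, fun x hx => ?_⟩
  set μ := nn σ (x S.c0) + nn σ (x S.c1) + nn σ (x S.c2)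
  by_cases hμ : μ = 1
  · obtain ⟨c, hc⟩ := (hS).exists_nn (a := μ) (by rw [hμ, map_one])
    set z0 : Vec N F := update (update (update x S.c0 0) S.c1 0) S.c2 c with hz0
    have h00 : z0 S.c0 = 0 := by simp [hz0, update_of_ne S.ne01, update_of_ne S.ne02]
    have h01 : z0 S.c1 = 0 := by simp [hz0, update_of_ne S.ne12]
    have h02 : z0 S.c2 = c := by simp [hz0]
    have hoth : ∀ l : Fin N, k + 2 < (l : ℕ) → z0 l = x l := fun l hl => by
      have a : l ≠ S.c0 := fun e => by rw [e] at hl; simp [c0] at hl <;> omega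
      have b : l ≠ S.c1 := fun e => by rw [e] at hl; simp [c1] at hl <;> omega
      have d : l ≠ S.c2 := fun e => by rw [e] at hl; simp [c2] at hl <;> omega
      simp [hz0, update_of_ne a, update_of_ne b, update_of_ne d]
    have hd0 : S.Dom z0 := by
      refine ⟨fun l hl => ?_, ?_⟩
      · have a : l ≠ S.c0 := fun e => by rw [e] at hl; simp [c0] at hl
        have b : l ≠ S.c1 := fun e => by rw [e] at hl; simp [c1] at hl <;> omega
        have d : l ≠ S.c2 := fun e => by rw [e] at hl; simp [c2] at hl <;> omega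
        simp [hz0, update_of_ne a, update_of_ne b, update_of_ne d, hx.1 l hl]
      · set w := update (update (update x S.c0 0) S.c1 0) S.c2 0
        have e1 : ip σ z0 z0 = ip σ w w + nn σ c := by rw [S.ip_update z0 S.c2, h02, hz0, update_idem]
        have e2 : ip σ x x = ip σ w w + μ := by
          rw [S.ip_update x S.c0, S.ip_update (update x S.c0 0) S.c1,
            S.ip_update (update (update x S.c0 0) S.c1 0) S.c2, update_of_ne S.ne01.symm,
            update_of_ne S.ne12.symm, update_of_ne S.ne02.symm]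
          ring
        rw [e1, hc, ← hx.2, e2]
    have hz0n : nn σ (z0 S.c2) = 1 := by rw [h02, hc, hμ]
    have hz0ne : nn σ (z0 S.c2) ≠ 0 := by rw [hz0n]; exact one_ne_zero
    have htau0 : S.tau z0 = S.big z0 := by
      have hg0 : S.Good (ap (π 1) z0) := by rw [map_one, ap_one]; simp [Good, h00, nn]
      rw [S.tau_eq hev (one_mem _) hd0 hg0, map_one, ap_one, inv_one, one_smul]
    have hQ : ∀ y, S.Dom y → (∀ l : Fin N, k + 2 < (l : ℕ) → y l = z0 l) →
        nn σ (y S.c0) + nn σ (y S.c1) + nn σ (y S.c2) = 1 →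
        ∃ p ∈ A k ⊔ A (k + 1), ap (π p) z0 = y ∧ S.tau y = p • S.tau z0 := by
      intro y hy hsl hsum
      obtain ⟨p0, hp0, hgood⟩ := S.exists_good hy
      obtain ⟨p, hp, e1, e2⟩ := S.exists_slice_path h00 h01 hz0ne (Or.inr hz0n) hd0
        (S.dom_ap (le_lvl le_rfl S.lt0 hp0) hy) hgood
        (fun l hl => by rw [S.P_coord (Subgroup.mem_sup_left hp0) hl, hsl l hl]) (by
          rw [S.A_coord hp0 S.ne02.symm S.ne12.symm, S.sum_pair_inv S.ne01
            (fun l a b => S.imgA hp0 l ⟨fun e => a (Fin.ext e), fun e => b (Fin.ext e)⟩), hsum, hz0n])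
      refine ⟨p0⁻¹ * p, mul_mem (inv_mem (Subgroup.mem_sup_left hp0)) hp, ?_, ?_⟩
      · rw [map_mul, ap_mul, e1, map_inv, ap_inv_ap]
      · rw [S.tau_eq hev hp0 hy hgood, e2, htau0, mul_smul]
    obtain ⟨p, hp, e1, e2⟩ := hQ x hx (fun l hl => (hoth l hl).symm) hμ
    obtain ⟨p', hp', e1', e2'⟩ := hQ (ap (π b) x) (S.dom_ap hbl hx)
      (fun l hl => by rw [S.P_coord (Subgroup.mem_sup_right hb) hl, hoth l hl]) (by
        rw [S.B_coord hb S.ne01 S.ne02, add_assoc, S.sum_pair_inv S.ne12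
          (fun l a b' => S.imgB hb l ⟨fun e => a (Fin.ext e), fun e => b' (Fin.ext e)⟩), ← add_assoc]
        exact hμ)
    set g := p'⁻¹ * b * p
    have hgP : g ∈ A k ⊔ A (k + 1) := mul_mem (mul_mem (inv_mem hp') (Subgroup.mem_sup_right hb)) hp
    have hgz : ap (π g) z0 = z0 := by
      simp only [g, map_mul, ap_mul, e1]
      rw [← e1', map_inv, ap_inv_ap]
    have hgA : g ∈ A k := S.slice_stab hd0 h00 h01 hz0ne hgP hgz
    have hfix : g • S.tau z0 = S.tau z0 := by rw [← (S.A_le_equi hev hgA).2 z0 hd0, hgz]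
    rw [e2, e2']
    conv_lhs => rw [← hfix]
    rw [← mul_smul, ← mul_smul]
    congr 1
    simp only [g]; group
  -- otherwise move the tail onto one axis
  set w := update (update (update x S.c0 0) S.c1 0) S.c2 0
  have hws : Supp (S.c3 : ℕ) w := fun l hl => by
    by_cases h2 : l = S.c2
    · simp [w, h2]
    · rw [show w l = update (update x S.c0 0) S.c1 0 l from update_of_ne h2 _ _]
      exact S.supp_tail x hx l (by have := Fin.val_ne_of_ne h2; simp [c2, c3] at *; omega)
  have hwn : ip σ w w ≠ 0 := by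
    have h := hx.2
    rw [S.ip_update x S.c0, S.ip_update (update x S.c0 0) S.c1,
      S.ip_update (update (update x S.c0 0) S.c1 0) S.c2, update_of_ne S.ne01.symm,
      update_of_ne S.ne12.symm, update_of_ne S.ne02.symm] at h
    exact fun e => hμ (by linear_combination h - e)
  obtain ⟨g, hgm, d, hd, -⟩ := exists_axis hS (N - k - 4) S.c3 (by have := S.lt; simp [c3]; omega) w hws hwn
  rw [gen_eq_lowFix hS] at hgm
  obtain ⟨m, hm, hme⟩ := S.exists_lift (j := k + 3) (g := g) fun l hl => hgm l (by simpa [c3] using hl)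
  have hm2 : m ∈ MM := lvl_mono (by omega) hm
  have hmk : m ∈ lvl N A k := lvl_mono (Nat.le_add_right k 3) hm
  have hmb : m * b = b * m := by
    have h : lvl N A (k + 3) ≤ Subgroup.centralizer (A (k + 1) : Set U) := iSup₂_le fun i hi y hy =>
      Subgroup.mem_centralizer_iff.2 fun z hz => S.am.comm (k + 1) i hi.1 hi.2 z hz y hy
    exact ((Subgroup.mem_centralizer_iff.1 (h hm)) b hb).symm
  have hmF : S.Four (ap (π m) x) := by
    intro l hl
    have n0 : l ≠ S.c0 := fun e => by rw [e] at hl; simp [c0] at hl <;> omega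
    have n1 : l ≠ S.c1 := fun e => by rw [e] at hl; simp [c1] at hl <;> omega
    have n2 : l ≠ S.c2 := fun e => by rw [e] at hl; simp [c2] at hl <;> omega
    have n3 : l ≠ S.c3 := fun e => by rw [e] at hl; simp [c3] at hl
    rw [hme, ← S.ap_update_eq (hgm S.c0 (by simp [c0, c3])) x l n0,
      ← S.ap_update_eq (hgm S.c1 (by simp [c1, c3])) _ l n1,
      ← S.ap_update_eq (hgm S.c2 (by simp [c2, c3])) _ l n2]
    show ap g w l = 0
    rw [hd]
    simp [ev_ne n3]
  obtain ⟨r, hr, her⟩ := S.exists_four_rep h4 (S.dom_ap hmk hx) hmF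
  have hbr : b * r ∈ P4 := mul_mem (Subgroup.mem_sup_right (Subgroup.mem_sup_left hb)) hr
  have hbF : S.Four (ap (π b) (ap (π m) x)) := fun l hl => by
    rw [coord_fix hS (S.imgP4 (Subgroup.mem_sup_right (Subgroup.mem_sup_left hb)) l (Or.inr hl)), hmF l hl]
  have key : S.tau (ap (π b) (ap (π m) x)) = b • S.tau (ap (π m) x) := by
    rw [S.tau_four h4 (S.dom_ap hmk hx) hmF r hr her, S.tau_four h4 (S.dom_ap hbl (S.dom_ap hmk hx)) hbF _ hbr
      (by rw [map_mul, ap_mul, her]), MulAction.Quotient.smul_coe, smul_eq_mul]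
  have hmeq := (S.M_le_equi hev hm2).2
  rw [← ap_mul, ← map_mul, ← hmb, map_mul, ap_mul, hmeq _ (S.dom_ap hbl hx), hmeq _ hx, ← mul_smul b m, ← hmb,
    mul_smul] at key
  exact smul_left_cancel m key

theorem kerFree4 : KerFree π (lvl N A k) := S.kerFree (S.evA4 h4) (S.B_equi4 h4)

end Step

/-- The amalgam maps injectively when four consecutive coordinates are faithful. -/
theorem Amal.kerFree_four (am : Amal σ π A) (h4 : Free4 π A) : ∀ k, KerFree π (lvl N A k) :=
  am.kerFree_of_step fun _ S => S.kerFree4 h4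

end Cfsg.Agent.Phan
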