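import Cfsg.Agent.Phan.Normal
import Cfsg.Agent.Phan.Four

/-!
A chain of standard pairs gives a quotient of the unitary group: over a field with more than nine elements,
or when each three consecutive members come from four-dimensional unitary groups.
-/

set_option autoImplicit false
set_option linter.unusedSectionVars false
set_option linter.unusedSimpArgs false

open Matrix Function

namespace Cfsg.Agent.Phan

universe u v

variable {F : Type u} [Field F] [Fintype F] {σ : F →+* F} {q : ℕ} {G : Type v} [Group G]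

/-- Coordinates for a standard pair. -/
structure Pair (hS : Fld σ q) (f : SUn 3 F q →* G) (A B : Subgroup G) : Prop where
  left : (f.comp (e01 hS)).range = A
  right : (f.comp (e12 hS)).range = B
  injL : Injective (f.comp (e01 hS))
  injR : Injective (f.comp (e12 hS))
  ker : f.ker ≤ Subgroup.center (SUn 3 F q)

variable (hS : Fld σ q)
include hS

theorem mem_range_e12 {g : SUn 3 F q} : g ∈ (e12 hS).range ↔ ap g (ev 0) = ev 0 := by
  rw [e12, range_emb]
  refine ⟨fun h => h 0 (notMem_range_pair.2 ⟨by decide, by decide⟩), fun h l hl => ?_⟩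
  obtain ⟨h1, h2⟩ := notMem_range_pair.1 hl
  rw [show l = 0 by fin_cases l <;> simp_all]
  exact h

theorem range_eq_blk {n : ℕ} {i : ℕ} (hi : i + 1 < n) :
    (emb hS (![⟨i, by omega⟩, ⟨i + 1, hi⟩] : Fin 2 → Fin n)
      (injective_pair hS (Fin.ne_of_val_ne (by simp)))).range = blk i := by
  rw [range_emb]
  refine le_antisymm (fun g hg l hl => hg l (notMem_range_pair.2 ⟨fun e => hl.1 (congrArg Fin.val e),
    fun e => hl.2 (congrArg Fin.val e)⟩)) fun g hg l hl => ?_
  obtain ⟨h1, h2⟩ := notMem_range_pair.1 hl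
  exact hg l ⟨fun e => h1 (Fin.ext e), fun e => h2 (Fin.ext e)⟩

theorem e01_sup_e12 [Fact (2 < q)] : (e01 hS).range ⊔ (e12 hS).range = ⊤ := by
  refine eq_top_iff.2 ?_
  have h : (lowFix 0 : Subgroup (SUn 3 F q)) = ⊤ := eq_top_iff.2 fun g _ l hl => absurd hl (Nat.not_lt_zero _)
  rw [← h, ← gen_eq_lowFix hS]
  refine iSup₂_le fun i hi => ?_
  obtain rfl | rfl : i = 0 ∨ i = 1 := by omega
  · rw [← range_eq_blk hS (n := 3) (i := 0) (by omega)]
    exact le_sup_left (a := (e01 hS).range)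
  · rw [← range_eq_blk hS (n := 3) (i := 1) (by omega)]
    exact le_sup_right (b := (e12 hS).range)

theorem Pair.range_le [Fact (2 < q)] {f : SUn 3 F q →* G} {A B : Subgroup G} (h : Pair hS f A B) : f.range ≤ A ⊔ B := by
  rw [MonoidHom.range_eq_map, ← e01_sup_e12 hS, Subgroup.map_sup, MonoidHom.map_range, MonoidHom.map_range,
    h.left, h.right]

/-- Conjugation by the torus of the first plane on the second. -/
theorem e01_conj (η : F) (hη : nn σ η + nn σ (0 : F) = 1) (r s : F) (h : nn σ r + nn σ s = 1)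
    (h' : nn σ r + nn σ (η * s) = 1) :
    e01 hS (mk2 hS η 0 hη) * e12 hS (mk2 hS r s h) = e12 hS (mk2 hS r (η * s) h') * e01 hS (mk2 hS η 0 hη) := by
  have hη1 : η * σ η = 1 := by simpa [nn] using hη
  refine ext_ev fun l => funext fun i => ?_
  simp only [ap_mul, e01_ap, e12_ap, mx_mk2]
  fin_cases i <;> fin_cases l <;> simp [ev, map_mul]
  all_goals first | ring1 | linear_combination -s * hη1

/-- Re-coordinatising the right-hand pair. -/
theorem exists_adjust {A B C : Subgroup G} {φ f : SUn 3 F q →* G} (hφ : Pair hS φ A B) (hf : Pair hS f B C)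
    (hAC : ∀ a ∈ A, ∀ c ∈ C, a * c = c * a) :
    ∃ f' : SUn 3 F q →* G, Pair hS f' B C ∧ f'.comp (e01 hS) = φ.comp (e12 hS) := by
  obtain ⟨τ, hτ⟩ : ∃ τ : MulAut (SUn 2 F q), ∀ x, f (e01 hS (τ x)) = φ (e12 hS x) := by
    refine ⟨(MonoidHom.ofInjective hφ.injR).trans ((MulEquiv.subgroupCongr (hφ.right.trans hf.left.symm)).trans
      (MonoidHom.ofInjective hf.injL).symm), fun x => ?_⟩
    exact congrArg Subtype.val ((MonoidHom.ofInjective hf.injL).apply_symm_apply
      (MulEquiv.subgroupCongr (hφ.right.trans hf.left.symm) (MonoidHom.ofInjective hφ.injR x)))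
  -- the normaliser of `C` inside `B`, in both coordinates
  let Nz : G → Prop := fun g => ∀ c ∈ C, g * c * g⁻¹ ∈ C
  have nz_of : ∀ z, mx z 1 0 = 0 → Nz (f (e01 hS z)) := by
    intro z hz c hc
    rw [← hf.right] at hc ⊢
    obtain ⟨y, rfl⟩ := hc
    have hez : ap (e01 hS z) (ev 0) = mx z 0 0 • ev 0 := by
      funext i; rw [e01_ap]; fin_cases i <;> simp [ev, hz]
    have hr : mx z 0 0 ≠ 0 := fun e => ap_ne_zero (e01 hS z) (ev_ne_zero 0) (by rw [hez, e, zero_smul])
    have hmem : e01 hS z * e12 hS y * (e01 hS z)⁻¹ ∈ (e12 hS).range := by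
      rw [mem_range_e12 hS]
      refine smul_right_injective _ hr ?_
      show mx z 0 0 • ap _ (ev 0) = mx z 0 0 • ev 0
      rw [← ap_smul, ← hez, ap_mul, ap_mul, ap_inv_ap, (mem_range_e12 hS).1 ⟨y, rfl⟩]
    obtain ⟨y', hy'⟩ := hmem
    exact ⟨y', by simp only [MonoidHom.comp_apply, hy', map_mul, map_inv]⟩
  have of_nz : ∀ z, Nz (f (e01 hS z)) → mx z 1 0 = 0 := by
    intro z hz
    set b := e12 hS (mk2 hS (0 : F) 1 (by simp [nn]))
    obtain ⟨y, hy⟩ : f (e01 hS z) * f b * (f (e01 hS z))⁻¹ ∈ (f.comp (e12 hS)).range := by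
      rw [hf.right]
      exact hz _ (hf.right ▸ ⟨mk2 hS (0 : F) 1 (by simp [nn]), rfl⟩)
    have hk : (e12 hS y)⁻¹ * (e01 hS z * b * (e01 hS z)⁻¹) ∈ f.ker := by
      rw [MonoidHom.mem_ker, map_mul, map_inv, map_mul, map_mul, map_inv, ← hy]
      exact inv_mul_cancel _
    obtain ⟨lam, hlam⟩ := center_scalar hS _ (hf.ker hk)
    have h1 : ap (e01 hS z * b * (e01 hS z)⁻¹) (ev 0) = lam • ev 0 := by
      have := congrArg (ap (e12 hS y)) (hlam (ev 0))
      rw [ap_mul (e12 hS y)⁻¹, ap_ap_inv, ap_smul, (mem_range_e12 hS).1 ⟨y, rfl⟩] at this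
      exact this
    rw [ap_mul, ap_mul] at h1
    have h2 := congrFun (congrArg (ap (e01 hS z)⁻¹) h1) 2
    rw [ap_inv_ap, ap_smul, ← map_inv] at h2
    simp only [b, e12_ap, e01_ap, mx_mk2] at h2
    have hinv : mx z⁻¹ 1 0 = -mx z 1 0 := by
      show ((z.1)⁻¹ : Matrix.SpecialLinearGroup (Fin 2) F).1 1 0 = _
      rw [Matrix.SpecialLinearGroup.coe_inv, Matrix.adjugate_fin_two]
      rfl
    simpa [ev, hinv] using h2
  have hdiag : ∀ y, mx y 1 0 = 0 → mx (τ.symm y) 1 0 = 0 := by
    intro y hy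
    set x := τ.symm y
    obtain ⟨η, hη, hη'⟩ := hS.exists_moved
    have hη2 : nn σ η + nn σ (0 : F) = 1 := by rw [nn_zero, add_zero, hη]
    obtain ⟨h1, hx⟩ := su_two_form hS x
    set r := mx x 0 0
    set s := mx x 1 0
    have h' : nn σ r + nn σ (η * s) = 1 := by
      rw [← h1]
      unfold nn at hη ⊢
      rw [map_mul]
      linear_combination s * σ s * hη
    set x' := mk2 hS r (η * s) h'
    have hn : Nz (φ (e12 hS x)) := by rw [← hτ, τ.apply_symm_apply]; exact nz_of y hy
    set a := φ (e01 hS (mk2 hS η 0 hη2))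
    have ha : a ∈ A := hφ.left ▸ ⟨_, rfl⟩
    have hconj : φ (e12 hS x') = a * φ (e12 hS x) * a⁻¹ := by
      rw [eq_mul_inv_iff_mul_eq]
      show _ * φ _ = φ _ * _
      rw [← map_mul, ← map_mul, ← e01_conj hS η hη2 r s h1 h', ← hx]
    have hn' : Nz (φ (e12 hS x')) := by
      intro c hc
      have h := hn c hc
      have e1 : a⁻¹ * c * a = c := by rw [mul_assoc, ← hAC a ha c hc, inv_mul_cancel_left]
      have e2 : a * (φ (e12 hS x) * c * (φ (e12 hS x))⁻¹) * a⁻¹ = φ (e12 hS x) * c * (φ (e12 hS x))⁻¹ := by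
        rw [hAC a ha _ h, mul_inv_cancel_right]
      rw [hconj]
      rw [show a * φ (e12 hS x) * a⁻¹ * c * (a * φ (e12 hS x) * a⁻¹)⁻¹ =
        a * (φ (e12 hS x) * (a⁻¹ * c * a) * (φ (e12 hS x))⁻¹) * a⁻¹ by group, e1, e2]
      exact h
    have hd' : mx (τ x') 1 0 = 0 := of_nz _ (by rw [hτ]; exact hn')
    obtain ⟨g1, e1⟩ := su_two_form hS (τ x')
    obtain ⟨g2, e2⟩ := su_two_form hS y
    have hcomm : τ x' * y = y * τ x' := by
      refine Subtype.ext (Subtype.ext ?_)
      show mx (τ x') * mx y = mx y * mx (τ x')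
      rw [show mx (τ x') = !![_, _; _, _] from congrArg mx e1, show mx y = !![_, _; _, _] from congrArg mx e2,
        hd', hy]
      ext i j; fin_cases i <;> fin_cases j <;> simp [Matrix.mul_apply, Fin.sum_univ_two, mul_comm]
    have hc2 : x' * x = x * x' := τ.injective (by rw [map_mul, map_mul, τ.apply_symm_apply]; exact hcomm)
    have hm : mx x' * mx x = mx x * mx x' := congrArg mx hc2
    rw [show mx x = !![r, -σ s; s, σ r] from congrArg mx hx, mx_mk2] at hm
    have k := congrFun (congrFun hm 0) 0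
    simp [Matrix.mul_apply, Fin.sum_univ_two] at k
    have : (σ η - η) * (σ s * s) = 0 := by linear_combination k
    rcases mul_eq_zero.1 this with h | h
    · exact absurd (sub_eq_zero.1 h) hη'
    · rcases mul_eq_zero.1 h with h | h
      · exact (map_eq_zero σ).1 h
      · exact h
  obtain ⟨α', hα1, hα2⟩ := exists_extension hS τ.symm hdiag
  have hα : ∀ x, α'.symm (e01 hS x) = e01 hS (τ x) := fun x => by
    rw [MulEquiv.symm_apply_eq, hα1, τ.symm_apply_apply]
  refine ⟨f.comp α'.symm.toMonoidHom, ⟨?_, ?_, ?_, ?_, fun g hg => ?_⟩, MonoidHom.ext fun x => ?_⟩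
  · rw [← hf.left]
    refine le_antisymm ?_ ?_
    · rintro _ ⟨x, rfl⟩; exact ⟨τ x, by simp [hα]⟩
    · rintro _ ⟨x, rfl⟩; exact ⟨τ.symm x, by simp [hα]⟩
  · rw [← MonoidHom.map_range, ← Subgroup.map_map, ← hf.right, ← MonoidHom.map_range]
    congr 1
    conv_lhs => rw [← hα2]
    rw [Subgroup.map_map]
    convert Subgroup.map_id _
    ext x; simp
  · exact fun x y h => τ.injective (hf.injL (by simpa [hα] using h))
  · intro x y h
    have hm : ∀ x, ∃ z, e12 hS z = α'.symm (e12 hS x) := fun x => by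
      obtain ⟨_, ⟨z, rfl⟩, hz⟩ : e12 hS x ∈ (e12 hS).range.map α'.toMonoidHom := by
        rw [show (e12 hS).range.map α'.toMonoidHom = (e12 hS).range from hα2]; exact ⟨x, rfl⟩
      exact ⟨z, (MulEquiv.eq_symm_apply _).2 hz⟩
    obtain ⟨z, hz⟩ := hm x
    obtain ⟨w, hw⟩ := hm y
    have hzw : z = w := hf.injR (by simpa [hz, hw] using h)
    exact emb_injective hS _ _ (α'.symm.injective (by rw [← hzw] at hw; exact hz.symm.trans hw))
  · have h := hf.ker (show α'.symm g ∈ f.ker from hg)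
    rw [Subgroup.mem_center_iff] at h ⊢
    intro y
    exact α'.symm.injective (by simpa using h (α'.symm y))
  · show f (α'.symm (e01 hS x)) = φ (e12 hS x)
    rw [hα, hτ]

/-- The coordinates can be chosen to agree on overlaps. -/
theorem exists_coherent {n : ℕ} {Uc : ℕ → Subgroup G} {χ : ℕ → SUn 3 F q →* G}
    (hP : ∀ i, i + 1 < n → Pair hS (χ i) (Uc i) (Uc (i + 1)))
    (hc : ∀ i j, i + 2 ≤ j → j < n → ∀ x ∈ Uc i, ∀ y ∈ Uc j, x * y = y * x) :
    ∃ χ' : ℕ → SUn 3 F q →* G, (∀ i, i + 1 < n → Pair hS (χ' i) (Uc i) (Uc (i + 1))) ∧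
      ∀ i, i + 2 < n → (χ' (i + 1)).comp (e01 hS) = (χ' i).comp (e12 hS) := by
  classical
  suffices ∀ m, ∃ χ' : ℕ → SUn 3 F q →* G, (∀ i, i + 1 < n → Pair hS (χ' i) (Uc i) (Uc (i + 1))) ∧
      ∀ i, i < m → i + 2 < n → (χ' (i + 1)).comp (e01 hS) = (χ' i).comp (e12 hS) by
    obtain ⟨χ', h1, h2⟩ := this n
    exact ⟨χ', h1, fun i hi => h2 i (by omega) hi⟩
  intro m
  induction m with
  | zero => exact ⟨χ, hP, fun i hi => absurd hi (Nat.not_lt_zero i)⟩
  | succ m ih =>
    obtain ⟨χ', h1, h2⟩ := ih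
    by_cases hm : m + 2 < n
    swap
    · exact ⟨χ', h1, fun i hi hi' => h2 i (by omega) hi'⟩
    obtain ⟨f', hf', he⟩ := exists_adjust hS (h1 m (by omega)) (h1 (m + 1) (by omega))
      (hc m (m + 2) le_rfl hm)
    refine ⟨update χ' (m + 1) f', fun i hi => ?_, fun i hi hi' => ?_⟩
    · by_cases h : i = m + 1
      · subst h; rw [update_self]; exact hf'
      · rw [update_of_ne h]; exact h1 i hi
    · by_cases h : i = m
      · subst h; rw [update_self, update_of_ne (by omega)]; exact he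
      · rw [update_of_ne (by omega), update_of_ne (by omega)]; exact h2 i (by omega) hi'

/-- The planes of SU₄. -/
noncomputable def e4 (a : Fin 3) : SUn 2 F q →* SUn 4 F q :=
  emb hS ![a.castSucc, a.succ] (injective_pair hS (Fin.ne_of_lt a.castSucc_lt_succ))

/-- Coherent standard pairs give a quotient of the unitary group. -/
theorem surjection_of_coherent [Fact (2 < q)] {n : ℕ} {Uc : ℕ → Subgroup G} {ψ : ℕ → SUn 3 F q →* G}
    (hψ : ∀ i, i + 1 < n → Pair hS (ψ i) (Uc i) (Uc (i + 1))) (hn : 2 ≤ n)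
    (hc : ∀ i j, i + 2 ≤ j → j < n → ∀ x ∈ Uc i, ∀ y ∈ Uc j, x * y = y * x)
    (hco : ∀ i, i + 2 < n → (ψ (i + 1)).comp (e01 hS) = (ψ i).comp (e12 hS))
    (hcase : 3 < q ∨ ∀ i, i + 2 < n → ∃ Φ : SUn 4 F q →* G, Φ.comp (e4 hS 0) = (ψ i).comp (e01 hS) ∧
      Φ.comp (e4 hS 1) = (ψ i).comp (e12 hS) ∧ Φ.comp (e4 hS 2) = (ψ (i + 1)).comp (e12 hS)) :
    ∃ f : SUn (n + 1) F q →* G, ∀ i, i < n → Uc i ≤ f.range := by
  -- the planes
  let φ : ℕ → SUn 2 F q →* G := fun i =>
    if i + 1 < n then (ψ i).comp (e01 hS) else (ψ (i - 1)).comp (e12 hS)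
  have hφ2 : ∀ i, i + 1 < n → φ (i + 1) = (ψ i).comp (e12 hS) := fun i hi => by
    by_cases h : i + 1 + 1 < n
    · simp only [φ, if_pos h]; exact hco i h
    · simp only [φ, if_neg h, Nat.add_sub_cancel]
  have hφr : ∀ i, i < n → (φ i).range = Uc i := fun i hi => by
    by_cases h : i + 1 < n
    · simp only [φ, if_pos h]; exact (hψ i h).left
    · obtain ⟨j, rfl⟩ : ∃ j, i = j + 1 := ⟨i - 1, by omega⟩
      rw [hφ2 j (by omega)]; exact (hψ j (by omega)).right
  let ι : ℕ → SUn 2 F q →* SUn (n + 1) F q := fun i =>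
    if h : i + 1 < n + 1 then emb hS (![⟨i, by omega⟩, ⟨i + 1, h⟩] : Fin 2 → Fin (n + 1))
      (injective_pair hS (Fin.ne_of_val_ne (by simp))) else 1
  have hι : ∀ i (h : i + 1 < n + 1), ι i = emb hS (![⟨i, by omega⟩, ⟨i + 1, h⟩] : Fin 2 → Fin (n + 1))
      (injective_pair hS (Fin.ne_of_val_ne (by simp))) := fun i h => dif_pos h
  have hιr : ∀ i, i + 1 < n + 1 → (ι i).range = blk i := fun i h => by rw [hι i h]; exact range_eq_blk hS h
  have hιi : ∀ i, i + 1 < n + 1 → Injective (ι i) := fun i h => by rw [hι i h]; exact emb_injective hS _ _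
  let A : ℕ → Subgroup (G × SUn (n + 1) F q) := fun i => ((φ i).prod (ι i)).range
  have am : Amal σ (MonoidHom.snd G (SUn (n + 1) F q)) A :=
    { fld := hS
      map := fun i hi => by
        simp only [A, MonoidHom.map_range, MonoidHom.snd_comp_prod]
        exact hιr i hi
      freeA := fun i hi => by
        rintro _ ⟨x, rfl⟩ hx
        rw [show x = 1 from hιi i hi (hx.trans (map_one _).symm), map_one]
      free := fun i hi => by
        have hc3 : Injective (![⟨i, by omega⟩, ⟨i + 1, by omega⟩, ⟨i + 2, hi⟩] : Fin 3 → Fin (n + 1)) := by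
          intro a b hab
          fin_cases a <;> fin_cases b <;> simp at hab <;> rfl
        set c3 := emb hS (![⟨i, by omega⟩, ⟨i + 1, by omega⟩, ⟨i + 2, hi⟩] : Fin 3 → Fin (n + 1)) hc3
        have hle : A i ⊔ A (i + 1) ≤ ((ψ i).prod c3).range := by
          refine sup_le ?_ ?_
          · rintro _ ⟨x, rfl⟩
            refine ⟨e01 hS x, Prod.ext ?_ ?_⟩
            · simp [φ, show i + 1 < n by omega]
            · show c3 (e01 hS x) = ι i x
              rw [hι i (by omega)]
              simp only [c3, e01, emb_comp]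
              congr 2
              funext j; fin_cases j <;> rfl
          · rintro _ ⟨x, rfl⟩
            refine ⟨e12 hS x, Prod.ext ?_ ?_⟩
            · simp [hφ2 i (by omega)]
            · show c3 (e12 hS x) = ι (i + 1) x
              rw [hι (i + 1) (by omega)]
              simp only [c3, e12, emb_comp]
              congr 2
              funext j; fin_cases j <;> rfl
        intro x hx hx1
        obtain ⟨y, rfl⟩ := hle hx
        rw [show y = 1 from emb_injective hS _ hc3 (hx1.trans (map_one _).symm), map_one]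
      comm := fun i j hij hj => by
        rintro _ ⟨x, rfl⟩ _ ⟨y, rfl⟩
        refine Prod.ext (hc i j hij (by omega) _ (hφr i (by omega) ▸ ⟨x, rfl⟩) _ (hφr j (by omega) ▸ ⟨y, rfl⟩)) ?_
        exact commute_of_fixSet hS
          (p := fun l : Fin (n + 1) => (l : ℕ) ≠ i ∧ (l : ℕ) ≠ i + 1)
          (p' := fun l : Fin (n + 1) => (l : ℕ) ≠ j ∧ (l : ℕ) ≠ j + 1) (fun l => by omega)
          (show ι i x ∈ blk i from hιr i (by omega) ▸ ⟨x, rfl⟩)
          (show ι j y ∈ blk j from hιr j (by omega) ▸ ⟨y, rfl⟩) }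
  set π := MonoidHom.snd G (SUn (n + 1) F q)
  set W := lvl (n + 1) A 0
  have hker : ∀ k, KerFree π (lvl (n + 1) A k) := by
    rcases hcase with hq | hfour
    · exact am.kerFree hq
    refine am.kerFree_four fun i hi => ?_
    obtain ⟨Φ, p0, p1, p2⟩ := hfour i (by omega)
    have hc4 : Injective (fun j : Fin 4 => (⟨i + j, by omega⟩ : Fin (n + 1))) := fun a b h =>
      Fin.ext (by simpa using congrArg Fin.val h)
    set c4 := emb hS _ hc4
    have hsub : ∀ (a : Fin 3) (x : SUn 2 F q), c4 (e4 hS a x) = ι (i + a) x := fun a x => by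
      rw [hι (i + a) (by omega)]
      simp only [c4, e4, emb_comp]
      congr 2
      funext j; fin_cases j <;> simp [Fin.ext_iff, add_assoc]
    have hle : A i ⊔ (A (i + 1) ⊔ A (i + 2)) ≤ (Φ.prod c4).range := by
      refine sup_le ?_ (sup_le ?_ ?_)
      · rintro _ ⟨x, rfl⟩
        refine ⟨e4 hS 0 x, Prod.ext ?_ (hsub 0 x)⟩
        show Φ (e4 hS 0 x) = φ i x
        rw [show φ i = (ψ i).comp (e01 hS) from if_pos (by omega), ← p0]; rfl
      · rintro _ ⟨x, rfl⟩
        refine ⟨e4 hS 1 x, Prod.ext ?_ (hsub 1 x)⟩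
        show Φ (e4 hS 1 x) = φ (i + 1) x
        rw [hφ2 i (by omega), ← p1]; rfl
      · rintro _ ⟨x, rfl⟩
        refine ⟨e4 hS 2 x, Prod.ext ?_ (hsub 2 x)⟩
        show Φ (e4 hS 2 x) = φ (i + 1 + 1) x
        rw [hφ2 (i + 1) (by omega), ← p2]; rfl
    intro x hx hx1
    obtain ⟨y, rfl⟩ := hle hx
    rw [show y = 1 from emb_injective hS _ hc4 (hx1.trans (map_one _).symm), map_one]
  have hbij : Bijective (π.comp W.subtype) := by
    refine ⟨(injective_iff_map_eq_one _).2 fun x hx => Subtype.ext (hker 0 x x.2 hx), fun g => ?_⟩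
    obtain ⟨x, hx, hxg⟩ : g ∈ W.map π := by
      rw [am.map_lvl]; exact fun l hl => absurd hl (Nat.not_lt_zero _)
    exact ⟨⟨x, hx⟩, hxg⟩
  let e := MulEquiv.ofBijective (π.comp W.subtype) hbij
  refine ⟨(MonoidHom.fst _ _).comp (W.subtype.comp e.symm.toMonoidHom), fun i hi => ?_⟩
  rw [← hφr i hi]
  rintro _ ⟨x, rfl⟩
  have hx : (φ i x, ι i x) ∈ W := le_lvl (Nat.zero_le _) (show i + 1 < n + 1 by omega) ⟨x, rfl⟩
  refine ⟨ι i x, ?_⟩
  have h : e.symm (ι i x) = ⟨_, hx⟩ := (MulEquiv.symm_apply_eq e).2 rfl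
  show (W.subtype (e.symm (ι i x))).1 = _
  rw [h]
  rfl

/-- A chain of standard pairs is a quotient of the unitary group. -/
theorem exists_surjection [Fact (2 < q)] (hq : 3 < q) {n : ℕ} (hn : 2 ≤ n) {Uc : ℕ → Subgroup G} {χ : ℕ → SUn 3 F q →* G}
    (hP : ∀ i, i + 1 < n → Pair hS (χ i) (Uc i) (Uc (i + 1)))
    (hc : ∀ i j, i + 2 ≤ j → j < n → ∀ x ∈ Uc i, ∀ y ∈ Uc j, x * y = y * x) :
    ∃ f : SUn (n + 1) F q →* G, ∀ i, i < n → Uc i ≤ f.range := by
  obtain ⟨ψ, hψ, hco⟩ := exists_coherent hS hP hc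
  exact surjection_of_coherent hS hψ hn hc hco (Or.inl hq)

/-- A standard pair has coordinates. -/
theorem exists_pair {V A B : Subgroup G} (h : Cfsg.IsStandardUnitaryPair V A B F q) :
    ∃ f : SUn 3 F q →* G, Pair hS f A B ∧ f.range = V := by
  have hblk : ∀ (a b : Fin 3) (hab : a ≠ b),
      Cfsg.suBlock 3 F q {a, b} = (emb hS ![a, b] (injective_pair hS hab)).range := by
    intro a b hab
    rw [range_emb]
    refine le_antisymm ((Subgroup.closure_le _).2 fun g hg l hl => ?_) fun g hg => Subgroup.subset_closure ?_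
    · obtain ⟨h1, h2⟩ := notMem_range_pair.1 hl
      obtain ⟨d, o⟩ := hg l (by simp [h1, h2])
      funext i
      simp only [ap, ev, mulVec_single_one, Matrix.col_apply]
      by_cases hi : i = l
      · subst hi; simpa using d
      · simpa [Pi.single_eq_of_ne hi] using (o i hi).2
    · intro k hk
      have hk' : k ∉ Set.range ![a, b] := notMem_range_pair.2 (by simpa using hk)
      have col : ∀ i, mx g i k = (ev k : Vec 3 F) i := fun i => by
        simpa [ap, ev, mulVec_single_one] using congrFun (hg k hk') i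
      refine ⟨(col k).trans (ev_self k), fun l hl => ⟨?_, (col l).trans (ev_ne hl)⟩⟩
      have := coord_fix hS (hg k hk') (ev l)
      simp only [ap, ev, mulVec_single_one, Matrix.col_apply, Pi.single_eq_of_ne hl.symm] at this
      exact this
  have h01 : Cfsg.suBlock 3 F q {0, 1} = (e01 hS).range := hblk 0 1 (by decide)
  have h12 : Cfsg.suBlock 3 F q {1, 2} = (e12 hS).range := hblk 1 2 (by decide)
  suffices ∀ f : SUn 3 F q →* G, (Cfsg.suBlock 3 F q {0, 1}).map f = A →
      (Cfsg.suBlock 3 F q {1, 2}).map f = B → f.ker ≤ Subgroup.center (SUn 3 F q) → Pair hS f A B by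
    rcases h with ⟨ψ, ha, hb⟩ | ⟨ψ, ha, hb⟩
    · refine ⟨_, this _ ha hb ?_, ?_⟩
      · intro g hg
        rw [show g = 1 from ψ.injective (Subtype.ext (hg.trans (by simp)))]
        exact one_mem _
      · rw [← MonoidHom.map_range]
        simp [← MonoidHom.range_eq_map]
    · refine ⟨_, this _ ha hb ?_, ?_⟩
      · intro g hg
        refine (QuotientGroup.eq_one_iff g).1 (ψ.injective (Subtype.ext ?_))
        exact (hg : _ = (1 : G)).trans (by simp)
      · rw [← MonoidHom.map_range, ← MonoidHom.map_range, QuotientGroup.range_mk']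
        simp [← MonoidHom.range_eq_map]
  intro f ha hb hk
  rw [h01, MonoidHom.map_range] at ha
  rw [h12, MonoidHom.map_range] at hb
  refine ⟨ha, hb, ?_, ?_, hk⟩
  all_goals refine (injective_iff_map_eq_one _).2 fun x hx => ?_
  all_goals obtain ⟨lam, hlam⟩ := center_scalar hS _ (hk hx)
  · have h2 := congrFun (hlam (ev 2)) 2
    rw [e01_ap] at h2
    have hl : lam = 1 := by simpa [ev] using h2.symm
    have he : _ = (1 : SUn 3 F q) := ext_ev fun l => (hlam (ev l)).trans (by rw [hl, one_smul, ap_one])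
    exact emb_injective hS _ _ (he.trans (map_one _).symm)
  · have h2 := congrFun (hlam (ev 0)) 0
    rw [e12_ap] at h2
    have hl : lam = 1 := by simpa [ev] using h2.symm
    have he : _ = (1 : SUn 3 F q) := ext_ev fun l => (hlam (ev l)).trans (by rw [hl, one_smul, ap_one])
    exact emb_injective hS _ _ (he.trans (map_one _).symm)

end Cfsg.Agent.Phan
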