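import Cfsg.Agent.Phan.LiftBase
import Cfsg.Agent.Classical.KleinIso

/-!
Over nine elements: a quotient of SU₄ containing three chained copies of SU₂ maps the standard planes onto them.
-/

set_option autoImplicit false
set_option linter.unusedSectionVars false
set_option linter.unusedSimpArgs false

open Matrix Function

namespace Cfsg.Agent.Phan

universe u v

variable {F : Type u} [Field F] [Fintype F] {σ : F →+* F} [CharP F 3] {G : Type v} [Group G]
variable (hS : Fld σ 3)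
include hS

/-- The torus of one copy acts on the next as on a coordinate plane. -/
def Rel (φ φ' : SUn 2 F 3 →* G) : Prop :=
  ∀ (η r s : F) (hη : nn σ η + nn σ (0 : F) = 1) (h : nn σ r + nn σ s = 1) (h' : nn σ r + nn σ (η * s) = 1),
    φ (mk2 hS η 0 hη) * φ' (mk2 hS r s h) = φ' (mk2 hS r (η * s) h') * φ (mk2 hS η 0 hη)

/-- Three chained copies of SU₂ in a quotient of SU₄. -/
structure Lifting (g : SUn 4 F 3 →* G) (φ : Fin 3 → SUn 2 F 3 →* G) : Prop where
  inj : ∀ i, Injective (φ i)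
  le : ∀ i x, φ i x ∈ g.range
  rel : ∀ i j : Fin 3, (i : ℕ) + 1 = j ∨ (j : ℕ) + 1 = i → Rel hS (φ i) (φ j)
  comm : ∀ x y, φ 0 x * φ 2 y = φ 2 y * φ 0 x

variable {g : SUn 4 F 3 →* G} {φ : Fin 3 → SUn 2 F 3 →* G} (L : Lifting hS g φ)
include L

theorem Lifting.ker_le : g.ker ≤ Subgroup.center (SUn 4 F 3) := by
  have hF : Fintype.card F = 3 ^ 2 := by
    rw [← Nat.card_eq_fintype_card, Classical.Herm.card_eq_fix_sq hS.invol, hS.card_fix]
  have := Classical.isSimpleGroup_psu hF 4 (by norm_num) (by norm_num)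
  set Z := Subgroup.center (SUn 4 F 3)
  set mk := QuotientGroup.mk' Z
  have hn : (g.ker.map mk).Normal := Subgroup.Normal.map inferInstance mk (QuotientGroup.mk'_surjective Z)
  rcases hn.eq_bot_or_eq_top with h | h
  · intro x hx
    have : mk x ∈ g.ker.map mk := ⟨x, hx, rfl⟩
    rw [h] at this
    exact (QuotientGroup.eq_one_iff x).1 this
  · exfalso
    have hc : ∀ x, ∃ c ∈ Z, g x = g c := fun x => by
      obtain ⟨k, hk, hkx⟩ := (h ▸ Subgroup.mem_top (mk x) : mk x ∈ g.ker.map mk)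
      refine ⟨k⁻¹ * x, (QuotientGroup.eq_one_iff _).1 ?_, ?_⟩
      · show mk (k⁻¹ * x) = 1
        rw [map_mul, map_inv, hkx, inv_mul_cancel]
      · rw [map_mul, map_inv, show g k = 1 from hk, inv_one, one_mul]
    have hab : commutator (SUn 4 F 3) ≤ g.ker := by
      rw [commutator_def, Subgroup.commutator_le]
      intro x _ y _
      obtain ⟨c, hcz, hgx⟩ := hc x
      obtain ⟨d, -, hgy⟩ := hc y
      rw [MonoidHom.mem_ker, map_commutatorElement, hgx, hgy, ← map_commutatorElement,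
        commutatorElement_eq_one_iff_mul_comm.2 ((Subgroup.mem_center_iff.1 hcz d).symm), map_one]
    rw [Classical.Exc.commutator_su_four hS.invol hS.pow hS.card_fix] at hab
    obtain ⟨x, hx⟩ := L.le 0 (negOne hS)
    refine negOne_ne_one hS two_ne_zero3 (L.inj 0 ?_)
    rw [map_one, ← hx]
    exact hab (Subgroup.mem_top x)

theorem Lifting.lift_eq {x y : SUn 4 F 3} (h : g x = g y) (hx : x ^ 3 = 1) (hy : y ^ 3 = 1) : x = y := by
  have hk : x⁻¹ * y ∈ g.ker := by rw [MonoidHom.mem_ker, map_mul, map_inv, h, inv_mul_cancel]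
  have hz := L.ker_le hS hk
  obtain ⟨-, -, h4⟩ := center4 hS hz
  have hxz : Commute x (x⁻¹ * y) := (Subgroup.mem_center_iff.1 hz x)
  have h3 : (x⁻¹ * y) ^ 3 = 1 := by
    have := hxz.mul_pow 3
    rw [mul_inv_cancel_left, hy, hx, one_mul] at this
    exact this.symm
  rw [pow_succ, h3, one_mul] at h4
  exact inv_mul_eq_one.1 h4

theorem Lifting.exists_lift {K : Subgroup (SUn 4 F 3)} {y : G} (hy : y ∈ K.map g) (h3 : y ^ 3 = 1) :
    ∃ x ∈ K, g x = y ∧ x ^ 3 = 1 := by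
  obtain ⟨w, hw, rfl⟩ := hy
  have hk : w ^ 3 ∈ g.ker := by rw [MonoidHom.mem_ker, map_pow, h3]
  have hz := L.ker_le hS hk
  obtain ⟨-, -, h4⟩ := center4 hS hz
  refine ⟨w * w ^ 3, mul_mem hw (pow_mem hw 3), by rw [map_mul, map_pow, h3, mul_one], ?_⟩
  rw [Commute.mul_pow (Commute.pow_right (Commute.refl w) 3), ← pow_succ' (w ^ 3), h4]

theorem Lifting.lift_comm {x y : SUn 4 F 3} (hx : x ^ 3 = 1) (h : g x * g y = g y * g x) : x * y = y * x := by
  have : x = y * x * y⁻¹ := L.lift_eq hS (by rw [map_mul, map_mul, map_inv, ← h, mul_inv_cancel_right]) hx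
    (by rw [conj_pow, hx, mul_one, mul_inv_cancel])
  calc x * y = y * x * y⁻¹ * y := by rw [← this]
    _ = y * x := by rw [inv_mul_cancel_right]

theorem Lifting.injective_plane (a : Fin 3) : Injective (g.comp (e4 hS a)) := by
  refine (injective_iff_map_eq_one _).2 fun x hx => ?_
  obtain ⟨lam, hlam, -⟩ := center4 hS (L.ker_le hS (show e4 hS a x ∈ g.ker from hx))
  obtain ⟨l, h1, h2⟩ : ∃ l : Fin 4, l ≠ a.castSucc ∧ l ≠ a.succ :=
    (by decide : ∀ a : Fin 3, ∃ l : Fin 4, l ≠ a.castSucc ∧ l ≠ a.succ) a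
  have he : ap (e4 hS a x) (ev l) = ev l := emb_ev_ne hS _ _ _ (notMem_range_pair.2 ⟨h1, h2⟩)
  have hl : lam = 1 := by
    have := congrFun ((hlam (ev l)).symm.trans he) l
    simpa [ev_self] using this
  have he1 : e4 hS a x = 1 := ext_ev fun l => (hlam (ev l)).trans (by rw [hl, one_smul, ap_one])
  exact emb_injective hS _ _ (he1.trans (map_one (e4 hS a)).symm)

theorem Lifting.act {i j : Fin 3} (hij : (i : ℕ) + 1 = j ∨ (j : ℕ) + 1 = i) (r s : F)
    (h : nn σ r + nn σ s = 1) (h' : nn σ r + nn σ ((-1) * s) = 1) :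
    φ i (negOne hS) * φ j (mk2 hS r s h) = φ j (mk2 hS r ((-1) * s) h') * φ i (negOne hS) :=
  L.rel i j hij (-1) r s (by simp [nn]) h h'

theorem Lifting.diag_comm {i j : Fin 3} (hij : (i : ℕ) + 1 = j ∨ (j : ℕ) + 1 = i) {x : SUn 2 F 3}
    (hx : mx x 1 0 = 0) : φ i x * φ j (negOne hS) = φ j (negOne hS) * φ i x := by
  obtain ⟨h1, he⟩ := su_two_form hS x
  set r := mx x 0 0
  set s := mx x 1 0
  have key : ∀ (s : F) (h : nn σ r + nn σ s = 1), s = 0 →
      φ i (mk2 hS r s h) * φ j (negOne hS) = φ j (negOne hS) * φ i (mk2 hS r s h) := by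
    rintro s h rfl
    have h' : nn σ (-1 : F) + nn σ (r * 0) = 1 := by simp [nn]
    have := L.rel i j hij r (-1) 0 h (by simp [nn]) h'
    simp only [mul_zero] at this
    exact this
  rw [he]
  exact key s h1 hx

/-- The centraliser of a plane involution in a plane. -/
theorem Lifting.diag_of_comm (a b : Fin 3) {y : SUn 2 F 3} (l : Fin 4) (hl : l ≠ a.castSucc ∧ l ≠ a.succ)
    (hne : ¬((a.castSucc = b.castSucc ∨ a.castSucc = b.succ) ↔ (a.succ = b.castSucc ∨ a.succ = b.succ)))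
    (h : g (e4 hS a y) * g (e4 hS b (negOne hS)) = g (e4 hS b (negOne hS)) * g (e4 hS a y)) :
    mx y 1 0 = 0 := by
  set T := e4 hS a y
  set C := e4 hS b (negOne hS)
  have hk : (C * T)⁻¹ * (T * C) ∈ g.ker := by
    rw [MonoidHom.mem_ker, map_mul, map_inv, map_mul, map_mul, h, inv_mul_cancel]
  obtain ⟨lam, hlam, -⟩ := center4 hS (L.ker_le hS hk)
  have hT : ap T (ev l) = ev l := emb_ev_ne hS _ _ _ (notMem_range_pair.2 hl)
  have hTC : ∀ v, ap T (ap C v) = lam • ap C (ap T v) := fun v => by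
    have := congrArg (ap (C * T)) (hlam v)
    rw [← ap_mul, ← mul_assoc, mul_inv_cancel, one_mul, ap_smul] at this
    rw [← ap_mul, ← ap_mul]
    exact this
  have hC : ∀ m, ap C (ev m) = (sgn b m : F) • ev m := e4_negOne_ev hS b
  have hs0 : (sgn b l : F) ≠ 0 := by unfold sgn; split_ifs <;> simp
  have hlam1 : lam = 1 := by
    have := congrFun (hTC (ev l)) l
    rw [hC, ap_smul, hT, hC] at this
    simp [ev_self] at this
    exact mul_right_cancel₀ hs0 (by rw [one_mul]; exact this.symm)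
  have h10 := congrFun (hTC (ev a.castSucc)) a.succ
  have hab : a.castSucc ≠ a.succ := Fin.ne_of_lt a.castSucc_lt_succ
  rw [hlam1, one_smul, hC, ap_smul, e4_ev_fst hS, ap_add, ap_smul, ap_smul, hC, hC] at h10
  simp [ev_self, ev_ne hab, ev_ne hab.symm] at h10
  by_contra hne0
  have hs : (sgn b a.castSucc : F) = sgn b a.succ := mul_right_cancel₀ hne0 (by linear_combination h10)
  apply hne
  unfold sgn at hs
  constructor <;> intro hh <;> by_contra hh'
  · rw [if_pos hh, if_neg hh'] at hs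
    exact two_ne_zero3 (F := F) (by linear_combination -hs)
  · rw [if_pos hh, if_neg hh'] at hs
    exact two_ne_zero3 (F := F) (by linear_combination hs)

theorem Lifting.mem_map_closure {a b : SUn 2 F 3} (htop : Subgroup.closure {a, b} = ⊤) {i : Fin 3}
    {A B : SUn 4 F 3} (gA : g A = φ i a) (gB : g B = φ i b) (x : SUn 2 F 3) :
    φ i x ∈ (Subgroup.closure {A, B}).map g := by
  have h : Subgroup.closure {a, b} ≤ ((Subgroup.closure {A, B}).map g).comap (φ i) := by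
    rw [Subgroup.closure_le]
    rintro y (rfl | rfl)
    · exact ⟨A, Subgroup.subset_closure (Set.mem_insert _ _), gA⟩
    · exact ⟨B, Subgroup.subset_closure (Set.mem_insert_of_mem _ rfl), gB⟩
  exact h (htop ▸ Subgroup.mem_top x)

theorem Lifting.braid {a b : SUn 2 F 3} (hbr : a * b * a = b * a * b) {i : Fin 3}
    {A B : SUn 4 F 3} (hA : A ^ 3 = 1) (hB : B ^ 3 = 1) (gA : g A = φ i a) (gB : g B = φ i b) :
    A * B * A = B * A * B := by
  have h : (A * B) * A * (A * B)⁻¹ = B := by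
    refine L.lift_eq hS ?_ (by rw [conj_pow, hA, mul_one, mul_inv_cancel]) hB
    rw [map_mul, map_mul, map_inv, map_mul, gA, gB, ← map_mul, ← map_mul, ← map_inv, ← map_mul, hbr]
    congr 1
    group
  rw [mul_inv_eq_iff_eq_mul] at h
  rw [h, mul_assoc]

theorem Lifting.map_sq {a b : SUn 2 F 3} (hsq : (a * b⁻¹) ^ 2 = negOne hS) {i : Fin 3}
    {A B : SUn 4 F 3} (gA : g A = φ i a) (gB : g B = φ i b) : g ((A * B⁻¹) ^ 2) = φ i (negOne hS) := by
  rw [map_pow, map_mul, map_inv, gA, gB, ← map_inv, ← map_mul, ← map_pow, hsq]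

omit L in
theorem mk2_congr {r s r' s' : F} (hr : r = r') (hs : s = s') (h : nn σ r + nn σ s = 1)
    (h' : nn σ r' + nn σ s' = 1) : mk2 hS r s h = mk2 hS r' s' h' := by
  subst hr hs; rfl

omit L in
theorem nn_scale {η r s : F} (hη : nn σ η + nn σ (0 : F) = 1) (h : nn σ r + nn σ s = 1) :
    nn σ r + nn σ (η * s) = 1 := by
  unfold nn at *
  rw [map_mul]
  rw [map_zero, mul_zero, add_zero] at hη
  linear_combination h + s * σ s * hη

omit L in
theorem eq_diag {y : SUn 2 F 3} (hd : mx y 1 0 = 0) :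
    ∃ (κ : F) (h : nn σ κ + nn σ (0 : F) = 1), y = mk2 hS κ 0 h := by
  obtain ⟨h1, hy⟩ := su_two_form hS y
  exact ⟨mx y 0 0, by rw [← hd]; exact h1, hy.trans (mk2_congr hS rfl hd _ _)⟩

omit L in
theorem mx_inv_two (z : SUn 2 F 3) : mx z⁻¹ 1 0 = -mx z 1 0 := by
  show ((z.1)⁻¹ : Matrix.SpecialLinearGroup (Fin 2) F).1 1 0 = _
  rw [Matrix.SpecialLinearGroup.coe_inv, Matrix.adjugate_fin_two]
  rfl

omit L in
/-- A braid pair whose involution is the one of a plane. -/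
theorem split_pair {c : Fin 4 → Fin 4} (hc : Injective c) {A B : SUn 4 F 3} (hA : A ^ 3 = 1) (hB : B ^ 3 = 1)
    (hbr : A * B * A = B * A * B) (hC : (A * B⁻¹) ^ 2 = pairHom hS hc (negOne hS, 1)) :
    ∃ P P' Q : SUn 2 F 3, A = pairHom hS hc (P, Q) ∧ B = pairHom hS hc (P', Q) ∧
      P * P' ≠ P' * P ∧ Q ^ 3 = 1 := by
  have h2 := two_ne_zero3 (F := F)
  obtain ⟨-, cA, cB⟩ := braid_sq hA hB hbr
  rw [hC] at cA cB
  obtain ⟨⟨P, Q⟩, rfl, hP, hQ⟩ := exists_split hS hc h2 cA hA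
  obtain ⟨⟨P', Q'⟩, rfl, hP', hQ'⟩ := exists_split hS hc h2 cB hB
  rw [← map_inv, ← map_mul, ← map_pow] at hC
  have hC' := pairHom_injective hS hc hC
  simp only [Prod.pow_mk, Prod.mk_mul_mk, Prod.inv_mk, Prod.mk.injEq] at hC'
  rw [← map_mul, ← map_mul, ← map_mul, ← map_mul] at hbr
  have hbr' := pairHom_injective hS hc hbr
  simp only [Prod.mk_mul_mk, Prod.mk.injEq] at hbr'
  refine ⟨P, P', Q, rfl, ?_, not_comm_of_sq hS hP hP' hC'.1, hQ⟩
  have hQQ : Q' = Q := by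
    rcases sq_one_cases hS h2 (x := Q * Q'⁻¹) (by rw [← sq]; exact hC'.2) with h | h
    · exact (mul_inv_eq_one.1 h).symm
    · exfalso
      refine negOne_ne_one hS h2 ?_
      have : Q = negOne hS * Q' := mul_inv_eq_iff_eq_mul.1 h
      have h3 := congrArg (· ^ 3) this
      simp only [(show Commute (negOne hS) Q' from negOne_comm hS Q').mul_pow, hQ, hQ', negOne_cube, mul_one] at h3
      exact h3.symm
  rw [hQQ]

omit L in
/-- Diagonal and field automorphisms on a plane. -/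
theorem conjField_e4 {d : Fin 4 → Fˣ} (hd : ∀ i, (d i : F) * σ (d i) = 1) (θ : F ≃+* F)
    (τ : MulAut (SUn 2 F 3)) (i : Fin 3)
    (hτ : ∀ x, mx (τ x) 0 0 = θ (mx x 0 0) ∧
      mx (τ x) 1 0 = (d i.succ : F) * (d i.castSucc : F)⁻¹ * θ (mx x 1 0)) (x : SUn 2 F 3) :
    (AutPSU.conjSu ⟨Classical.diagGL d, Classical.diag_mem hS.pow d hd⟩ * AutPSU.fieldSu θ : MulAut (SUn 4 F 3))
      (e4 hS i x) = e4 hS i (τ x) := by
  set α : MulAut (SUn 4 F 3) :=
    AutPSU.conjSu ⟨Classical.diagGL d, Classical.diag_mem hS.pow d hd⟩ * AutPSU.fieldSu θ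
  have hmx : ∀ y i j, mx (α y) i j = (d i : F) * θ (mx y i j) * (d j : F)⁻¹ := fun y i j => by
    show (AutPSU.gmat (Classical.diagGL d) * (mx y).map θ * AutPSU.gmat (Classical.diagGL d)⁻¹) i j = _
    rw [show (Classical.diagGL d)⁻¹ = Classical.diagGL d⁻¹ from (map_inv _ d).symm, AutPSU.gmat, AutPSU.gmat,
      Classical.diagGL_coe, Classical.diagGL_coe, Matrix.mul_diagonal, Matrix.diagonal_mul]
    simp
  have key : ∀ (y : SUn 4 F 3) (i j : Fin 4), ap y (ev j) i = mx y i j := fun y i j => by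
    simp [ap, ev, mulVec_single_one]
  have hθσ : ∀ a, θ (σ a) = σ (θ a) := fun a => by rw [hS.pow, hS.pow, map_pow]
  have hσd : ∀ m, σ (d m : F) = (d m : F)⁻¹ := fun m => eq_inv_of_mul_eq_one_right (hd m)
  obtain ⟨f1, f2⟩ := hτ x
  obtain ⟨h1, hx⟩ := su_two_form hS x
  obtain ⟨h2, ht⟩ := su_two_form hS (τ x)
  have m01 : mx x 0 1 = -σ (mx x 1 0) := congrFun (congrFun (congrArg mx hx) 0) 1
  have m11 : mx x 1 1 = σ (mx x 0 0) := congrFun (congrFun (congrArg mx hx) 1) 1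
  have t01 : mx (τ x) 0 1 = -σ (mx (τ x) 1 0) := congrFun (congrFun (congrArg mx ht) 0) 1
  have t11 : mx (τ x) 1 1 = σ (mx (τ x) 0 0) := congrFun (congrFun (congrArg mx ht) 1) 1
  have hab : i.castSucc ≠ i.succ := Fin.ne_of_lt i.castSucc_lt_succ
  have ent : ∀ (z : SUn 2 F 3) (l : Fin 4),
      ap (e4 hS i z) (ev l) i.castSucc = mx z 0 0 * (ev l : Vec 4 F) i.castSucc + mx z 0 1 * (ev l : Vec 4 F) i.succ ∧
      ap (e4 hS i z) (ev l) i.succ = mx z 1 0 * (ev l : Vec 4 F) i.castSucc + mx z 1 1 * (ev l : Vec 4 F) i.succ ∧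
      ∀ m, m ≠ i.castSucc → m ≠ i.succ → ap (e4 hS i z) (ev l) m = (ev l : Vec 4 F) m := fun z l => by
    refine ⟨(emb_c hS ![i.castSucc, i.succ] _ z (ev l) 0).trans ?_,
      (emb_c hS ![i.castSucc, i.succ] _ z (ev l) 1).trans ?_,
      fun m h h' => emb_ne hS _ _ z (ev l) (notMem_range_pair.2 ⟨h, h'⟩)⟩
    all_goals simp [ap, mulVec, dotProduct, Fin.sum_univ_two]
  refine ext_ev fun l => funext fun m => ?_
  rw [key, hmx, ← key]
  obtain ⟨x0, x1, x2⟩ := ent x l
  obtain ⟨y0, y1, y2⟩ := ent (τ x) l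
  by_cases hm0 : m = i.castSucc
  · subst hm0
    rw [x0, y0, m01, t01, f1, f2]
    rcases eq_or_ne l i.castSucc with rfl | hl0
    · simp [ev_self, ev_ne hab.symm]
      field_simp
    rcases eq_or_ne l i.succ with rfl | hl1
    · simp [ev_self, ev_ne hab, map_neg, map_mul, hθσ, hσd]
      ring
    · simp [ev_ne hl0.symm, ev_ne hl1.symm]
  by_cases hm1 : m = i.succ
  · subst hm1
    rw [x1, y1, m11, t11, f1, f2]
    rcases eq_or_ne l i.castSucc with rfl | hl0
    · simp [ev_self, ev_ne hab.symm]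
      ring
    rcases eq_or_ne l i.succ with rfl | hl1
    · simp [ev_self, ev_ne hab, hθσ]
      field_simp
    · simp [ev_ne hl0.symm, ev_ne hl1.symm]
  rw [x2 m hm0 hm1, y2 m hm0 hm1]
  rcases eq_or_ne m l with rfl | hml
  · simp [ev_self]
  · simp [ev_ne hml]

/-- The normalised case. -/
theorem lift_normal {a b : SUn 2 F 3} (ha : a ^ 3 = 1) (hbr : a * b * a = b * a * b)
    (hsq : (a * b⁻¹) ^ 2 = negOne hS) (htop : Subgroup.closure {a, b} = ⊤) (A B : Fin 3 → SUn 4 F 3)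
    (hA : ∀ i, A i ^ 3 = 1) (hB : ∀ i, B i ^ 3 = 1) (gA : ∀ i, g (A i) = φ i a) (gB : ∀ i, g (B i) = φ i b)
    (h0 : (A 0 * (B 0)⁻¹) ^ 2 = e4 hS 0 (negOne hS)) (h1 : (A 1 * (B 1)⁻¹) ^ 2 = e4 hS 1 (negOne hS)) :
    ∃ Φ : SUn 4 F 3 →* G, ∀ i, Φ.comp (e4 hS i) = φ i := by
  have h2 := two_ne_zero3 (F := F)
  have hbrA : ∀ i, A i * B i * A i = B i * A i * B i := fun i => L.braid hS hbr (hA i) (hB i) (gA i) (gB i)
  have hc0 : Injective (id : Fin 4 → Fin 4) := injective_id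
  have hc1 : Injective (![1, 2, 3, 0] : Fin 4 → Fin 4) := by decide
  have e0 : ∀ x, pairHom hS hc0 (x, 1) = e4 hS 0 x := fun x => pairHom_fst hS hc0 x
  have e2 : ∀ x, pairHom hS hc0 (1, x) = e4 hS 2 x := fun x => pairHom_snd hS hc0 x
  have e1 : ∀ x, pairHom hS hc1 (x, 1) = e4 hS 1 x := fun x => pairHom_fst hS hc1 x
  obtain ⟨P, P', Q, hA0, hB0, hPP, hQ⟩ := split_pair hS hc0 (hA 0) (hB 0) (hbrA 0) (h0.trans (e0 _).symm)
  have hcomm : ∀ {x y : SUn 4 F 3} {u w : SUn 2 F 3}, x ^ 3 = 1 → g x = φ 2 u → g y = φ 0 w →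
      x * y = y * x := fun hx gx gy => L.lift_comm hS hx (by rw [gx, gy, L.comm])
  have split2 : ∀ {x : SUn 4 F 3} {u : SUn 2 F 3}, x ^ 3 = 1 → g x = φ 2 u →
      ∃ R : SUn 2 F 3, x = e4 hS 2 R ∧ Q * R = R * Q := by
    intro x u hx gx
    have cA : Commute x (A 0) := hcomm hx gx (gA 0)
    have cB : Commute x (B 0) := hcomm hx gx (gB 0)
    have cC : Commute (pairHom hS hc0 (negOne hS, 1)) x := by
      rw [e0, ← h0]; exact ((cA.mul_right cB.inv_right).pow_right 2).symm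
    obtain ⟨⟨X, R⟩, rfl, hX, -⟩ := exists_split hS hc0 h2 cC.eq hx
    have k1 := cA.eq
    have k2 := cB.eq
    rw [hA0, ← map_mul, ← map_mul] at k1
    rw [hB0, ← map_mul, ← map_mul] at k2
    have k1' := pairHom_injective hS hc0 k1
    have k2' := pairHom_injective hS hc0 k2
    simp only [Prod.mk_mul_mk, Prod.mk.injEq] at k1' k2'
    refine ⟨R, ?_, k1'.2.symm⟩
    rw [show X = 1 from eq_one_of_centralise hS hPP hX k1'.1 k2'.1, e2]
  obtain ⟨R, hA2, hQR⟩ := split2 (hA 2) (gA 2)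
  obtain ⟨R', hB2, hQR'⟩ := split2 (hB 2) (gB 2)
  have hRR : R * R' ≠ R' * R := by
    intro hc
    have hAB : Commute (A 2) (B 2) := by
      show A 2 * B 2 = B 2 * A 2
      rw [hA2, hB2, ← map_mul, ← map_mul, hc]
    have h3 : (A 2 * (B 2)⁻¹) ^ 3 = 1 := by
      rw [hAB.inv_right.mul_pow, hA, inv_pow, hB, inv_one, mul_one]
    have h4 : ((A 2 * (B 2)⁻¹) ^ 2) ^ 3 = 1 := by rw [← pow_mul, mul_comm, pow_mul, h3, one_pow]
    have h5 := congrArg g h4
    rw [map_pow, L.map_sq hS hsq (gA 2) (gB 2), ← map_pow, negOne_cube, map_one] at h5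
    exact negOne_ne_one hS h2 (L.inj 2 (h5.trans (map_one _).symm))
  have hQ1 : Q = 1 := eq_one_of_centralise hS hRR hQ hQR hQR'
  rw [hQ1, e0] at hA0 hB0
  -- automorphisms, plane by plane
  have haut : ∀ i (x y : SUn 2 F 3), A i = e4 hS i x → B i = e4 hS i y →
      ∃ τ : MulAut (SUn 2 F 3), ∀ u, g (e4 hS i (τ u)) = φ i u := by
    intro i x y hx hy
    refine exists_aut (ψ := g.comp (e4 hS i)) (L.injective_plane hS i) (L.inj i) fun u => ?_
    obtain ⟨w, hw, hwu⟩ := L.mem_map_closure hS htop (gA i) (gB i) u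
    have hle : Subgroup.closure {A i, B i} ≤ (e4 hS i).range := by
      rw [Subgroup.closure_le]
      rintro z (rfl | rfl)
      · exact ⟨x, hx.symm⟩
      · exact ⟨y, hy.symm⟩
    obtain ⟨v, rfl⟩ := hle hw
    exact ⟨v, hwu⟩
  have hdiag : ∀ (i j : Fin 3) (l : Fin 4), j = 0 ∨ j = 1 → (l ≠ i.castSucc ∧ l ≠ i.succ) →
      ((i : ℕ) + 1 = j ∨ (j : ℕ) + 1 = i) →
      ¬((i.castSucc = j.castSucc ∨ i.castSucc = j.succ) ↔ (i.succ = j.castSucc ∨ i.succ = j.succ)) →
      ∀ τ : MulAut (SUn 2 F 3), (∀ u, g (e4 hS i (τ u)) = φ i u) →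
      ∀ x, mx x 1 0 = 0 → mx (τ x) 1 0 = 0 := by
    intro i j l hj hl hadj hne τ hτ x hx
    have hgj : g (e4 hS j (negOne hS)) = φ j (negOne hS) := by
      rcases hj with rfl | rfl
      · rw [← h0]; exact L.map_sq hS hsq (gA 0) (gB 0)
      · rw [← h1]; exact L.map_sq hS hsq (gA 1) (gB 1)
    refine L.diag_of_comm hS i j l hl hne ?_
    rw [hτ, hgj]
    exact L.diag_comm hS hadj hx
  obtain ⟨τ0, hτ0⟩ := haut 0 P P' hA0 hB0
  obtain ⟨τ2, hτ2⟩ := haut 2 R R' hA2 hB2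
  obtain ⟨W, W', X, hA1, hB1, -, hX⟩ := split_pair hS hc1 (hA 1) (hB 1) (hbrA 1) (h1.trans (e1 _).symm)
  have hd0 := hdiag 0 1 3 (Or.inr rfl) (by decide) (by decide) (by decide) τ0 hτ0
  obtain ⟨η, hη, hση, hη2⟩ := exists_root hS
  have hη0 : η ≠ 0 := fun e => by simp [e] at hη2
  set dη := mk2 hS η 0 hη
  obtain ⟨κ, hκ, hτη⟩ := eq_diag hS (hd0 dη rfl)
  have hκ1 : κ ≠ 1 ∧ κ ≠ -1 := by
    have : κ * κ ≠ 1 := by
      intro hk
      have hσκ : σ κ * κ = 1 := by simpa [nn, mul_comm] using hκ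
      have hσκ' : σ κ = κ := by linear_combination (-(σ κ)) * hk + κ * hσκ
      have hsq1 : τ0 dη * τ0 dη = 1 := by
        rw [hτη]
        refine Subtype.ext (Subtype.ext ?_)
        show mx (mk2 hS κ 0 hκ) * mx (mk2 hS κ 0 hκ) = 1
        rw [mx_mk2, hσκ']
        ext i j; fin_cases i <;> fin_cases j <;> simp [Matrix.mul_apply, Fin.sum_univ_two, hk]
      rw [← map_mul] at hsq1
      have h0' := congrArg (fun y : SUn 2 F 3 => mx y 0 0) (τ0.injective (hsq1.trans (map_one τ0).symm))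
      have h' : η * η = 1 := by
        have h00 : (mx dη * mx dη) 0 0 = (1 : Matrix (Fin 2) (Fin 2) F) 0 0 := h0'
        simpa [dη, mx_mk2, Matrix.mul_apply, Fin.sum_univ_two] using h00
      exact h2 (by linear_combination hη2 - h')
    exact ⟨fun e => this (by rw [e, one_mul]), fun e => this (by rw [e]; ring)⟩
  set T := e4 hS 0 (mk2 hS κ 0 hκ)
  have gT : g T = φ 0 dη := by rw [← hτ0 dη, hτη]
  -- the outer part of the middle plane is trivial
  have hX1 : X = 1 := by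
    refine eq_one_of_diag hS ?_ hX
    obtain ⟨hn, haf⟩ := su_two_form hS a
    obtain ⟨w, hw, gw, hw3⟩ := L.exists_lift hS
      (L.mem_map_closure hS htop (gA 1) (gB 1) (mk2 hS (mx a 0 0) (η * mx a 1 0) (nn_scale hS hη hn))) (by
        have e : φ 1 (mk2 hS (mx a 0 0) (η * mx a 1 0) (nn_scale hS hη hn)) = φ 0 dη * φ 1 a * (φ 0 dη)⁻¹ := by
          rw [eq_mul_inv_iff_mul_eq]
          refine Eq.trans (L.rel 0 1 (Or.inl rfl) η _ _ hη hn (nn_scale hS hη hn)).symm ?_
          rw [← haf]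
        rw [e, conj_pow, ← map_pow, ha, map_one, mul_one, mul_inv_cancel])
    have hTA : T * A 1 = w * T := by
      rw [← mul_inv_eq_iff_eq_mul]
      refine L.lift_eq hS ?_ (by rw [conj_pow, hA, mul_one, mul_inv_cancel]) hw3
      rw [gw, map_mul, map_mul, map_inv, gT, gA, mul_inv_eq_iff_eq_mul]
      refine Eq.trans ?_ (L.rel 0 1 (Or.inl rfl) η _ _ hη hn (nn_scale hS hη hn))
      rw [← haf]
    have hle : Subgroup.closure {A 1, B 1} ≤
        ((⊤ : Subgroup (SUn 2 F 3)).prod (Subgroup.zpowers X)).map (pairHom hS hc1) := by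
      rw [Subgroup.closure_le]
      rintro z (rfl | rfl)
      · exact ⟨(W, X), ⟨trivial, Subgroup.mem_zpowers X⟩, hA1.symm⟩
      · exact ⟨(W', X), ⟨trivial, Subgroup.mem_zpowers X⟩, hB1.symm⟩
    obtain ⟨⟨W2, X2⟩, ⟨-, hX2⟩, rfl⟩ := hle hw
    have hT3 : ap T (ev (3 : Fin 4)) = ev 3 := emb_ev_ne hS _ _ _ (notMem_range_pair.2 ⟨by decide, by decide⟩)
    have key := congrArg (fun z => ap z (ev (3 : Fin 4)) 0) hTA
    simp only [ap_mul, hT3] at key
    have l1 := (pairHom_entry hS hc1 (W2, X2) (ev (3 : Fin 4))).2.2.2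
    have l2 := (pairHom_entry hS hc1 (W, X) (ev (3 : Fin 4))).2.2.2
    have l3 := pairEl_fst hS (show (0 : Fin 4) ≠ 1 by decide) κ 0 hκ (ap (A 1) (ev (3 : Fin 4)))
    simp [ev_self, ev_ne (show (0 : Fin 4) ≠ 3 by decide)] at l1 l2
    rw [hA1] at l3 key
    simp [map_zero] at l3
    have hk : κ * mx X 1 0 = mx X2 1 0 := by
      rw [← l1, ← key]
      refine Eq.trans ?_ l3.symm
      rw [l2]
    have hcases : mx X2 1 0 = 0 ∨ mx X2 1 0 = mx X 1 0 ∨ mx X2 1 0 = -mx X 1 0 := by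
      obtain ⟨k, rfl⟩ := hX2
      have hz : X ^ k = X ^ (k % 3) := zpow_eq_zpow_emod' k hX
      obtain h | h | h : k % 3 = 0 ∨ k % 3 = 1 ∨ k % 3 = 2 := by omega
      · left; simp only [hz, h, zpow_zero]; rfl
      · right; left; simp only [hz, h, zpow_one]
      · right; right
        simp only [hz, h]
        rw [show (X ^ (2 : ℤ)) = X⁻¹ from eq_inv_of_mul_eq_one_left (by rw [← _root_.zpow_add_one]; exact_mod_cast hX),
          mx_inv_two hS]
    by_contra hs
    rcases hcases with h | h | h <;> rw [h] at hk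
    · exact (mul_ne_zero (fun e : κ = 0 => by simp [e, nn] at hκ) hs) hk
    · exact hκ1.1 (mul_right_cancel₀ hs (by rw [one_mul]; exact hk))
    · exact hκ1.2 (mul_right_cancel₀ hs (by rw [neg_one_mul]; exact hk))
  rw [hX1, e1] at hA1 hB1
  obtain ⟨τ1, hτ1⟩ := haut 1 W W' hA1 hB1
  have hd1 := hdiag 1 0 3 (Or.inl rfl) (by decide) (by decide) (by decide) τ1 hτ1
  have hd2 := hdiag 2 1 0 (Or.inr rfl) (by decide) (by decide) (by decide) τ2 hτ2
  obtain ⟨τ, hτ, hτd⟩ : ∃ τ : Fin 3 → MulAut (SUn 2 F 3),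
      (∀ i u, g (e4 hS i (τ i u)) = φ i u) ∧ ∀ i x, mx x 1 0 = 0 → mx (τ i x) 1 0 = 0 :=
    ⟨![τ0, τ1, τ2], fun i => by fin_cases i; exacts [hτ0, hτ1, hτ2],
      fun i => by fin_cases i; exacts [hd0, hd1, hd2]⟩
  choose θ ν hν hform using fun i => exists_form hS (τ i) (hτd i)
  have hθ : ∀ m : Fin 2, θ m.succ = θ m.castSucc := by
    intro m
    refine ringEquiv_eq hS hση hη0 ?_
    have h01 : nn σ (0 : F) + nn σ (1 : F) = 1 := by simp [nn]
    set w := mk2 hS (0 : F) 1 h01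
    set w' := mk2 hS (0 : F) (η * 1) (nn_scale hS hη h01)
    have hrel : φ m.castSucc dη * φ m.succ w = φ m.succ w' * φ m.castSucc dη :=
      L.rel m.castSucc m.succ (Or.inl (by simp)) η 0 1 hη h01 _
    obtain ⟨k, hk, hkη⟩ := eq_diag hS (hτd m.castSucc dη rfl)
    have hkθ : k = θ m.castSucc η := by
      have := (hform m.castSucc dη).1
      rw [hkη] at this
      exact this
    obtain ⟨hu, huw⟩ := su_two_form hS (τ m.succ w)
    have hconj := congrArg g (e4_conj hS m k hk _ _ hu (nn_scale hS hk hu))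
    rw [map_mul, map_mul, ← huw, ← hkη, hτ, hτ, hrel] at hconj
    have := L.injective_plane hS m.succ ((hτ m.succ w').trans (mul_right_cancel hconj))
    have h10 := congrArg (fun y : SUn 2 F 3 => mx y 1 0) this
    have q1 := (hform m.succ w').2
    have q2 := (hform m.succ w).2
    simp [w, w', mx, mk2] at h10 q1 q2
    rw [q1, q2, hkθ] at h10
    have hν0 : ν m.succ ≠ 0 := fun e => by simpa [e, nn] using hν m.succ
    exact mul_left_cancel₀ hν0 (h10.trans (mul_comm _ _))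
  have hθ0 : ∀ i, θ i = θ 0 := fun i => by
    fin_cases i
    · rfl
    · exact hθ 0
    · exact (hθ 1).trans (hθ 0)
  have hν0 : ∀ i, ν i ≠ 0 := fun i e => by simpa [e, nn] using hν i
  let u : Fin 3 → Fˣ := fun i => Units.mk0 (ν i) (hν0 i)
  let d : Fin 4 → Fˣ := ![1, u 0, u 0 * u 1, u 0 * u 1 * u 2]
  have hd : ∀ i, (d i : F) * σ (d i) = 1 := fun i => by
    have := hν 0; have := hν 1; have := hν 2
    unfold nn at *
    fin_cases i <;> simp [d, u, map_mul] <;> first | assumption | skip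
    · linear_combination (ν 1 * σ (ν 1)) * hν 0 + hν 1
    · linear_combination (ν 1 * σ (ν 1) * (ν 2 * σ (ν 2))) * hν 0 + (ν 2 * σ (ν 2)) * hν 1 + hν 2
  have hα : ∀ i x, (AutPSU.conjSu ⟨Classical.diagGL d, Classical.diag_mem hS.pow d hd⟩ *
      AutPSU.fieldSu (θ 0) : MulAut (SUn 4 F 3)) (e4 hS i x) = e4 hS i (τ i x) := fun i x => by
    refine conjField_e4 hS hd (θ 0) (τ i) i (fun y => ?_) x
    obtain ⟨f1, f2⟩ := hform i y
    rw [f1, f2, hθ0 i]
    refine ⟨rfl, ?_⟩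
    have := hν0 0; have := hν0 1; have := hν0 2
    congr 1
    fin_cases i <;> simp [d, u] <;> field_simp
  refine ⟨g.comp (AutPSU.conjSu ⟨Classical.diagGL d, Classical.diag_mem hS.pow d hd⟩ *
      AutPSU.fieldSu (θ 0) : MulAut (SUn 4 F 3)).toMonoidHom, fun i => MonoidHom.ext fun x => ?_⟩
  show g _ = _
  rw [← hτ i x, ← hα i x]
  rfl

omit L in
theorem parity_of_diag {x : SUn 4 F 3} {e : Fin 4 → Bool}
    (h : ∀ l, ap x (ev l) = (if e l then (-1 : F) else 1) • ev l) :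
    ((e 0 ^^ e 1) ^^ (e 2 ^^ e 3)) = false := by
  have hm : mx x = Matrix.diagonal fun l => if e l then (-1 : F) else 1 := by
    refine Matrix.ext_of_mulVec_single fun l => ?_
    rw [show mx x *ᵥ Pi.single l 1 = ap x (ev l) from rfl, h, Matrix.diagonal_mulVec_single, ev]
    ext i; simp [Pi.single_apply]
  have hd : (mx x).det = 1 := x.1.2
  rw [hm, Matrix.det_diagonal, Fin.prod_univ_four] at hd
  have h2 := two_ne_zero3 (F := F)
  cases h0 : e 0 <;> cases h1 : e 1 <;> cases h2' : e 2 <;> cases h3 : e 3 <;>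
    simp [h0, h1, h2', h3] at hd ⊢ <;> exact h2 (by linear_combination -hd)

/-- The standard planes map onto the three copies. -/
theorem Lifting.exists_hom : ∃ Φ : SUn 4 F 3 →* G, ∀ i, Φ.comp (e4 hS i) = φ i := by
  have h2 := two_ne_zero3 (F := F)
  obtain ⟨a, b, ha, hb, hbr, hsq, htop⟩ := exists_braid_pair hS
  have htopmap : ∀ i x, φ i x ∈ (⊤ : Subgroup (SUn 4 F 3)).map g := fun i x => by
    obtain ⟨y, hy⟩ := L.le i x
    exact ⟨y, trivial, hy⟩
  choose A _ gA hA using fun i => L.exists_lift hS (htopmap i a) (by rw [← map_pow, ha, map_one])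
  choose B _ gB hB using fun i => L.exists_lift hS (htopmap i b) (by rw [← map_pow, hb, map_one])
  set C0 := (A 0 * (B 0)⁻¹) ^ 2 with hC0
  set C1 := (A 1 * (B 1)⁻¹) ^ 2 with hC1
  have g0 : g C0 = φ 0 (negOne hS) := L.map_sq hS hsq (gA 0) (gB 0)
  have g1 : g C1 = φ 1 (negOne hS) := L.map_sq hS hsq (gA 1) (gB 1)
  obtain ⟨q0, -, -⟩ := braid_sq (hA 0) (hB 0) (L.braid hS hbr (hA 0) (hB 0) (gA 0) (gB 0))
  obtain ⟨q1, cA, cB⟩ := braid_sq (hA 1) (hB 1) (L.braid hS hbr (hA 1) (hB 1) (gA 1) (gB 1))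
  obtain ⟨η, hη, hση, -⟩ := exists_root hS
  set dη := mk2 hS η 0 hη
  -- the two involutions commute
  have hC01 : C0 * C1 = C1 * C0 := by
    obtain ⟨D, hD, gD⟩ := L.mem_map_closure hS htop (gA 1) (gB 1) dη
    have hDC : Commute D C1 := by
      refine (?_ : Subgroup.closure {A 1, B 1} ≤ Subgroup.centralizer {C1}) hD |> fun h =>
        (Subgroup.mem_centralizer_singleton_iff.1 h)
      rw [Subgroup.closure_le]
      rintro z (rfl | rfl) <;> refine Subgroup.mem_centralizer_singleton_iff.2 ?_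
      · exact cA.symm
      · exact cB.symm
    have key : ∀ x, φ 1 x * ((φ 0 (negOne hS))⁻¹ * φ 1 dη) = (φ 0 (negOne hS))⁻¹ * φ 1 dη * φ 1 x := by
      intro x
      obtain ⟨hn, hx⟩ := su_two_form hS x
      have h' : nn σ (mx x 0 0) + nn σ ((-1) * mx x 1 0) = 1 := by rw [neg_one_mul, nn_neg]; exact hn
      have ha' := L.act hS (i := 0) (j := 1) (Or.inl rfl) _ _ hn h'
      have hr := root_conj hS hη hση _ _ hn h'
      rw [← hx] at ha' hr
      rw [mul_assoc _ (φ 1 dη), ← map_mul, hr, map_mul, ← mul_assoc, ← mul_assoc]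
      congr 1
      rw [eq_inv_mul_iff_mul_eq, ← mul_assoc, ha', mul_inv_cancel_right]
    have cE : ∀ {z : SUn 4 F 3} {u : SUn 2 F 3}, z ^ 3 = 1 → g z = φ 1 u → Commute (C0⁻¹ * D) z := fun hz gz =>
      (L.lift_comm hS hz (by rw [map_mul, map_inv, g0, gD, gz]; exact key _)).symm
    have hE : Commute (C0⁻¹ * D) C1 :=
      ((cE (hA 1) (gA 1)).mul_right (cE (hB 1) (gB 1)).inv_right).pow_right 2
    have : Commute C0⁻¹ C1 := by
      have := hE.mul_left hDC.inv_left
      rwa [mul_inv_cancel_right] at this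
    exact (Commute.inv_left_iff.1 this).eq
  obtain ⟨h, ε, δ, hh⟩ := exists_diag hS h2 (by rw [← sq]; exact q0) (by rw [← sq]; exact q1) hC01
  set sg : Bool → F := fun e => if e then -1 else 1
  have conj : ∀ {x : SUn 4 F 3} {e : Fin 4 → Bool}, (∀ l, ap x (ap h (ev l)) = sg (e l) • ap h (ev l)) →
      ∀ l, ap (h⁻¹ * x * h) (ev l) = sg (e l) • ev l := fun hx l => by
    rw [ap_mul, ap_mul, hx, ap_smul, ap_inv_ap]
  have d0 := conj (fun l => (hh l).1)
  have d1 := conj (fun l => (hh l).2)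
  have d01 : ∀ l, ap (h⁻¹ * (C0 * C1) * h) (ev l) = sg (ε l ^^ δ l) • ev l := fun l => by
    rw [show h⁻¹ * (C0 * C1) * h = (h⁻¹ * C0 * h) * (h⁻¹ * C1 * h) by group, ap_mul, d1, ap_smul, d0, smul_smul]
    congr 1
    cases ε l <;> cases δ l <;> simp [sg]
  -- the three involutions are not central
  have hw : nn σ (0 : F) + nn σ (1 : F) = 1 := by simp [nn]
  set w := mk2 hS (0 : F) 1 hw
  have hno : ∀ i j : Fin 3, (i : ℕ) + 1 = j ∨ (j : ℕ) + 1 = i →
      φ i (negOne hS) * φ j w ≠ φ j w * φ i (negOne hS) := by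
    intro i j hij he
    have h' : nn σ (0 : F) + nn σ ((-1) * (1 : F)) = 1 := by simp [nn]
    have hw' := L.inj j (mul_right_cancel ((L.act hS hij 0 1 hw h').symm.trans he))
    have := congrArg (fun y : SUn 2 F 3 => mx y 1 0) hw'
    simp [w, mx, mk2] at this
    exact h2 (by linear_combination -this)
  have hcen : ∀ {x : SUn 4 F 3} {e : Fin 4 → Bool}, (∀ l, ap (h⁻¹ * x * h) (ev l) = sg (e l) • ev l) →
      (∀ l, e l = e 0) → ∀ (j : Fin 3) (u : SUn 2 F 3), g x * φ j u = φ j u * g x := by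
    intro x e hx he j u
    have hz := central_of_scalar hS (fun l => (hx l).trans (by rw [he l]))
    have hz' : x ∈ Subgroup.center (SUn 4 F 3) := by
      have := Subgroup.Normal.conj_mem (inferInstance : (Subgroup.center (SUn 4 F 3)).Normal) _ hz h
      rwa [show h * (h⁻¹ * x * h) * h⁻¹ = x by group] at this
    obtain ⟨y, hy⟩ := L.le j u
    rw [← hy, ← map_mul, ← map_mul, Subgroup.mem_center_iff.1 hz' y]
  have all4 : ∀ {e : Fin 4 → Bool}, e 0 = e 1 ∧ e 0 = e 2 ∧ e 0 = e 3 → ∀ l, e l = e 0 := by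
    rintro e ⟨e1, e2, e3⟩ l
    fin_cases l
    exacts [rfl, e1.symm, e2.symm, e3.symm]
  have n0 : ¬(ε 0 = ε 1 ∧ ε 0 = ε 2 ∧ ε 0 = ε 3) := fun he =>
    hno 0 1 (Or.inl rfl) (g0 ▸ hcen d0 (all4 he) 1 w)
  have n1 : ¬(δ 0 = δ 1 ∧ δ 0 = δ 2 ∧ δ 0 = δ 3) := fun he =>
    hno 1 0 (Or.inr rfl) (g1 ▸ hcen d1 (all4 he) 0 w)
  have n2 := fun he => by
    have hc := hcen (e := fun l => ε l ^^ δ l) d01 (all4 he) 0 w
    rw [map_mul, g0, g1] at hc
    refine hno 1 0 (Or.inr rfl) (mul_left_cancel (a := φ 0 (negOne hS)) ?_)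
    rw [← mul_assoc, hc, ← mul_assoc, ← mul_assoc, ← map_mul, ← map_mul, negOne_comm]
  have hinj := four_signs ε δ (parity_of_diag hS d0) (parity_of_diag hS d1) n0 n1 n2
  have hbij : Bijective fun l => (ε l, δ l) :=
    (Fintype.bijective_iff_injective_and_card _).2
      ⟨fun i j e => hinj i j (congrArg Prod.fst e) (congrArg Prod.snd e), rfl⟩
  let t : Fin 4 → Bool × Bool := ![(true, false), (true, true), (false, true), (false, false)]
  choose π hπ using fun l => hbij.2 (t l)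
  have hπi : Injective π := fun i j e => by
    have : t i = t j := by rw [← hπ i, ← hπ j, e]
    exact (by decide : Injective t) this
  set H : SUn 4 F 3 →* SUn 4 F 3 :=
    (MulAut.conj h : SUn 4 F 3 ≃* SUn 4 F 3).toMonoidHom.comp (emb hS π hπi)
  have hHb : Bijective H :=
    Finite.injective_iff_bijective.1 fun x y e => emb_injective hS π hπi
      ((MulEquiv.injective (MulAut.conj h)) e)
  let E := MulEquiv.ofBijective H hHb
  have hstd : ∀ (j : Fin 3) (x : SUn 4 F 3) (e : Fin 4 → Bool),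
      (∀ l, ap (h⁻¹ * x * h) (ev l) = sg (e l) • ev l) → (∀ l, (sgn j l : F) = sg (e (π l))) →
      H (e4 hS j (negOne hS)) = x := by
    intro j x e hx he
    have : emb hS π hπi (e4 hS j (negOne hS)) = h⁻¹ * x * h := ext_ev fun m => by
      obtain ⟨l, rfl⟩ := Finite.injective_iff_surjective.1 hπi m
      rw [hx, ← he]
      exact emb_diag_ev hS hπi _ (e4_negOne_ev hS j l)
    show h * emb hS π hπi (e4 hS j (negOne hS)) * h⁻¹ = x
    rw [this]; group
  have s0 : H (e4 hS 0 (negOne hS)) = C0 := hstd 0 C0 ε d0 fun l => by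
    have := congrArg Prod.fst (hπ l)
    simp only at this
    rw [this]
    fin_cases l <;> simp [t, sg, sgn]
  have s1 : H (e4 hS 1 (negOne hS)) = C1 := hstd 1 C1 δ d1 fun l => by
    have := congrArg Prod.snd (hπ l)
    simp only at this
    rw [this]
    fin_cases l <;> simp [t, sg, sgn]
  have hg : ∀ y, g (H (E.symm y)) = g y := fun y => congrArg g (E.apply_symm_apply y)
  have L' : Lifting hS (g.comp H) φ :=
    ⟨L.inj, fun i x => by obtain ⟨y, hy⟩ := L.le i x; exact ⟨E.symm y, (hg y).trans hy⟩, L.rel, L.comm⟩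
  exact lift_normal hS L' ha hbr hsq htop (fun i => E.symm (A i)) (fun i => E.symm (B i))
    (fun i => by rw [← map_pow, hA, map_one]) (fun i => by rw [← map_pow, hB, map_one])
    (fun i => (hg _).trans (gA i)) (fun i => (hg _).trans (gB i))
    (by rw [← map_inv, ← map_mul, ← map_pow]; exact E.injective ((E.apply_symm_apply _).trans s0.symm))
    (by rw [← map_inv, ← map_mul, ← map_pow]; exact E.injective ((E.apply_symm_apply _).trans s1.symm))

end Cfsg.Agent.Phan
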