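import Cfsg.Agent.Phan.Split

/-!
The field of nine elements, a braid pair generating SU₂, and small facts on SU₄.
-/

set_option autoImplicit false
set_option linter.unusedSectionVars false
set_option linter.unusedSimpArgs false

open Matrix Function
open Cfsg.Agent.Classical.Herm (IsInvol fixField)

namespace Cfsg.Agent.Phan

/-- The field of nine elements qualifies. -/
instance : Fact (2 < 3) := ⟨by norm_num⟩

universe u v

variable {F : Type u} [Field F] [Fintype F] {σ : F →+* F} [CharP F 3]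

theorem two_ne_zero3 : (2 : F) ≠ 0 := by
  intro h
  have h3 : ((3 : ℕ) : F) = 0 := CharP.cast_eq_zero F 3
  norm_num at h3
  exact one_ne_zero (by linear_combination h3 - h : (1 : F) = 0)

theorem three_eq_zero3 : (3 : F) = 0 := by
  have h3 : ((3 : ℕ) : F) = 0 := CharP.cast_eq_zero F 3
  exact_mod_cast h3

theorem cube_eq_one3 {r : F} (h : r ^ 3 = 1) : r = 1 := by
  have h' : (r - 1) ^ 3 = 0 := by linear_combination h + (r - r ^ 2) * (three_eq_zero3 (F := F))
  exact sub_eq_zero.1 (eq_zero_of_pow_eq_zero h')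

set_option synthInstance.maxSize 4000 in
set_option synthInstance.maxHeartbeats 200000 in
/-- Four distinct sign pairs. -/
theorem four_signs : ∀ ε δ : Fin 4 → Bool,
    ((ε 0 ^^ ε 1) ^^ (ε 2 ^^ ε 3)) = false → ((δ 0 ^^ δ 1) ^^ (δ 2 ^^ δ 3)) = false →
    ¬(ε 0 = ε 1 ∧ ε 0 = ε 2 ∧ ε 0 = ε 3) → ¬(δ 0 = δ 1 ∧ δ 0 = δ 2 ∧ δ 0 = δ 3) →
    ¬((ε 0 ^^ δ 0) = (ε 1 ^^ δ 1) ∧ (ε 0 ^^ δ 0) = (ε 2 ^^ δ 2) ∧ (ε 0 ^^ δ 0) = (ε 3 ^^ δ 3)) →
    ∀ i j : Fin 4, ε i = ε j → δ i = δ j → i = j := by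
  have : ∀ a b c d a' b' c' d' : Bool, ((a ^^ b) ^^ (c ^^ d)) = false → ((a' ^^ b') ^^ (c' ^^ d')) = false →
      ¬(a = b ∧ a = c ∧ a = d) → ¬(a' = b' ∧ a' = c' ∧ a' = d') →
      ¬((a ^^ a') = (b ^^ b') ∧ (a ^^ a') = (c ^^ c') ∧ (a ^^ a') = (d ^^ d')) →
      ¬(a = b ∧ a' = b') ∧ ¬(a = c ∧ a' = c') ∧ ¬(a = d ∧ a' = d') ∧ ¬(b = c ∧ b' = c') ∧
        ¬(b = d ∧ b' = d') ∧ ¬(c = d ∧ c' = d') := by
    decide
  intro ε δ h1 h2 h3 h4 h5 i j hi hj
  obtain ⟨n1, n2, n3, n4, n5, n6⟩ := this _ _ _ _ _ _ _ _ h1 h2 h3 h4 h5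
  fin_cases i <;> fin_cases j <;> simp only [Fin.isValue, Fin.reduceFinMk, Fin.zero_eta, Fin.mk_one] at hi hj ⊢ <;>
    first
      | exact (n1 ⟨hi, hj⟩).elim | exact (n1 ⟨hi.symm, hj.symm⟩).elim
      | exact (n2 ⟨hi, hj⟩).elim | exact (n2 ⟨hi.symm, hj.symm⟩).elim
      | exact (n3 ⟨hi, hj⟩).elim | exact (n3 ⟨hi.symm, hj.symm⟩).elim
      | exact (n4 ⟨hi, hj⟩).elim | exact (n4 ⟨hi.symm, hj.symm⟩).elim
      | exact (n5 ⟨hi, hj⟩).elim | exact (n5 ⟨hi.symm, hj.symm⟩).elim
      | exact (n6 ⟨hi, hj⟩).elim | exact (n6 ⟨hi.symm, hj.symm⟩).elim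

variable (hS : Fld σ 3)
include hS

theorem sigma_cube (x : F) : σ x = x ^ 3 := hS.pow x

theorem fix_cases {u : F} (h : σ u = u) : u = 0 ∨ u = 1 ∨ u = -1 := by
  rw [sigma_cube hS] at h
  have : u * ((u - 1) * (u + 1)) = 0 := by linear_combination h
  rcases mul_eq_zero.1 this with h | h
  · exact Or.inl h
  · rcases mul_eq_zero.1 h with h | h
    · exact Or.inr (Or.inl (sub_eq_zero.1 h))
    · exact Or.inr (Or.inr (eq_neg_of_add_eq_zero_left h))

/-- A square root of minus one. -/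
theorem exists_root : ∃ η : F, nn σ η + nn σ (0 : F) = 1 ∧ σ η = -η ∧ η * η = -1 := by
  obtain ⟨η, hη, hη'⟩ := hS.exists_moved
  have h4 : η * η ^ 3 = 1 := by rw [← sigma_cube hS]; exact hη
  have h2 : η * η = -1 := by
    rcases mul_self_eq_one_iff.1 (show (η * η) * (η * η) = 1 by linear_combination h4) with h | h
    · rcases mul_self_eq_one_iff.1 h with rfl | rfl <;> exact absurd (by simp) hη'
    · exact h
  exact ⟨η, by rw [nn_zero, add_zero, hη], by rw [sigma_cube hS]; linear_combination η * h2, h2⟩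

theorem ringEquiv_eq {η : F} (hη : σ η = -η) (hη0 : η ≠ 0) {θ θ' : F ≃+* F} (h : θ η = θ' η) : θ = θ' := by
  have h2 := two_ne_zero3 (F := F)
  have hfix : ∀ u, σ u = u → θ u = θ' u := fun u hu => by
    rcases fix_cases hS hu with rfl | rfl | rfl <;> simp
  refine RingEquiv.ext fun x => ?_
  set v := (x - σ x) / (2 * η) with hv
  have hσv : σ v = v := by
    rw [hv, map_div₀, map_sub, hS.sigma_sigma, map_mul, map_ofNat, hη]
    field_simp
    ring
  have hu : σ (x - v * η) = x - v * η := by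
    rw [map_sub, map_mul, hσv, hη, hv]
    field_simp
    ring
  have e : x = (x - v * η) + v * η := by ring
  rw [e, map_add, map_add, map_mul, map_mul, hfix _ hu, hfix _ hσv, h]

theorem negOne_cube : negOne hS ^ 3 = negOne hS := by
  rw [pow_three', negOne_sq, one_mul]

theorem negOne_mk (h : nn σ (-1 : F) + nn σ (0 : F) = 1) : mk2 hS (-1) 0 h = negOne hS := rfl

/-- Generators in a braid relation. -/
theorem exists_braid_pair : ∃ a b : SUn 2 F 3, a ^ 3 = 1 ∧ b ^ 3 = 1 ∧ a * b * a = b * a * b ∧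
    (a * b⁻¹) ^ 2 = negOne hS ∧ Subgroup.closure {a, b} = ⊤ := by
  obtain ⟨P, e, he⟩ := exists_su_two_model hS
  have h3 : (3 : fixField σ) = 0 := (fixField σ).subtype.injective (by
    rw [map_ofNat, map_zero]; exact three_eq_zero3)
  set u : AutPSL.SLn 2 (fixField σ) :=
    Matrix.SpecialLinearGroup.transvection (show (0 : Fin 2) ≠ 1 by decide) 1 with hu
  set l : AutPSL.SLn 2 (fixField σ) :=
    Matrix.SpecialLinearGroup.transvection (show (1 : Fin 2) ≠ 0 by decide) (-1) with hl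
  have mu : u.1 = !![1, 1; 0, 1] := by
    ext i j; fin_cases i <;> fin_cases j <;> simp [hu, Matrix.SpecialLinearGroup.transvection_coe, Matrix.single]
  have ml : l.1 = !![1, 0; -1, 1] := by
    ext i j; fin_cases i <;> fin_cases j <;> simp [hl, Matrix.SpecialLinearGroup.transvection_coe, Matrix.single]
  have u3 : u ^ 3 = 1 := Subtype.ext (by
    rw [pow_three']
    show u.1 * u.1 * u.1 = 1
    rw [mu]; ext i j; fin_cases i <;> fin_cases j <;> norm_num [Matrix.mul_apply, Fin.sum_univ_two]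
    all_goals exact h3)
  have l3 : l ^ 3 = 1 := Subtype.ext (by
    rw [pow_three']
    show l.1 * l.1 * l.1 = 1
    rw [ml]; ext i j; fin_cases i <;> fin_cases j <;> norm_num [Matrix.mul_apply, Fin.sum_univ_two]
    all_goals exact h3)
  have hbr : u * l * u = l * u * l := Subtype.ext (by
    show u.1 * l.1 * u.1 = l.1 * u.1 * l.1
    rw [mu, ml]; ext i j; fin_cases i <;> fin_cases j <;> simp [Matrix.mul_apply, Fin.sum_univ_two])
  have hsq : ((u * l⁻¹) ^ 2).1 = (-1 : Matrix (Fin 2) (Fin 2) (fixField σ)) := by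
    have li : l⁻¹ = l * l := inv_eq_of_mul_eq_one_right (by rw [← mul_assoc, ← pow_three', l3])
    rw [li, sq]
    show u.1 * (l.1 * l.1) * (u.1 * (l.1 * l.1)) = -1
    rw [mu, ml]
    ext i j; fin_cases i <;> fin_cases j <;>
      simp [Matrix.mul_apply, Fin.sum_univ_two]
  have htop : Subgroup.closure {u, l} = ⊤ := by
    refine Classical.sl_eq_top_of_transvection _ fun i j hij c => ?_
    have hc : c = 0 ∨ c = 1 ∨ c = -1 := by
      rcases fix_cases hS (u := (c : F)) c.2 with h | h | h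
      · exact Or.inl (Subtype.ext h)
      · exact Or.inr (Or.inl (Subtype.ext h))
      · exact Or.inr (Or.inr (Subtype.ext h))
    have hmu : u ∈ Subgroup.closure {u, l} := Subgroup.subset_closure (Set.mem_insert _ _)
    have hml : l ∈ Subgroup.closure {u, l} := Subgroup.subset_closure (Set.mem_insert_of_mem _ rfl)
    rcases hc with rfl | rfl | rfl
    · rw [Matrix.SpecialLinearGroup.transvection_coeff_zero]; exact one_mem _
    · obtain ⟨rfl, rfl⟩ | ⟨rfl, rfl⟩ : i = 0 ∧ j = 1 ∨ i = 1 ∧ j = 0 := by omega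
      · exact hmu
      · have := inv_mem hml
        rwa [hl, Matrix.SpecialLinearGroup.transvection_inv, neg_neg] at this
    · obtain ⟨rfl, rfl⟩ | ⟨rfl, rfl⟩ : i = 0 ∧ j = 1 ∨ i = 1 ∧ j = 0 := by omega
      · have := inv_mem hmu
        rwa [hu, Matrix.SpecialLinearGroup.transvection_inv] at this
      · exact hml
  refine ⟨e u, e l, by rw [← map_pow, u3, map_one], by rw [← map_pow, l3, map_one],
    by rw [← map_mul, ← map_mul, ← map_mul, ← map_mul, hbr], ?_, ?_⟩
  · rw [← map_inv, ← map_mul, ← map_pow]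
    refine Subtype.ext (Subtype.ext ?_)
    show mx (e ((u * l⁻¹) ^ 2)) = mx (negOne hS)
    have h := he ((u * l⁻¹) ^ 2)
    rw [hsq] at h
    have hm : ((-1 : Matrix (Fin 2) (Fin 2) (fixField σ)).map (fixField σ).subtype) = -1 := by
      ext i j; fin_cases i <;> fin_cases j <;> simp
    rw [hm, Matrix.mul_neg, Matrix.mul_one, ← neg_one_mul] at h
    rw [mx_negOne]
    exact (Units.mul_left_inj P).1 h
  · have : ({e u, e l} : Set (SUn 2 F 3)) = e.toMonoidHom '' {u, l} := by simp [Set.image_pair]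
    rw [this, ← MonoidHom.map_closure, htop, ← MonoidHom.range_eq_map]
    exact MonoidHom.range_eq_top.2 e.surjective

theorem eq_one_of_diag {x : SUn 2 F 3} (h : mx x 1 0 = 0) (h3 : x ^ 3 = 1) : x = 1 := by
  obtain ⟨h1, hx⟩ := su_two_form hS x
  set r := mx x 0 0
  have hm : mx x = !![r, 0; 0, σ r] := by
    rw [show mx x = !![r, -σ (mx x 1 0); mx x 1 0, σ r] from congrArg mx hx, h]; simp
  have hc : mx x * (mx x * mx x) = 1 := congrArg mx ((pow_three x).symm.trans h3)
  rw [hm] at hc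
  have k := congrFun (congrFun hc 0) 0
  simp [Matrix.mul_apply, Fin.sum_univ_two] at k
  have hr : r = 1 := cube_eq_one3 (by rw [pow_three]; exact k)
  refine Subtype.ext (Subtype.ext ?_)
  show mx x = 1
  rw [hm, hr, map_one, Matrix.one_fin_two]

omit hS in
theorem comm_of_comm2 {K : Type u} [Field K] {x y z : Matrix (Fin 2) (Fin 2) K}
    (hx : ¬ (x 1 0 = 0 ∧ x 0 1 = 0)) (hy : x * y = y * x) (hz : x * z = z * x) : y * z = z * y := by
  have y00 := congrFun (congrFun hy 0) 0
  have y10 := congrFun (congrFun hy 1) 0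
  have y01 := congrFun (congrFun hy 0) 1
  have z00 := congrFun (congrFun hz 0) 0
  have z10 := congrFun (congrFun hz 1) 0
  have z01 := congrFun (congrFun hz 0) 1
  simp [Matrix.mul_apply, Fin.sum_univ_two] at y00 y10 y01 z00 z10 z01
  have key : y 0 1 * z 1 0 = z 0 1 * y 1 0 ∧ y 0 1 * (z 1 1 - z 0 0) = z 0 1 * (y 1 1 - y 0 0) ∧
      y 1 0 * (z 1 1 - z 0 0) = z 1 0 * (y 1 1 - y 0 0) := by
    by_cases hc : x 1 0 = 0
    · have hb : x 0 1 ≠ 0 := fun e => hx ⟨hc, e⟩
      have k1 : y 0 1 * z 1 0 = z 0 1 * y 1 0 :=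
        mul_left_cancel₀ hb (by linear_combination (y 0 1) * z00 - z 0 1 * y00)
      exact ⟨k1, mul_left_cancel₀ hb (by linear_combination (y 0 1) * z01 - z 0 1 * y01),
        mul_left_cancel₀ hb (by linear_combination (y 1 0) * z01 - z 1 0 * y01 - (x 1 1 - x 0 0) * k1)⟩
    · have k1 : y 0 1 * z 1 0 = z 0 1 * y 1 0 :=
        mul_left_cancel₀ hc (by linear_combination -(z 1 0) * y00 + y 1 0 * z00)
      exact ⟨k1, mul_left_cancel₀ hc (by linear_combination -(y 0 1) * z10 + z 0 1 * y10 + (x 1 1 - x 0 0) * k1),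
        mul_left_cancel₀ hc (by linear_combination -(y 1 0) * z10 + z 1 0 * y10)⟩
  obtain ⟨k1, k2, k3⟩ := key
  ext i j
  fin_cases i <;> fin_cases j <;> simp [Matrix.mul_apply, Fin.sum_univ_two]
  · linear_combination k1
  · linear_combination k2
  · linear_combination -k3
  · linear_combination -k1

/-- A pair with `(ab⁻¹)² = -1` does not commute. -/
theorem not_comm_of_sq {a b : SUn 2 F 3} (ha : a ^ 3 = 1) (hb : b ^ 3 = 1) (h : (a * b⁻¹) ^ 2 = negOne hS) :
    a * b ≠ b * a := fun hc => negOne_ne_one hS two_ne_zero3 (by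
  have hab : Commute a b := hc
  rw [← negOne_cube hS, ← h, ← pow_mul, show 2 * 3 = 3 * 2 from rfl, pow_mul, hab.inv_right.mul_pow, ha,
    inv_pow, hb, inv_one, mul_one, one_pow])

/-- An element of order three centralising a non-commuting pair is trivial. -/
theorem eq_one_of_centralise {a b x : SUn 2 F 3} (hab : a * b ≠ b * a) (hx : x ^ 3 = 1) (ha : x * a = a * x)
    (hb : x * b = b * x) : x = 1 := by
  refine eq_one_of_diag hS ?_ hx
  by_contra h
  exact hab (Subtype.ext (Subtype.ext (comm_of_comm2 (x := mx x) (fun e => h e.1) (congrArg mx ha) (congrArg mx hb))))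

theorem center4 {z : SUn 4 F 3} (hz : z ∈ Subgroup.center (SUn 4 F 3)) :
    ∃ lam : F, (∀ v, ap z v = lam • v) ∧ z ^ 4 = 1 := by
  obtain ⟨lam, hl⟩ := Classical.center_SU_scalar hS.invol hS.pow hS.card_fix (by norm_num) hz
  have hsc : ∀ v, ap z v = lam • v := fun v => by
    show mx z *ᵥ v = _
    rw [show mx z = Matrix.scalar (Fin 4) lam from hl]
    ext i; simp [Matrix.scalar_apply, Matrix.mulVec_diagonal]
  have hd : lam ^ 4 = 1 := by
    have h1 : (mx z).det = 1 := z.1.2
    rwa [show mx z = Matrix.scalar (Fin 4) lam from hl, Matrix.scalar_apply, Matrix.det_diagonal,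
      Finset.prod_const, Finset.card_univ, Fintype.card_fin] at h1
  have hp : ∀ (k : ℕ) v, ap (z ^ k) v = lam ^ k • v := fun k => by
    induction k with
    | zero => intro v; simp
    | succ k ih => intro v; rw [pow_succ, ap_mul, hsc, ap_smul, ih, smul_smul, pow_succ']
  exact ⟨lam, hsc, ext_ev fun l => by rw [hp, hd, one_smul, ap_one]⟩

theorem central_of_scalar {N : ℕ} {z : SUn N F 3} {c : F} (h : ∀ l, ap z (ev l) = c • ev l) :
    z ∈ Subgroup.center (SUn N F 3) := by
  have hv : ∀ v, ap z v = c • v := fun v => by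
    have hx : v = ∑ i, v i • (ev i : Vec N F) := pi_eq_sum_univ' v
    conv_lhs => rw [hx, ap_sum]
    conv_rhs => rw [hx, Finset.smul_sum]
    exact Finset.sum_congr rfl fun i _ => by rw [ap_smul, h, smul_comm]
  exact Subgroup.mem_center_iff.2 fun y => ext_ev fun l => by rw [ap_mul, ap_mul, hv, hv, ap_smul]

omit hS [CharP F 3] in
/-- A hom into the image of an injective one factors through an automorphism. -/
theorem exists_aut {H : Type u} [Group H] [Finite H] {G : Type v} [Group G] {ψ φ : H →* G} (hψ : Injective ψ)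
    (hφ : Injective φ) (hle : ∀ x, φ x ∈ ψ.range) : ∃ τ : MulAut H, ∀ x, ψ (τ x) = φ x := by
  choose f hf using hle
  let fh : H →* H := MonoidHom.mk' f fun x y => hψ (by rw [map_mul, hf, hf, hf, map_mul])
  have hi : Injective fh := fun x y h => hφ (by rw [← hf, ← hf]; exact congrArg ψ h)
  exact ⟨MulEquiv.ofBijective fh (Finite.injective_iff_bijective.1 hi), hf⟩

/-- The signs of the involution of a plane. -/
def sgn (b : Fin 3) (l : Fin 4) : F := if l = b.castSucc ∨ l = b.succ then -1 else 1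

theorem e4_negOne_ev (b : Fin 3) (l : Fin 4) :
    ap (e4 hS b (negOne hS)) (ev l) = (sgn b l : F) • ev l := by
  by_cases h : l = b.castSucc ∨ l = b.succ
  · rw [sgn, if_pos h]
    have hab : b.castSucc ≠ b.succ := Fin.ne_of_lt b.castSucc_lt_succ
    funext i
    by_cases hi : i = b.castSucc ∨ i = b.succ
    · rcases hi with rfl | rfl
      · refine (emb_c hS ![b.castSucc, b.succ] _ (negOne hS) (ev l) 0).trans ?_
        simp [ap, mx_negOne, mulVec, dotProduct]
      · refine (emb_c hS ![b.castSucc, b.succ] _ (negOne hS) (ev l) 1).trans ?_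
        simp [ap, mx_negOne, mulVec, dotProduct]
    · push Not at hi
      refine (emb_ne hS ![b.castSucc, b.succ] _ (negOne hS) (ev l) (notMem_range_pair.2 hi)).trans ?_
      have hil : i ≠ l := by rcases h with rfl | rfl; exacts [hi.1, hi.2]
      simp [ev_ne hil]
  · rw [sgn, if_neg h, one_smul]
    push Not at h
    exact emb_ev_ne hS _ _ _ (notMem_range_pair.2 h)

theorem e4_ev_fst (a : Fin 3) (y : SUn 2 F 3) :
    ap (e4 hS a y) (ev a.castSucc) = mx y 0 0 • ev a.castSucc + mx y 1 0 • ev a.succ := by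
  have hab : a.castSucc ≠ a.succ := Fin.ne_of_lt a.castSucc_lt_succ
  funext i
  by_cases h0 : i = a.castSucc
  · subst h0
    refine (emb_c hS ![a.castSucc, a.succ] _ y (ev a.castSucc) 0).trans ?_
    simp [ap, mulVec, dotProduct, Fin.sum_univ_two, ev_self, ev_ne hab, ev_ne hab.symm]
  by_cases h1 : i = a.succ
  · subst h1
    refine (emb_c hS ![a.castSucc, a.succ] _ y (ev a.castSucc) 1).trans ?_
    simp [ap, mulVec, dotProduct, Fin.sum_univ_two, ev_self, ev_ne hab, ev_ne hab.symm]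
  refine (emb_ne hS ![a.castSucc, a.succ] _ y (ev a.castSucc) (notMem_range_pair.2 ⟨h0, h1⟩)).trans ?_
  simp [ev_ne h0, ev_ne h1]

/-- Conjugation by the torus of one plane on the next. -/
theorem e4_conj (a : Fin 2) (η : F) (hη : nn σ η + nn σ (0 : F) = 1) (r s : F) (h : nn σ r + nn σ s = 1)
    (h' : nn σ r + nn σ (η * s) = 1) :
    e4 hS a.castSucc (mk2 hS η 0 hη) * e4 hS a.succ (mk2 hS r s h) =
      e4 hS a.succ (mk2 hS r (η * s) h') * e4 hS a.castSucc (mk2 hS η 0 hη) := by
  have hc : Injective (fun j : Fin 3 => (⟨(a : ℕ) + j, by omega⟩ : Fin 4)) := fun i j h =>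
    Fin.ext (by simpa using congrArg Fin.val h)
  have h0 : ∀ x, emb hS _ hc (e01 hS x) = e4 hS a.castSucc x := fun x => by
    simp only [e01, e4, emb_comp]
    congr 2
    funext j; fin_cases j <;> simp [Fin.ext_iff]
  have h1 : ∀ x, emb hS _ hc (e12 hS x) = e4 hS a.succ x := fun x => by
    simp only [e12, e4, emb_comp]
    congr 2
    funext j; fin_cases j <;> simp [Fin.ext_iff, add_assoc]
  rw [← h0, ← h1, ← h1, ← map_mul, ← map_mul, e01_conj hS η hη r s h h']

/-- Conjugation by the torus of the second plane on the first. -/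
theorem e12_conj (η : F) (hη : nn σ η + nn σ (0 : F) = 1) (r s : F) (h : nn σ r + nn σ s = 1)
    (h' : nn σ r + nn σ (η * s) = 1) :
    e12 hS (mk2 hS η 0 hη) * e01 hS (mk2 hS r s h) = e01 hS (mk2 hS r (η * s) h') * e12 hS (mk2 hS η 0 hη) := by
  have hη1 : η * σ η = 1 := by simpa [nn] using hη
  refine ext_ev fun l => funext fun i => ?_
  simp only [ap_mul, e01_ap, e12_ap, mx_mk2]
  fin_cases i <;> fin_cases l <;> simp [ev, map_mul]
  all_goals first | ring1 | linear_combination -(σ s) * hη1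

/-- In SU₂ the torus element of order four inverts the off-diagonal entry. -/
theorem root_conj {η : F} (hη : nn σ η + nn σ (0 : F) = 1) (hση : σ η = -η) (r s : F)
    (h : nn σ r + nn σ s = 1) (h' : nn σ r + nn σ ((-1) * s) = 1) :
    mk2 hS η 0 hη * mk2 hS r s h = mk2 hS r ((-1) * s) h' * mk2 hS η 0 hη := by
  refine Subtype.ext (Subtype.ext ?_)
  show mx (mk2 hS η 0 hη) * mx (mk2 hS r s h) = mx (mk2 hS r ((-1) * s) h') * mx (mk2 hS η 0 hη)
  simp only [mx_mk2, hση]
  ext i j
  fin_cases i <;> fin_cases j <;> simp [Matrix.mul_apply, Fin.sum_univ_two] <;> ring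

/-- Diagonal elements transported along a coordinate map. -/
theorem emb_diag_ev {N : ℕ} {π : Fin N → Fin N} (hπ : Injective π) (s : SUn N F 3) {a : Fin N} {c : F}
    (h : ap s (ev a) = c • ev a) : ap (emb hS π hπ s) (ev (π a)) = c • ev (π a) := by
  funext i
  obtain ⟨b, rfl⟩ := Finite.injective_iff_surjective.1 hπ i
  rw [emb_c, ev_comp π hπ, h]
  simp [ev, Pi.single_apply, hπ.eq_iff]

end Cfsg.Agent.Phan
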