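import Cfsg.Agent.Phan.Amalgam
import Cfsg.Agent.AutPSL.Two
import Cfsg.Agent.AutPSU.Basic
import Cfsg.Agent.Classical.UnitarySmall

/-!
Normalisation of a chain of standard pairs: the automorphisms of SU₂ preserving the diagonal torus extend
to automorphisms of SU₃ preserving both planes, so the pairs can be re-coordinatised to agree on overlaps.
-/

set_option autoImplicit false
set_option linter.unusedSectionVars false
set_option linter.unusedSimpArgs false

open Matrix Function
open Cfsg.Agent.Classical.Herm (IsInvol fixField)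

namespace Cfsg.Agent.Phan

universe u v

variable {F : Type u} [Field F] [Fintype F] {σ : F →+* F} {q : ℕ}

/-- Automorphisms of SL₂ over a finite field. -/
theorem exists_sl_two_aut {K : Type u} [Field K] [Fintype K] (τ : MulAut (AutPSL.SLn 2 K)) :
    ∃ (g : GL (Fin 2) K) (f : K ≃+* K), ∀ s, τ s = AutPSL.conjSL g (AutPSL.fieldSL f s) := by
  obtain ⟨p, hp⟩ := CharP.exists K
  obtain ⟨-, hpr, -⟩ := FiniteField.card K p
  have : Fact p.Prime := ⟨hpr⟩
  obtain ⟨g, f, h⟩ := AutPSL.exists_decomp_two p (AutPSL.toPSLAut τ)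
  refine ⟨g, f, fun s => ?_⟩
  have h' : ∀ s, AutPSL.mkP (τ s) = AutPSL.mkP (AutPSL.conjSL g (AutPSL.fieldSL f s)) := fun s => by
    rw [← AutPSL.toPSLAut_mkP, h]; rfl
  have := Classical.sl_eq_top_of_transvection
    (MonoidHom.eqLocus (τ : AutPSL.SLn 2 K ≃* AutPSL.SLn 2 K).toMonoidHom
      ((AutPSL.conjSL g : AutPSL.SLn 2 K ≃* AutPSL.SLn 2 K).toMonoidHom.comp
        (AutPSL.fieldSL f : AutPSL.SLn 2 K ≃* AutPSL.SLn 2 K).toMonoidHom))
    fun i j hij t => AutPSL.eq_of_mkP_eq p (k := 1) (l := 1)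
      (by rw [← map_pow, AutPSL.xr_pow p hij t, map_one])
      (by rw [← map_pow, AutPSL.xr_pow p hij t, map_one]) (h' _)
  exact (this.symm ▸ Subgroup.mem_top s : s ∈ MonoidHom.eqLocus _ _)

variable (hS : Fld σ q)
include hS

/-- Field automorphisms of the fixed field extend. -/
theorem exists_extend (f : fixField σ ≃+* fixField σ) :
    ∃ θ : F ≃+* F, ∀ x : fixField σ, θ (x : F) = (f x : F) := by
  obtain ⟨p, hp⟩ := CharP.exists F
  obtain ⟨-, hpr, -⟩ := FiniteField.card F p
  have : Fact p.Prime := ⟨hpr⟩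
  have : CharP (fixField σ) p := (CharP.charP_iff_prime_eq_zero hpr).2 (Subtype.ext (by
    rw [SubringClass.coe_natCast, CharP.cast_eq_zero, ZeroMemClass.coe_zero]))
  let := ZMod.algebra (fixField σ) p
  let fe : fixField σ ≃ₐ[ZMod p] fixField σ :=
    AlgEquiv.ofRingEquiv (f := f) fun a => RingHom.congr_fun
      (Subsingleton.elim ((f : fixField σ →+* fixField σ).comp (algebraMap (ZMod p) (fixField σ)))
        (algebraMap (ZMod p) (fixField σ))) a
  obtain ⟨⟨j, hj⟩, hje⟩ := (FiniteField.bijective_frobeniusAlgEquivOfAlgebraic_pow (ZMod p) (fixField σ)).2 fe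
  refine ⟨iterateFrobeniusEquiv F p j, fun x => ?_⟩
  have e := congrFun (congrArg DFunLike.coe hje) x
  simp only [AlgEquiv.coe_pow, FiniteField.coe_frobeniusAlgEquivOfAlgebraic_iterate, ZMod.card] at e
  rw [iterateFrobeniusEquiv_def, show f x = fe x from rfl, ← e, SubmonoidClass.coe_pow]

/-- SU₂ is a conjugate of SL₂ over the fixed field. -/
theorem exists_su_two_model : ∃ (P : GL (Fin 2) F) (e : AutPSL.SLn 2 (fixField σ) ≃* SUn 2 F q),
    ∀ M, mx (e M) * (P : Matrix (Fin 2) (Fin 2) F) =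
      (P : Matrix (Fin 2) (Fin 2) F) * M.1.map (fixField σ).subtype := by
  classical
  have hσ := hS.invol
  obtain ⟨k, hk0, hk⟩ := Classical.Herm.exists_skew hσ
  obtain ⟨γ, hγ⟩ := Classical.Herm.exists_norm hσ (a := (-1 : F)) (by rw [map_neg, map_one])
  obtain ⟨c, hc⟩ : ∃ c : F, c + σ c = 1 := Classical.Herm.exists_trace hσ (map_one σ)
  let P : Matrix (Fin 2) (Fin 2) F := !![1, k * σ c; γ, -(k * γ * c)]
  have hP : (P.map σ)ᵀ * P = Classical.skewJ k := by
    ext i j
    fin_cases i <;> fin_cases j <;>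
      simp [P, Classical.skewJ, Matrix.mul_apply, Fin.sum_univ_two, map_mul, hσ.invol, hk]
    · linear_combination hγ
    · linear_combination k * hc - k * c * hγ
    · linear_combination -k * hc + k * σ c * hγ
    · linear_combination -k * k * c * σ c * hγ
  have hdetP : IsUnit P.det := by
    have h := congrArg Matrix.det hP
    rw [Matrix.det_mul] at h
    refine isUnit_iff_ne_zero.2 fun h0 => ?_
    rw [h0, mul_zero] at h
    simp [Classical.skewJ, Matrix.det_fin_two, hk0] at h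
  have hPi : P * P⁻¹ = 1 := Matrix.mul_nonsing_inv P hdetP
  have hiP : P⁻¹ * P = 1 := Matrix.nonsing_inv_mul P hdetP
  let ι := (fixField σ).subtype
  have hι : ∀ x : fixField σ, σ (ι x) = ι x := fun x => x.2
  have hmem : ∀ M : AutPSL.SLn 2 (fixField σ),
      ∀ u v, Classical.hermB 2 σ ((P * (M.1.map ι) * P⁻¹) *ᵥ u) ((P * (M.1.map ι) * P⁻¹) *ᵥ v) =
        Classical.hermB 2 σ u v := by
    intro M
    rw [Classical.preserves_iff_mul]
    have hMσ : (M.1.map ι).map σ = M.1.map ι := by ext i j; exact hι _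
    have hMd : (M.1.map ι).det = 1 := by
      rw [← RingHom.mapMatrix_apply, ← RingHom.map_det, M.2, map_one]
    rw [Classical.map_mul_hom, Classical.map_mul_hom, hMσ, Matrix.transpose_mul, Matrix.transpose_mul]
    calc (P⁻¹.map σ)ᵀ * ((M.1.map ι)ᵀ * (P.map σ)ᵀ) * (P * M.1.map ι * P⁻¹)
        = (P⁻¹.map σ)ᵀ * ((M.1.map ι)ᵀ * ((P.map σ)ᵀ * P) * M.1.map ι) * P⁻¹ := by simp only [Matrix.mul_assoc]
      _ = (P⁻¹.map σ)ᵀ * (P.map σ)ᵀ * (P * P⁻¹) := by
        rw [hP, Classical.transpose_skewJ_mul, hMd, one_smul, ← hP]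
        simp only [Matrix.mul_assoc]
      _ = 1 := by
        rw [hPi, mul_one, ← Matrix.transpose_mul, ← Classical.map_mul_hom, hPi,
          Matrix.map_one σ (map_zero σ) (map_one σ), Matrix.transpose_one]
  let Φ : AutPSL.SLn 2 (fixField σ) →* SUn 2 F q :=
    { toFun := fun M => ⟨⟨P * (M.1.map ι) * P⁻¹, by
          rw [Matrix.det_conj ((Matrix.isUnit_iff_isUnit_det P).2 hdetP), ← RingHom.mapMatrix_apply,
            ← RingHom.map_det, M.2, map_one]⟩, (Classical.mem_SU_iff hS.pow _).2 (hmem M)⟩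
      map_one' := Subtype.ext (Subtype.ext (by
        show P * ((1 : Matrix (Fin 2) (Fin 2) (fixField σ)).map ι) * P⁻¹ = 1
        rw [Matrix.map_one ι (map_zero ι) (map_one ι), mul_one, hPi]))
      map_mul' := fun M N => Subtype.ext (Subtype.ext (by
        show P * ((M.1 * N.1).map ι) * P⁻¹ = (P * M.1.map ι * P⁻¹) * (P * N.1.map ι * P⁻¹)
        rw [Matrix.map_mul]
        calc P * (M.1.map ι * N.1.map ι) * P⁻¹ = P * M.1.map ι * (P⁻¹ * P) * N.1.map ι * P⁻¹ := by
              rw [hiP, mul_one]; simp only [Matrix.mul_assoc]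
          _ = _ := by simp only [Matrix.mul_assoc])) }
  have hbij : Bijective Φ := by
    refine ⟨fun M N h => ?_, fun A => ?_⟩
    · have h1 : P * M.1.map ι * P⁻¹ = P * N.1.map ι * P⁻¹ := congrArg mx h
      have h2 := congrArg (fun X => P⁻¹ * X * P) h1
      simp only [Matrix.mul_assoc, hiP, mul_one] at h2
      simp only [← Matrix.mul_assoc, hiP, one_mul] at h2
      exact Subtype.ext (Matrix.map_injective ι.injective h2)
    · set X := P⁻¹ * A.1.1 * P with hX
      have hXd : X.det = 1 := by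
        rw [hX, Matrix.det_conj' ((Matrix.isUnit_iff_isUnit_det P).2 hdetP)]; exact A.1.2
      have hA := (Classical.preserves_iff_mul A.1.1).1 ((Classical.mem_SU_iff hS.pow A.1).1 A.2)
      have h1 : (X.map σ)ᵀ * Classical.skewJ k * X = Classical.skewJ k := by
        rw [hX, ← hP, Classical.map_mul_hom, Classical.map_mul_hom, Matrix.transpose_mul, Matrix.transpose_mul]
        calc (P.map σ)ᵀ * ((A.1.1.map σ)ᵀ * (P⁻¹.map σ)ᵀ) * ((P.map σ)ᵀ * P) * (P⁻¹ * A.1.1 * P)
            = (P.map σ)ᵀ * ((A.1.1.map σ)ᵀ * (((P⁻¹.map σ)ᵀ * (P.map σ)ᵀ) * (P * P⁻¹) * A.1.1)) * P := by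
              simp only [Matrix.mul_assoc]
          _ = _ := by
            rw [hPi, ← Matrix.transpose_mul, ← Classical.map_mul_hom, hPi,
              Matrix.map_one σ (map_zero σ) (map_one σ), Matrix.transpose_one, one_mul, one_mul, hA, mul_one]
      have h2 : Xᵀ * Classical.skewJ k * X = Classical.skewJ k := by
        rw [Classical.transpose_skewJ_mul, hXd, one_smul]
      have hJX : IsUnit (Classical.skewJ k * X).det := by
        rw [Matrix.det_mul, hXd, mul_one]
        simp [Classical.skewJ, Matrix.det_fin_two, hk0]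
      have hfix : X.map σ = X := by
        refine Matrix.transpose_injective ?_
        have := h1.trans h2.symm
        rw [Matrix.mul_assoc, Matrix.mul_assoc] at this
        exact ((Matrix.isUnit_iff_isUnit_det _).2 hJX).mul_left_inj.1 this
      let y : Matrix (Fin 2) (Fin 2) (fixField σ) := Matrix.of fun i j => ⟨X i j, congrFun (congrFun hfix i) j⟩
      have hyM : y.map ι = X := by ext i j; rfl
      have hyd : y.det = 1 := by
        apply ι.injective
        rw [RingHom.map_det, RingHom.mapMatrix_apply, hyM, hXd, map_one]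
      refine ⟨⟨y, hyd⟩, Subtype.ext (Subtype.ext ?_)⟩
      show P * y.map ι * P⁻¹ = A.1.1
      rw [hyM, hX]
      calc P * (P⁻¹ * A.1.1 * P) * P⁻¹ = (P * P⁻¹) * A.1.1 * (P * P⁻¹) := by simp only [Matrix.mul_assoc]
        _ = _ := by rw [hPi, one_mul, mul_one]
  refine ⟨Matrix.GeneralLinearGroup.mkOfDetNeZero P hdetP.ne_zero, MulEquiv.ofBijective Φ hbij, fun M => ?_⟩
  show P * M.1.map ι * P⁻¹ * P = P * M.1.map ι
  rw [Matrix.mul_assoc, hiP, mul_one]

/-- Automorphisms of SU₂ are semilinear. -/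
theorem exists_semilinear (τ : MulAut (SUn 2 F q)) : ∃ (θ : F ≃+* F) (Q : GL (Fin 2) F),
    ∀ x, mx (τ x) * (Q : Matrix (Fin 2) (Fin 2) F) = (Q : Matrix (Fin 2) (Fin 2) F) * (mx x).map θ := by
  classical
  have : Fintype (fixField σ) := Fintype.ofFinite _
  obtain ⟨P, e, he⟩ := exists_su_two_model hS
  obtain ⟨g, f, hgf⟩ := exists_sl_two_aut ((e.trans τ).trans e.symm)
  obtain ⟨θ, hθ⟩ := exists_extend hS f
  set ι := (fixField σ).subtype
  set gF : GL (Fin 2) F := Matrix.GeneralLinearGroup.map ι g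
  set Pθ : GL (Fin 2) F := AutPSL.fieldGL θ P
  refine ⟨θ, P * gF * Pθ⁻¹, fun x => ?_⟩
  have hθι : ∀ M : Matrix (Fin 2) (Fin 2) (fixField σ), (M.map ι).map θ = (M.map f).map ι := fun M => by
    ext i j; exact hθ _
  set M := e.symm x with hM
  have h1 := he (e.symm (τ (e M)))
  rw [e.apply_symm_apply] at h1
  have h2 : (e.symm (τ (e M))).1 = (g : Matrix (Fin 2) (Fin 2) (fixField σ)) * M.1.map f *
      ((g⁻¹ : GL (Fin 2) (fixField σ)) : Matrix (Fin 2) (Fin 2) (fixField σ)) := congrArg Subtype.val (hgf M)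
  rw [h2, Matrix.map_mul, Matrix.map_mul, ← hθι] at h1
  have h3 : (mx (e M)).map θ * (P : Matrix (Fin 2) (Fin 2) F).map θ =
      (P : Matrix (Fin 2) (Fin 2) F).map θ * (M.1.map ι).map θ := by
    rw [← Matrix.map_mul, ← Matrix.map_mul, he M]
  rw [show x = e M from (e.apply_symm_apply x).symm]
  have hPθ : (Pθ : Matrix (Fin 2) (Fin 2) F) = (P : Matrix (Fin 2) (Fin 2) F).map θ := rfl
  have hgF : (gF : Matrix (Fin 2) (Fin 2) F) = (g : Matrix (Fin 2) (Fin 2) (fixField σ)).map ι := rfl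
  have hgi : ((gF⁻¹ : GL (Fin 2) F) : Matrix (Fin 2) (Fin 2) F) =
      ((g⁻¹ : GL (Fin 2) (fixField σ)) : Matrix (Fin 2) (Fin 2) (fixField σ)).map ι := by
    simp only [gF, ← map_inv]; rfl
  rw [← hgi, ← hgF] at h1
  rw [← hPθ] at h3
  have h4 : (M.1.map ι).map θ =
      ((Pθ⁻¹ : GL (Fin 2) F) : Matrix (Fin 2) (Fin 2) F) * (mx (e M)).map θ * (Pθ : Matrix (Fin 2) (Fin 2) F) := by
    rw [Matrix.mul_assoc, h3, ← Matrix.mul_assoc, Units.inv_mul, one_mul]
  rw [h4] at h1
  simp only [Units.val_mul, ← Matrix.mul_assoc] at h1 ⊢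
  rw [h1]
  simp only [Matrix.mul_assoc, Units.inv_mul_cancel_left, Units.mul_inv, mul_one]

theorem su_two_form (x : SUn 2 F q) : ∃ h : nn σ (mx x 0 0) + nn σ (mx x 1 0) = 1,
    x = mk2 hS (mx x 0 0) (mx x 1 0) h := by
  have e : ∀ i, ap x (ev 0) i = mx x i 0 := fun i => by simp [ap, ev, mulVec_single_one]
  have h : nn σ (mx x 0 0) + nn σ (mx x 1 0) = 1 := by
    have := ip_ap hS x (ev 0) (ev 0)
    rw [ip_ev, ev_self, ip_self, Fin.sum_univ_two, e, e] at this
    exact this
  refine ⟨h, ?_⟩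
  set y := mk2 hS (mx x 0 0) (mx x 1 0) h
  have hy : ap y (ev 0) = ap x (ev 0) := by
    funext i; fin_cases i
    · simpa [ev_self, ev_ne (show (1 : Fin 2) ≠ 0 by decide), e] using mk2_zero hS _ _ h (ev (0 : Fin 2))
    · simpa [ev_self, ev_ne (show (1 : Fin 2) ≠ 0 by decide), e] using mk2_one hS _ _ h (ev (0 : Fin 2))
  refine (inv_mul_eq_one.1 (eq_one_of_lowFix_last hS (k := 1) (g := y⁻¹ * x) le_rfl fun l hl => ?_)).symm
  rw [show l = 0 from Fin.ext (by simp; omega), ap_mul, ← hy, ap_inv_ap]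

/-- An automorphism of SU₂ preserving the diagonal torus: its matrix form. -/
theorem exists_form (τ : MulAut (SUn 2 F q)) (hd : ∀ x, mx x 1 0 = 0 → mx (τ x) 1 0 = 0) :
    ∃ (θ : F ≃+* F) (ν : F), nn σ ν = 1 ∧
      ∀ x, mx (τ x) 0 0 = θ (mx x 0 0) ∧ mx (τ x) 1 0 = ν * θ (mx x 1 0) := by
  obtain ⟨θ, Q, hQ⟩ := exists_semilinear hS τ
  have hθσ : ∀ a, θ (σ a) = σ (θ a) := fun a => by rw [hS.pow, hS.pow, map_pow]
  set a := (Q : Matrix (Fin 2) (Fin 2) F) 0 0
  set b := (Q : Matrix (Fin 2) (Fin 2) F) 0 1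
  set c := (Q : Matrix (Fin 2) (Fin 2) F) 1 0
  set d := (Q : Matrix (Fin 2) (Fin 2) F) 1 1
  have hdet : a * d - b * c ≠ 0 := by
    have := (Matrix.isUnits_det_units Q).ne_zero
    rwa [Matrix.det_fin_two] at this
  have ent : ∀ x, ∀ {r' s' r s : F}, mx (τ x) 0 0 = r' → mx (τ x) 1 0 = s' → mx x 0 0 = r → mx x 1 0 = s →
      (r' * a - σ s' * c = a * θ r + b * θ s ∧ s' * a + σ r' * c = c * θ r + d * θ s) ∧
      (r' * b - σ s' * d = -(a * θ (σ s)) + b * θ (σ r) ∧ s' * b + σ r' * d = -(c * θ (σ s)) + d * θ (σ r)) := by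
    intro x r' s' r s e1 e2 e3 e4
    obtain ⟨h1, hx⟩ := su_two_form hS x
    obtain ⟨h2, hτ⟩ := su_two_form hS (τ x)
    have hmx : mx x = !![r, -σ s; s, σ r] := by rw [← e3, ← e4]; exact congrArg mx hx
    have hmτ : mx (τ x) = !![r', -σ s'; s', σ r'] := by rw [← e1, ← e2]; exact congrArg mx hτ
    have h := hQ x
    rw [hmx, hmτ] at h
    have k00 := congrFun (congrFun h 0) 0
    have k10 := congrFun (congrFun h 1) 0
    have k01 := congrFun (congrFun h 0) 1
    have k11 := congrFun (congrFun h 1) 1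
    simp [Matrix.mul_apply, Fin.sum_univ_two, map_neg] at k00 k10 k01 k11
    simp only [a, b, c, d]
    exact ⟨⟨by linear_combination k00, by linear_combination k10⟩,
      by linear_combination k01, by linear_combination k11⟩
  obtain ⟨η, hη, hη'⟩ := hS.exists_moved
  have hη2 : nn σ η + nn σ (0 : F) = 1 := by rw [nn_zero, add_zero, hη]
  set δ := mk2 hS η 0 hη2
  have hδ0 : mx δ 1 0 = 0 := rfl
  have hδ1 : mx δ 0 0 = η := rfl
  obtain ⟨⟨k00, k10⟩, k01, k11⟩ := ent δ rfl (hd δ hδ0) hδ1 hδ0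
  set r' := mx (τ δ) 0 0
  simp only [map_zero, zero_mul, sub_zero, mul_zero, add_zero, zero_add, neg_zero] at k00 k10 k01 k11
  have hne : θ (σ η) ≠ θ η := fun e => hη' (θ.injective e)
  have h1 : ∀ x : F, nn σ x + nn σ (0 : F) = nn σ x := fun x => by rw [nn_zero, add_zero]
  set w := mk2 hS (0 : F) 1 (by simp [nn])
  have hw0 : mx w 0 0 = 0 := rfl
  have hw1 : mx w 1 0 = 1 := rfl
  obtain ⟨⟨w00, w10⟩, w01, w11⟩ := ent w rfl rfl hw0 hw1
  simp only [map_zero, map_one, mul_zero, mul_one, zero_add, add_zero] at w00 w10 w01 w11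
  by_cases ha : a = 0
  · have hb : b ≠ 0 := fun e => hdet (by rw [ha, e]; ring)
    have hc : c ≠ 0 := fun e => hdet (by rw [ha, e]; ring)
    have hr' : r' = θ (σ η) := mul_right_cancel₀ hb (by linear_combination k01)
    have hd0 : d = 0 := by
      have : (θ η - θ (σ η)) * d = 0 := by
        rw [hr', ← hθσ, hS.sigma_sigma] at k11
        linear_combination k11
      exact (mul_eq_zero.1 this).resolve_left (sub_ne_zero.2 hne.symm)
    let σe : F ≃+* F := RingEquiv.ofBijective σ
      ⟨σ.injective, fun y => ⟨σ y, hS.sigma_sigma y⟩⟩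
    refine ⟨θ.trans σe, -(c / b), ?_, fun x => ?_⟩
    · rw [nn_neg]
      simp only [ha, hd0, mul_zero, sub_zero, add_zero, zero_add, neg_zero, zero_sub] at w00 w10 w01 w11
      have e1 : mx (τ w) 1 0 = -(c / b) := by field_simp; linear_combination w11
      rw [e1] at w00
      simp only [nn, map_div₀, map_neg] at w00 ⊢
      have hσb : σ b ≠ 0 := (map_ne_zero σ).2 hb
      field_simp at w00 ⊢
      linear_combination w00
    · obtain ⟨⟨-, -⟩, x01, x11⟩ := ent x (r := mx x 0 0) (s := mx x 1 0) rfl rfl rfl rfl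
      simp only [ha, hd0, zero_mul, mul_zero, sub_zero, add_zero, zero_add, neg_zero] at x01 x11
      have e3 : ∀ y, (θ.trans σe) y = σ (θ y) := fun y => rfl
      rw [e3, e3, ← hθσ, ← hθσ]
      refine ⟨mul_right_cancel₀ hb (by linear_combination x01), mul_right_cancel₀ hb ?_⟩
      rw [x11]; field_simp
  · have hr' : r' = θ η := mul_right_cancel₀ ha (by linear_combination k00)
    have hb : b = 0 := by
      have : (θ η - θ (σ η)) * b = 0 := by rw [hr'] at k01; linear_combination k01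
      exact (mul_eq_zero.1 this).resolve_left (sub_ne_zero.2 hne.symm)
    have hc : c = 0 := by
      have : (θ (σ η) - θ η) * c = 0 := by rw [hr', ← hθσ] at k10; linear_combination k10
      exact (mul_eq_zero.1 this).resolve_left (sub_ne_zero.2 hne)
    refine ⟨θ, d / a, ?_, fun x => ?_⟩
    · simp only [hb, hc, mul_zero, sub_zero, add_zero, zero_add, zero_sub] at w00 w10 w01 w11
      have e1 : mx (τ w) 1 0 = d / a := by field_simp; linear_combination w10
      rw [e1] at w01
      simp only [nn, map_div₀] at w01 ⊢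
      have hσa : σ a ≠ 0 := (map_ne_zero σ).2 ha
      field_simp at w01 ⊢
      linear_combination -w01
    · obtain ⟨⟨x00, x10⟩, -, -⟩ := ent x (r := mx x 0 0) (s := mx x 1 0) rfl rfl rfl rfl
      simp only [hb, hc, zero_mul, mul_zero, sub_zero, add_zero, zero_add] at x00 x10
      refine ⟨mul_right_cancel₀ ha (by linear_combination x00), mul_right_cancel₀ ha ?_⟩
      rw [x10]; field_simp

/-! ### The planes of SU₃ -/

theorem injective01 : Injective (![0, 1] : Fin 2 → Fin 3) := injective_pair hS (by decide)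

theorem injective12 : Injective (![1, 2] : Fin 2 → Fin 3) := injective_pair hS (by decide)

/-- The first plane. -/
noncomputable def e01 : SUn 2 F q →* SUn 3 F q := emb hS ![0, 1] (injective01 hS)

/-- The second plane. -/
noncomputable def e12 : SUn 2 F q →* SUn 3 F q := emb hS ![1, 2] (injective12 hS)

theorem e01_ap (x : SUn 2 F q) (v : Vec 3 F) :
    ap (e01 hS x) v = ![mx x 0 0 * v 0 + mx x 0 1 * v 1, mx x 1 0 * v 0 + mx x 1 1 * v 1, v 2] := by
  funext i
  fin_cases i
  · refine (emb_c hS ![0, 1] (injective01 hS) x v 0).trans ?_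
    simp [ap, mulVec, dotProduct, Fin.sum_univ_two]
  · refine (emb_c hS ![0, 1] (injective01 hS) x v 1).trans ?_
    simp [ap, mulVec, dotProduct, Fin.sum_univ_two]
  · exact (emb_ne hS ![0, 1] (injective01 hS) x v (notMem_range_pair.2 ⟨by decide, by decide⟩)).trans (by simp)

theorem e12_ap (x : SUn 2 F q) (v : Vec 3 F) :
    ap (e12 hS x) v = ![v 0, mx x 0 0 * v 1 + mx x 0 1 * v 2, mx x 1 0 * v 1 + mx x 1 1 * v 2] := by
  funext i
  fin_cases i
  · exact (emb_ne hS ![1, 2] (injective12 hS) x v (notMem_range_pair.2 ⟨by decide, by decide⟩)).trans (by simp)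
  · refine (emb_c hS ![1, 2] (injective12 hS) x v 0).trans ?_
    simp [ap, mulVec, dotProduct, Fin.sum_univ_two]
  · refine (emb_c hS ![1, 2] (injective12 hS) x v 1).trans ?_
    simp [ap, mulVec, dotProduct, Fin.sum_univ_two]

theorem mx_mk2 (r s : F) (h : nn σ r + nn σ s = 1) : mx (mk2 hS r s h) = !![r, -σ s; s, σ r] := rfl

theorem center_scalar (z : SUn 3 F q) (hz : z ∈ Subgroup.center (SUn 3 F q)) :
    ∃ lam : F, ∀ v, ap z v = lam • v := by
  obtain ⟨lam, hl⟩ := Classical.center_SU_scalar hS.invol hS.pow hS.card_fix (by norm_num) hz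
  exact ⟨lam, fun v => by
    show mx z *ᵥ v = _
    rw [show mx z = Matrix.scalar (Fin 3) lam from hl]
    ext i; simp [Matrix.scalar_apply, Matrix.mulVec_diagonal]⟩

/-- An automorphism of SU₂ preserving the torus extends to SU₃, preserving both planes. -/
theorem exists_extension (τ : MulAut (SUn 2 F q)) (hd : ∀ x, mx x 1 0 = 0 → mx (τ x) 1 0 = 0) :
    ∃ α : MulAut (SUn 3 F q), (∀ x, α (e01 hS x) = e01 hS (τ x)) ∧
      (e12 hS).range.map (α : SUn 3 F q ≃* SUn 3 F q).toMonoidHom = (e12 hS).range := by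
  obtain ⟨θ, ν, hν, hform⟩ := exists_form hS τ hd
  have hν0 : ν ≠ 0 := fun e => by rw [e, nn_zero] at hν; exact zero_ne_one hν
  let d : Fin 3 → Fˣ := ![1, Units.mk0 ν hν0, 1]
  have hd' : ∀ i, (d i : F) * σ (d i) = 1 := fun i => by fin_cases i <;> simp [d]; exact hν
  let g : Cfsg.GU 3 F q := ⟨Classical.diagGL d, Classical.diag_mem hS.pow d hd'⟩
  let α : MulAut (SUn 3 F q) := AutPSU.conjSu g * AutPSU.fieldSu θ
  have hmx : ∀ y i j, mx (α y) i j = (d i : F) * θ (mx y i j) * (d j : F)⁻¹ := fun y i j => by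
    show (AutPSU.gmat g.1 * (mx y).map θ * AutPSU.gmat g.1⁻¹) i j = _
    rw [show g.1⁻¹ = Classical.diagGL d⁻¹ from (map_inv _ d).symm, AutPSU.gmat, AutPSU.gmat,
      Classical.diagGL_coe, Classical.diagGL_coe, Matrix.mul_diagonal, Matrix.diagonal_mul]
    simp
  refine ⟨α, fun x => ?_, ?_⟩
  · obtain ⟨h1, hx⟩ := su_two_form hS x
    obtain ⟨h2, hτ⟩ := su_two_form hS (τ x)
    obtain ⟨f1, f2⟩ := hform x
    have hθσ : ∀ a, θ (σ a) = σ (θ a) := fun a => by rw [hS.pow, hS.pow, map_pow]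
    have hσν : σ ν = ν⁻¹ := (eq_inv_of_mul_eq_one_right hν)
    refine ext_ev fun l => funext fun i => ?_
    have key : ∀ (y : SUn 3 F q) (i j : Fin 3), ap y (ev j) i = mx y i j := fun y i j => by
      simp [ap, ev, mulVec_single_one]
    have hy : ∀ i j, mx (e01 hS x) i j = ap (e01 hS x) (ev j) i := fun i j => (key _ _ _).symm
    have m01 : mx x 0 1 = -σ (mx x 1 0) := congrFun (congrFun (congrArg mx hx) 0) 1
    have m11 : mx x 1 1 = σ (mx x 0 0) := congrFun (congrFun (congrArg mx hx) 1) 1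
    have t01 : mx (τ x) 0 1 = -σ (mx (τ x) 1 0) := congrFun (congrFun (congrArg mx hτ) 0) 1
    have t11 : mx (τ x) 1 1 = σ (mx (τ x) 0 0) := congrFun (congrFun (congrArg mx hτ) 1) 1
    rw [key, hmx, hy, e01_ap, e01_ap, m01, m11, t01, t11, f1, f2]
    fin_cases i <;> fin_cases l <;> simp [d, ev, hσν, map_neg, map_mul, hθσ] <;>
      first | ring1 | (field_simp; done)
  · refine Subgroup.eq_of_le_of_card_ge ?_
      (le_of_eq (Subgroup.card_map_of_injective (MulEquiv.injective _)).symm)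
    · rw [Subgroup.map_le_iff_le_comap]
      intro y hy
      rw [Subgroup.mem_comap]
      unfold e12 at hy ⊢
      rw [range_emb] at hy ⊢
      intro l hl
      funext i
      have hcol : mx y i l = (ev l : Vec 3 F) i := by
        have := congrFun (hy l hl) i
        simpa [ap, ev, mulVec_single_one] using this
      show ap (α y) (ev l) i = _
      simp only [ap, ev, mulVec_single_one, Matrix.col_apply]
      rw [hmx, hcol]
      by_cases hil : i = l
      · subst hil; simp [ev_self, d]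
      · simp [ev_ne hil, Pi.single_eq_of_ne hil]

end Cfsg.Agent.Phan
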