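import Cfsg.Agent.Phan.Chain

/-!
Copies of SU₂ inside SU₃ fix a non-isotropic vector; two of them with commuting tori form a standard pair.
-/

set_option autoImplicit false
set_option linter.unusedSectionVars false
set_option linter.unusedSimpArgs false

open Matrix Function
open Cfsg.Agent.Classical.Herm (IsInvol fixField)

namespace Cfsg.Agent.Phan

universe u v

variable {F : Type u} [Field F] [Fintype F] {σ : F →+* F} {q : ℕ}

theorem ip_add_left {N : ℕ} (x y z : Vec N F) : ip σ (x + y) z = ip σ x z + ip σ y z := by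
  simp [ip, add_mul, Finset.sum_add_distrib]

theorem ip_add_right {N : ℕ} (x y z : Vec N F) : ip σ x (y + z) = ip σ x y + ip σ x z := by
  simp [ip, mul_add, Finset.sum_add_distrib]

theorem ip_smul_left {N : ℕ} (c : F) (x y : Vec N F) : ip σ (c • x) y = c * ip σ x y := by
  simp [ip, Finset.mul_sum, mul_assoc]

theorem ip_smul_right {N : ℕ} (c : F) (x y : Vec N F) : ip σ x (c • y) = σ c * ip σ x y := by
  simp [ip, Finset.mul_sum, mul_left_comm]

theorem ip_zero_right {N : ℕ} (x : Vec N F) : ip σ x 0 = 0 := by simp [ip]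

theorem ip_zero_left {N : ℕ} (x : Vec N F) : ip σ 0 x = 0 := by simp [ip]

theorem eq_zero_of_ip {N : ℕ} {x : Vec N F} (h : ∀ y, ip σ x y = 0) : x = 0 :=
  funext fun l => (ip_ev (σ := σ) x l).symm.trans (h _)

/-- The fixer of a vector. -/
def fixVec (q : ℕ) (v : Vec 3 F) : Subgroup (SUn 3 F q) where
  carrier := {g | ap g v = v}
  one_mem' := ap_one v
  mul_mem' {g h} (hg : ap g v = v) (hh : ap h v = v) := show ap (g * h) v = v by rw [ap_mul, hh, hg]
  inv_mem' {g} (hg : ap g v = v) := show ap g⁻¹ v = v by conv_lhs => rw [← hg, ap_inv_ap]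

theorem mem_fixVec {v : Vec 3 F} {g : SUn 3 F q} : g ∈ fixVec q v ↔ ap g v = v := Iff.rfl

theorem fixVec_smul {v : Vec 3 F} {c : F} (hc : c ≠ 0) : fixVec q (c • v) = fixVec q v := by
  ext g
  rw [mem_fixVec, mem_fixVec, ap_smul]
  exact ⟨fun h => smul_right_injective _ hc h, fun h => by rw [h]⟩

theorem map_conj_fixVec (h : SUn 3 F q) (v : Vec 3 F) :
    (fixVec q v).map (MulAut.conj h).toMonoidHom = fixVec q (ap h v) := by
  ext g
  constructor
  · rintro ⟨x, hx, rfl⟩
    show ap (h * x * h⁻¹) (ap h v) = ap h v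
    rw [ap_mul, ap_mul, ap_inv_ap, mem_fixVec.1 hx]
  · intro hg
    refine ⟨h⁻¹ * g * h, ?_, by simp [mul_assoc]⟩
    show ap (h⁻¹ * g * h) v = v
    rw [ap_mul, ap_mul, mem_fixVec.1 hg, ap_inv_ap]

variable [Fact (2 < q)] (hS : Fld σ q)
include hS

theorem ip_symm {N : ℕ} (x y : Vec N F) : σ (ip σ x y) = ip σ y x := by
  simp [ip, map_sum, hS.sigma_sigma, mul_comm]

theorem e12_range_eq : (e12 hS).range = fixVec q (ev 0) := by
  ext g; exact mem_range_e12 hS

theorem e01_range_eq : (e01 hS).range = fixVec q (ev 2) := by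
  ext g
  rw [e01, range_emb, mem_fixVec]
  refine ⟨fun h => h 2 (notMem_range_pair.2 ⟨by decide, by decide⟩), fun h l hl => ?_⟩
  obtain ⟨h1, h2⟩ := notMem_range_pair.1 hl
  rw [show l = 2 by fin_cases l <;> simp_all]
  exact h

theorem exists_ev_zero {v : Vec 3 F} (hv : ip σ v v ≠ 0) :
    ∃ (g : SUn 3 F q) (c : F), c ≠ 0 ∧ ap g v = c • ev 0 := by
  obtain ⟨g, -, c, hc, hn⟩ := exists_axis hS 2 (0 : Fin 3) rfl v (fun l hl => absurd hl (Nat.not_lt_zero _)) hv
  exact ⟨g, c, fun e => hv (by rw [← hn, e, nn_zero]), hc⟩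

theorem card_fixVec {v : Vec 3 F} (hv : ip σ v v ≠ 0) : Nat.card (fixVec q v) = Nat.card (SUn 2 F q) := by
  obtain ⟨g, c, hc, he⟩ := exists_ev_zero hS hv
  have h := Subgroup.card_map_of_injective (K := fixVec q v) (f := (MulAut.conj g).toMonoidHom)
    (MulEquiv.injective _)
  rw [map_conj_fixVec, he, fixVec_smul hc, ← e12_range_eq hS] at h
  rw [← h]
  exact (Nat.card_congr (MonoidHom.ofInjective (emb_injective hS _ (injective12 hS))).toEquiv).symm

theorem fixVec_ne_top {v : Vec 3 F} (hv : ip σ v v ≠ 0) : fixVec q v ≠ ⊤ := by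
  intro h
  obtain ⟨g, c, hc, he⟩ := exists_ev_zero hS hv
  have h2 : (fixVec q v).map (MulAut.conj g).toMonoidHom = ⊤ := by
    rw [h, ← MonoidHom.range_eq_map]
    exact MonoidHom.range_eq_top.2 (MulEquiv.surjective _)
  rw [map_conj_fixVec, he, fixVec_smul hc] at h2
  have h3 : turn hS (show (0 : Fin 3) ≠ 1 by decide) ∈ fixVec q (ev 0) := h2 ▸ Subgroup.mem_top _
  have h4 := congrFun (mem_fixVec.1 h3) 1
  rw [turn_snd hS, ev_self, ev_ne (by decide)] at h4
  exact one_ne_zero h4

/-- An isotropic vector and an isotropic vector orthogonal to it are proportional. -/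
theorem prop_of_iso {u v : Vec 3 F} (hu : u ≠ 0) (huu : ip σ u u = 0) (hvv : ip σ v v = 0)
    (huv : ip σ v u = 0) : ∃ c : F, v = c • u := by
  obtain ⟨g, -, hg⟩ := exists_first hS 1 (0 : Fin 3) rfl u (fun l hl => absurd hl (Nat.not_lt_zero _)) hu 1
    (Or.inr one_ne_zero)
  refine ⟨ap g v 0, ?_⟩
  set w := ap g v - ap g v 0 • ap g u with hw
  suffices w = 0 by
    have h := congrArg (ap g⁻¹) (sub_eq_zero.1 (hw ▸ this))
    rwa [ap_smul, ap_inv_ap, ap_inv_ap] at h
  have hvu : ip σ u v = 0 := by rw [← ip_symm hS, huv, map_zero]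
  have h0 : w 0 = 0 := by simp [hw, hg]
  have h1 : ip σ w (ap g u) = 0 := by
    rw [hw, sub_eq_add_neg, ← neg_smul, ip_add_left, ip_smul_left, ip_ap hS, ip_ap hS, huv, huu]; ring
  have h2 : ip σ w w = 0 := by
    conv_lhs => arg 3; rw [hw, sub_eq_add_neg, ← neg_smul]
    rw [ip_add_right, ip_smul_right, h1, hw, sub_eq_add_neg, ← neg_smul, ip_add_left, ip_smul_left, ip_ap hS,
      ip_ap hS, hvv, hvu]; ring
  have h3 : ip σ (ap g u) (ap g u) = 0 := by rw [ip_ap hS, huu]
  simp only [ip, Fin.sum_univ_three, h0, hg, map_one, zero_mul, zero_add, one_mul] at h1 h2 h3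
  set a := ap g u
  have h1' : σ (w 1) * a 1 + σ (w 2) * a 2 = 0 := by
    have := congrArg σ h1
    simpa [map_add, map_mul, hS.sigma_sigma] using this
  have k1 : w 1 * σ (w 1) = 0 := by
    linear_combination (w 1 * σ (w 1)) * h3 - w 1 * σ (a 1) * h1' + σ (w 2) * a 2 * h1 - a 2 * σ (a 2) * h2
  have e1 : w 1 = 0 := nn_eq_zero.1 k1
  have e2 : w 2 = 0 := nn_eq_zero (σ := σ).1 (by rw [e1, zero_mul, zero_add] at h2; exact h2)
  funext l
  fin_cases l
  exacts [h0, e1, e2]

/-- The point of an involution in even characteristic. -/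
theorem exists_point (h2 : (2 : F) = 0) {t : SUn 3 F q} (ht : t * t = 1) (ht1 : t ≠ 1) :
    ∃ a : Vec 3 F, a ≠ 0 ∧ ip σ a a = 0 ∧ (∀ w, ∃ c : F, ap t w + w = c • a) ∧
      ∀ v, ip σ v a = 0 → ap t v = v := by
  set N : Vec 3 F → Vec 3 F := fun w => ap t w + w with hN
  have hneg : ∀ x : Vec 3 F, x + x = 0 := fun x => by
    funext l; simp only [Pi.add_apply, Pi.zero_apply]; linear_combination x l * h2
  have htt : ∀ w, ap t (ap t w) = w := fun w => by rw [← ap_mul, ht, ap_one]
  have adj : ∀ u w, ip σ (N u) w = ip σ u (N w) := fun u w => by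
    simp only [hN, ip_add_left, ip_add_right]
    rw [← ip_ap hS t (ap t u), htt]
  have hNN : ∀ u, N (N u) = 0 := fun u => by
    simp only [hN, ap_add, htt]
    rw [add_comm u, hneg]
  have orth : ∀ u w, ip σ (N u) (N w) = 0 := fun u w => by rw [adj, hNN, ip_zero_right]
  obtain ⟨w0, hw0⟩ : ∃ w, N w ≠ 0 := by
    by_contra h
    push Not at h
    refine ht1 (ext_ev fun l => ?_)
    have := h (ev l)
    rw [ap_one, ← sub_eq_zero, sub_eq_add_neg, show -(ev l : Vec 3 F) = ev l from
      neg_eq_of_add_eq_zero_left (hneg _)]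
    exact this
  have hr : ∀ w, ∃ c : F, N w = c • N w0 := fun w => prop_of_iso hS hw0 (orth _ _) (orth _ _) (orth _ _)
  refine ⟨N w0, hw0, orth _ _, hr, fun v hv => ?_⟩
  have h0 : N v = 0 := eq_zero_of_ip fun w => by
    obtain ⟨c, hc⟩ := hr w
    rw [adj, hc, ip_smul_right, hv, mul_zero]
  simp only [hN] at h0
  rw [← sub_eq_zero, sub_eq_add_neg, show -v = v from neg_eq_of_add_eq_zero_left (hneg v)]
  exact h0

theorem point_of_commute {t u : SUn 3 F q} (htu : t * u = u * t) {a b : Vec 3 F} (ha : a ≠ 0)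
    (haa : ip σ a a = 0) (hbb : ip σ b b = 0) (hta : ∀ w, ∃ c : F, ap t w + w = c • a)
    (htb : ∀ w, ∃ c : F, ap u w + w = c • b)
    (hu : u * u = 1) (h2 : (2 : F) = 0) (ht : t ≠ 1) (hu1 : u ≠ 1) : ∃ c : F, b = c • a := by
  have hneg : ∀ x : Vec 3 F, x + x = 0 := fun x => by
    funext l; simp only [Pi.add_apply, Pi.zero_apply]; linear_combination x l * h2
  obtain ⟨w, hw⟩ : ∃ w, ap t w + w ≠ 0 := by
    by_contra h
    push Not at h
    refine ht (ext_ev fun l => ?_)
    rw [ap_one, ← sub_eq_zero, sub_eq_add_neg, show -(ev l : Vec 3 F) = ev l from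
      neg_eq_of_add_eq_zero_left (hneg _)]
    exact h _
  obtain ⟨x, hx⟩ : ∃ x, ap u x + x ≠ 0 := by
    by_contra h
    push Not at h
    refine hu1 (ext_ev fun l => ?_)
    rw [ap_one, ← sub_eq_zero, sub_eq_add_neg, show -(ev l : Vec 3 F) = ev l from
      neg_eq_of_add_eq_zero_left (hneg _)]
    exact h _
  obtain ⟨c, hc⟩ := hta w
  have hc0 : c ≠ 0 := fun e => hw (by rw [hc, e, zero_smul])
  by_cases h0 : ap u a + a = 0
  · obtain ⟨d, hd⟩ := htb x
    have hd0 : d ≠ 0 := fun e => hx (by rw [hd, e, zero_smul])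
    have hua : ap u a = a := by
      rw [← sub_eq_zero, sub_eq_add_neg, show -a = a from neg_eq_of_add_eq_zero_left (hneg a)]; exact h0
    have hab : ip σ a b = 0 := by
      have h3 : ip σ a (ap u x + x) = 0 := by
        rw [ip_add_right, ← ip_ap hS u a (ap u x), hua, ← ap_mul, hu, ap_one, ← ip_add_right,
          hneg, ip_zero_right]
      rw [hd, ip_smul_right] at h3
      exact (mul_eq_zero.1 h3).resolve_left ((map_ne_zero σ).2 hd0)
    obtain ⟨e, he⟩ := prop_of_iso hS ha haa hbb (by rw [← ip_symm hS, hab, map_zero])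
    exact ⟨e, he⟩
  · obtain ⟨d, hd⟩ := htb a
    obtain ⟨e, he⟩ := hta (ap u w + w)
    have key : c • (ap u a + a) = e • a := by
      rw [← he, smul_add, ← ap_smul, ← hc, ap_add, ap_add, ← ap_mul, ← ap_mul, htu]
      abel
    have hd0 : d ≠ 0 := fun e' => h0 (by rw [hd, e', zero_smul])
    refine ⟨(c * d)⁻¹ * e, ?_⟩
    rw [mul_smul, ← key, hd, smul_smul, smul_smul, mul_assoc, inv_mul_cancel₀ (mul_ne_zero hc0 hd0), one_smul]

/-- A homomorphic copy of SL₂ in SU₃ fixes a non-isotropic vector. -/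
theorem exists_fixed_vector (ρ : AutPSL.SLn 2 (fixField σ) →* SUn 3 F q) (hρ : Injective ρ) :
    ∃ v : Vec 3 F, ip σ v v ≠ 0 ∧ ρ.range ≤ fixVec q v := by
  classical
  have : Fintype (fixField σ) := Fintype.ofFinite _
  obtain ⟨p, hp⟩ := CharP.exists F
  obtain ⟨-, hpr, -⟩ := FiniteField.card F p
  have : Fact p.Prime := ⟨hpr⟩
  have : CharP (fixField σ) p := (CharP.charP_iff_prime_eq_zero hpr).2 (Subtype.ext (by
    rw [SubringClass.coe_natCast, CharP.cast_eq_zero, ZeroMemClass.coe_zero]))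
  have hroot : ∀ (i j : Fin 2) (hij : i ≠ j) (c : fixField σ), AutPSL.xr hij c ^ p = 1 := fun i j hij c => by
    have := AutPSL.xr_pow (n := 2) p hij c
    rwa [pow_one] at this
  suffices ∃ v : Vec 3 F, ip σ v v ≠ 0 ∧ ∀ (i j : Fin 2) (hij : i ≠ j) (c : fixField σ),
      ap (ρ (AutPSL.xr hij c)) v = v by
    obtain ⟨v, hv, hfix⟩ := this
    refine ⟨v, hv, ?_⟩
    have := Classical.sl_eq_top_of_transvection ((fixVec q v).comap ρ) hfix
    rintro _ ⟨x, rfl⟩
    exact (this.symm ▸ Subgroup.mem_top x : x ∈ (fixVec q v).comap ρ)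
  by_cases h2 : (2 : F) = 0
  · have hp2 : p = 2 := ((Nat.prime_dvd_prime_iff_eq hpr Nat.prime_two).1
      ((CharP.cast_eq_zero_iff F p 2).1 (by exact_mod_cast h2)))
    have hinv : ∀ (i j : Fin 2) (hij : i ≠ j) (c : fixField σ),
        ρ (AutPSL.xr hij c) * ρ (AutPSL.xr hij c) = 1 := fun i j hij c => by
      rw [← map_mul, show AutPSL.xr hij c * AutPSL.xr hij c = AutPSL.xr hij c ^ p by rw [hp2, sq], hroot i j hij c, map_one]
    have h01 : (0 : Fin 2) ≠ 1 := by decide
    set t := ρ (AutPSL.xu (1 : fixField σ))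
    set u := ρ (AutPSL.xl (1 : fixField σ))
    have hnc : t * u ≠ u * t := fun e => by
      rw [← map_mul, ← map_mul] at e
      have := congrArg (fun M : AutPSL.SLn 2 (fixField σ) => M.1 0 0) (hρ e)
      simp [AutPSL.xu_coe, AutPSL.xl_coe, Matrix.mul_apply, Fin.sum_univ_two] at this
    have ht1 : t ≠ 1 := fun e => hnc (by rw [e, one_mul, mul_one])
    have hu1 : u ≠ 1 := fun e => hnc (by rw [e, one_mul, mul_one])
    obtain ⟨a, ha, haa, hta, hav⟩ := exists_point hS h2 (hinv _ _ h01 1) ht1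
    obtain ⟨b, hb, hbb, hub, hbv⟩ := exists_point hS h2 (hinv _ _ h01.symm 1) hu1
    have hprop : ¬ ∃ c : F, b = c • a := by
      rintro ⟨c, rfl⟩
      refine hnc (ext_ev fun l => ?_)
      obtain ⟨e, he⟩ := hta (ev l)
      obtain ⟨d, hd⟩ := hub (ev l)
      have hta' : ap t a = a := hav a haa
      have hua' : ap u a = a := hbv a (by rw [ip_smul_right, haa, mul_zero])
      rw [ap_mul, ap_mul, eq_sub_of_add_eq hd, eq_sub_of_add_eq he, ap_sub, ap_sub, ap_smul, ap_smul,
        ap_smul, hta', hua', eq_sub_of_add_eq hd, eq_sub_of_add_eq he]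
      funext i
      simp only [Pi.add_apply, Pi.sub_apply, Pi.smul_apply, smul_eq_mul]
      linear_combination (d * (c * a i) - e * a i) * h2
    -- a vector orthogonal to both points
    let w : Vec 3 F := ![σ (a 1 * b 2 - a 2 * b 1), σ (a 2 * b 0 - a 0 * b 2), σ (a 0 * b 1 - a 1 * b 0)]
    have haw : ip σ a w = 0 := by simp [ip, w, Fin.sum_univ_three, hS.sigma_sigma]; ring
    have hbw : ip σ b w = 0 := by simp [ip, w, Fin.sum_univ_three, hS.sigma_sigma]; ring
    have hw0 : w ≠ 0 := by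
      intro e
      refine hprop ?_
      have e0 := congrFun e 0
      have e1 := congrFun e 1
      have e2 := congrFun e 2
      simp only [w, Matrix.cons_val_zero, Matrix.cons_val_one, Matrix.cons_val, Pi.zero_apply, map_eq_zero,
        sub_eq_zero] at e0 e1 e2
      obtain ⟨i, hi⟩ := Function.ne_iff.1 ha
      refine ⟨b i / a i, funext fun l => ?_⟩
      have hi' : a i ≠ 0 := hi
      rw [Pi.smul_apply, smul_eq_mul, div_mul_eq_mul_div, eq_div_iff hi']
      fin_cases i <;> fin_cases l <;> simp <;>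
        first | ring1 | linear_combination e0 | linear_combination -e0 | linear_combination e1 |
          linear_combination -e1 | linear_combination e2 | linear_combination -e2
    have hwa : ip σ w a = 0 := by rw [← ip_symm hS, haw, map_zero]
    have hwb : ip σ w b = 0 := by rw [← ip_symm hS, hbw, map_zero]
    have hww : ip σ w w ≠ 0 := by
      intro e
      obtain ⟨c, hc⟩ := prop_of_iso hS ha haa e hwa
      have hc0 : c ≠ 0 := fun e' => hw0 (by rw [hc, e', zero_smul])
      rw [hc, ip_smul_left, mul_eq_zero] at hwb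
      exact hprop (prop_of_iso hS ha haa hbb (by rw [← ip_symm hS, hwb.resolve_left hc0, map_zero]))
    refine ⟨w, hww, fun i j hij c => ?_⟩
    by_cases hx1 : ρ (AutPSL.xr hij c) = 1
    · rw [hx1, ap_one]
    obtain ⟨a', ha', haa', hta', hav'⟩ := exists_point hS h2 (hinv i j hij c) hx1
    refine hav' w ?_
    have hcomm : ρ (AutPSL.xr hij (1 : fixField σ)) * ρ (AutPSL.xr hij c) =
        ρ (AutPSL.xr hij c) * ρ (AutPSL.xr hij (1 : fixField σ)) := by
      rw [← map_mul, ← map_mul, ← Matrix.SpecialLinearGroup.transvection_add,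
        ← Matrix.SpecialLinearGroup.transvection_add, add_comm]
    obtain rfl | rfl : i = 0 ∨ i = 1 := by fin_cases i <;> simp
    · obtain rfl : j = 1 := by fin_cases j <;> first | rfl | exact absurd rfl hij
      obtain ⟨e, rfl⟩ := point_of_commute hS hcomm ha haa haa' hta hta' (hinv _ _ hij c) h2 ht1 hx1
      rw [ip_smul_right, hwa, mul_zero]
    · obtain rfl : j = 0 := by fin_cases j <;> first | rfl | exact absurd rfl hij
      obtain ⟨e, rfl⟩ := point_of_commute hS hcomm hb hbb haa' hub hta' (hinv _ _ hij c) h2 hu1 hx1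
      rw [ip_smul_right, hwb, mul_zero]
  · set z := ρ (-1)
    have hzz : ∀ x, ap z (ap z x) = x := fun x => by
      rw [← ap_mul, ← map_mul, neg_mul_neg, one_mul, map_one, ap_one]
    have hz1 : z ≠ 1 := fun e => h2 (by
      have h := congrArg (fun M : AutPSL.SLn 2 (fixField σ) => ((M.1 0 0 : fixField σ) : F)) (hρ (e.trans (map_one ρ).symm))
      simp at h
      linear_combination -h)
    obtain ⟨w, hw⟩ : ∃ w, ip σ (ap z w + w) w ≠ 0 := by
      by_contra h
      push Not at h
      set M : Vec 3 F → Vec 3 F := fun x => ap z x + x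
      have h' : ∀ x, ip σ (M x) x = 0 := h
      obtain ⟨η, -, hη⟩ := hS.exists_moved
      have hM : ∀ x, M x = 0 := fun x => eq_zero_of_ip fun y => by
        have k1 := h' (x + y)
        have k2 := h' (x + η • y)
        simp only [M, ap_add, ap_smul, ip_add_left, ip_add_right, ip_smul_left, ip_smul_right] at k1 k2
        have k3 := h' x
        have k4 := h' y
        simp only [M, ip_add_left] at k3 k4 ⊢
        have : (σ η - η) * (ip σ (ap z x) y + ip σ x y) = 0 := by
          linear_combination k2 - η * k1 + (η - 1) * k3 + (η - η * σ η) * k4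
        exact (mul_eq_zero.1 this).resolve_left (sub_ne_zero.2 hη)
      have hm : mx z = -1 := Matrix.ext_of_mulVec_single fun l => by
        rw [Matrix.neg_mulVec, Matrix.one_mulVec]
        exact eq_neg_of_add_eq_zero_left (hM (ev l))
      have hdet : (mx z).det = 1 := z.1.2
      rw [hm, Matrix.det_neg, Matrix.det_one, Fintype.card_fin] at hdet
      exact h2 (by linear_combination -hdet)
    set v := ap z w + w
    have hzv : ap z v = v := by simp only [v, ap_add, hzz]; rw [add_comm]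
    have hvv : ip σ v v ≠ 0 := by
      have e : ip σ v v = 2 * ip σ v w := by
        conv_lhs => arg 3; simp only [v]
        rw [ip_add_right]
        conv_lhs => arg 1; arg 2; rw [← hzv]
        rw [ip_ap hS]
        ring
      rw [e]
      exact mul_ne_zero h2 hw
    obtain ⟨g, c, hc, hg⟩ := exists_ev_zero hS hvv
    obtain ⟨y, hy⟩ : g * z * g⁻¹ ∈ (e12 hS).range := by
      rw [e12_range_eq hS, ← fixVec_smul hc, ← hg, ← map_conj_fixVec]
      exact ⟨z, hzv, rfl⟩
    have hyy : y * y = 1 := emb_injective hS _ (injective12 hS) (by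
      show e12 hS (y * y) = e12 hS 1
      rw [map_mul, hy, map_one]
      calc g * z * g⁻¹ * (g * z * g⁻¹) = g * (z * z) * g⁻¹ := by group
        _ = 1 := by rw [← map_mul, neg_mul_neg, one_mul, map_one]; group)
    have hyform : mx y 1 0 = 0 ∧ mx y 0 1 = 0 ∧ mx y 0 0 = -1 ∧ mx y 1 1 = -1 := by
      obtain ⟨h, hy'⟩ := su_two_form hS y
      set r := mx y 0 0
      set s := mx y 1 0
      have hm : mx y = !![r, -σ s; s, σ r] := congrArg mx hy'
      have hmm : mx y * mx y = 1 := congrArg mx hyy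
      rw [hm] at hmm
      have k00 := congrFun (congrFun hmm 0) 0
      have k10 := congrFun (congrFun hmm 1) 0
      simp [Matrix.mul_apply, Fin.sum_univ_two] at k00 k10
      unfold nn at h
      have hs : s = 0 := by
        by_contra hs
        have hr : r + σ r = 0 := (mul_eq_zero.1 (show s * (r + σ r) = 0 by linear_combination k10)).resolve_left hs
        exact h2 (by linear_combination r * hr - k00 - h)
      have hr : r = -1 := by
        rw [hs, map_zero, mul_zero] at k00
        rcases mul_self_eq_one_iff.1 (by linear_combination k00) with hr | hr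
        · exfalso
          refine hz1 ?_
          have : y = 1 := Subtype.ext (Subtype.ext (by
            show mx y = 1
            rw [hm, hs, hr]; simp [Matrix.one_fin_two]))
          rw [this, map_one] at hy
          calc z = g⁻¹ * (g * z * g⁻¹) * g := by group
            _ = 1 := by rw [← hy]; group
        · exact hr
      exact ⟨hs, by rw [hm, hs]; simp, hr, by rw [hm, hr]; simp⟩
    have hline : ∀ x, ap z x = x → ∃ lam : F, x = lam • v := fun x hx => by
      have h1 : ap (g * z * g⁻¹) (ap g x) = ap g x := by rw [ap_mul, ap_mul, ap_inv_ap, hx]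
      rw [← hy, e12_ap] at h1
      obtain ⟨f1, f2, f3, f4⟩ := hyform
      have a1 := congrFun h1 1
      have a2 := congrFun h1 2
      simp [f1, f2, f3, f4] at a1 a2
      have b1 : ap g x 1 = 0 := (mul_eq_zero.1 (show (2 : F) * ap g x 1 = 0 by linear_combination -a1)).resolve_left h2
      have b2 : ap g x 2 = 0 := (mul_eq_zero.1 (show (2 : F) * ap g x 2 = 0 by linear_combination -a2)).resolve_left h2
      refine ⟨ap g x 0 * c⁻¹, ?_⟩
      have e : ap g x = (ap g x 0 * c⁻¹) • ap g v := by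
        rw [hg, smul_smul, mul_assoc, inv_mul_cancel₀ hc, mul_one]
        funext l; fin_cases l <;> simp [ev, b1, b2]
      have := congrArg (ap g⁻¹) e
      rwa [ap_smul, ap_inv_ap, ap_inv_ap] at this
    refine ⟨v, hvv, fun i j hij d => ?_⟩
    set x := ρ (AutPSL.xr hij d)
    have hxz : z * x = x * z := by rw [← map_mul, ← map_mul, neg_mul, one_mul, mul_neg, mul_one]
    obtain ⟨lam, hl⟩ := hline (ap x v) (by rw [← ap_mul, hxz, ap_mul, hzv])
    have hpow : ∀ m : ℕ, ap (x ^ m) v = lam ^ m • v := fun m => by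
      induction m with
      | zero => simp
      | succ m ih => rw [pow_succ, ap_mul, hl, ap_smul, ih, smul_smul, pow_succ']
    have h := hpow p
    rw [show x ^ p = 1 by rw [← map_pow, hroot i j hij d, map_one], ap_one] at h
    have hv0 : v ≠ 0 := fun e => hvv (by rw [e, ip_zero_left])
    have h1 : lam ^ p = 1 := smul_left_injective F hv0 (h.symm.trans (one_smul F v).symm)
    have h3 : (lam - 1) ^ p = 0 := by rw [sub_pow_char, h1, one_pow, sub_self]
    rw [hl, sub_eq_zero.1 (eq_zero_of_pow_eq_zero h3), one_smul]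

/-- A copy of SU₂ is the fixer of a non-isotropic vector. -/
theorem exists_eq_fixVec {X : Subgroup (SUn 3 F q)} (e : SUn 2 F q ≃* X) :
    ∃ v : Vec 3 F, ip σ v v ≠ 0 ∧ X = fixVec q v := by
  obtain ⟨P, em, -⟩ := exists_su_two_model hS
  obtain ⟨v, hv, hle⟩ := exists_fixed_vector hS (X.subtype.comp (em.trans e).toMonoidHom)
    (X.subtype_injective.comp (em.trans e).injective)
  have hr : (X.subtype.comp (em.trans e).toMonoidHom).range = X := by
    rw [← MonoidHom.map_range, MonoidHom.range_eq_top.2 (em.trans e).surjective, ← MonoidHom.range_eq_map,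
      Subgroup.range_subtype]
  rw [hr] at hle
  exact ⟨v, hv, Subgroup.eq_of_le_of_card_ge hle (le_of_eq ((card_fixVec hS hv).trans (Nat.card_congr e.toEquiv)))⟩

/-- A torus element fixes only one line. -/
theorem line_of_torus {a : Vec 3 F} (ha : ip σ a a ≠ 0) {d : SUn 3 F q} (hd : d ∈ fixVec q a) (hd1 : d ≠ 1)
    (hpow : d ^ (q + 1) = 1) {x : Vec 3 F} (hx : ap d x = x) : ∃ lam : F, x = lam • a := by
  obtain ⟨p, hp⟩ := CharP.exists F
  obtain ⟨m, hpr, hm⟩ := FiniteField.card F p
  have : Fact p.Prime := ⟨hpr⟩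
  obtain ⟨g, c, hc, hg⟩ := exists_ev_zero hS ha
  obtain ⟨y, hy⟩ : g * d * g⁻¹ ∈ (e12 hS).range := by
    rw [e12_range_eq hS, ← fixVec_smul hc, ← hg, ← map_conj_fixVec]
    exact ⟨d, hd, rfl⟩
  set z := ap g x
  suffices z 1 = 0 ∧ z 2 = 0 by
    refine ⟨z 0 * c⁻¹, ?_⟩
    have e : z = (z 0 * c⁻¹) • ap g a := by
      rw [hg, smul_smul, mul_assoc, inv_mul_cancel₀ hc, mul_one]
      funext l; fin_cases l <;> simp [ev, this.1, this.2]
    have := congrArg (ap g⁻¹) e
    simpa only [z, ap_smul, ap_inv_ap] using this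
  by_contra hz
  have hfix : ap (e12 hS y) z = z := by rw [hy, ap_mul, ap_mul, ap_inv_ap, hx]
  obtain ⟨h, hy'⟩ := su_two_form hS y
  set r := mx y 0 0
  set s := mx y 1 0
  have hmy : mx y = !![r, -σ s; s, σ r] := congrArg mx hy'
  rw [e12_ap, hmy] at hfix
  have a1 := congrFun hfix 1
  have a2 := congrFun hfix 2
  simp at a1 a2
  have k1 : z 1 * ((r - 1) * (σ r - 1) + σ s * s) = 0 := by linear_combination (σ r - 1) * a1 + σ s * a2
  have k2 : z 2 * ((r - 1) * (σ r - 1) + σ s * s) = 0 := by linear_combination (r - 1) * a2 - s * a1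
  have hdet : (r - 1) * (σ r - 1) + σ s * s = 0 := by
    by_contra hh
    exact hz ⟨(mul_eq_zero.1 k1).resolve_right hh, (mul_eq_zero.1 k2).resolve_right hh⟩
  unfold nn at h
  have htr : r + σ r = 2 := by linear_combination h - hdet
  have hsq : (mx y - 1) * (mx y - 1) = 0 := by
    rw [hmy]
    ext i j
    fin_cases i <;> fin_cases j <;> simp [Matrix.mul_apply, Fin.sum_univ_two, Matrix.one_apply]
    · linear_combination (r - 1) * htr - hdet
    · linear_combination -σ s * htr
    · linear_combination s * htr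
    · linear_combination (σ r - 1) * htr - hdet
  have hyp : y ^ p = 1 := by
    refine Subtype.ext (Subtype.ext ?_)
    show (y.1 ^ p).1 = 1
    rw [Matrix.SpecialLinearGroup.coe_pow, show y.1.1 = (mx y - 1) + 1 from (sub_add_cancel _ _).symm,
      add_pow_char_of_commute p (Commute.one_right _), one_pow]
    obtain ⟨k, rfl⟩ : ∃ k, p = k + 2 := ⟨p - 2, by have := hpr.two_le; omega⟩
    rw [pow_add, pow_two, hsq, mul_zero, zero_add]
  have hyq : y ^ (q + 1) = 1 := emb_injective hS _ (injective12 hS) (by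
    show e12 hS (y ^ (q + 1)) = e12 hS 1
    rw [map_pow, hy, map_one, conj_pow, hpow, mul_one, mul_inv_cancel])
  have hpq : p ∣ q := hpr.dvd_of_dvd_pow (n := 2) (by
    have : Fintype.card F = q ^ 2 := by
      rw [← hS.card_fix, ← Classical.Herm.card_eq_fix_sq hS.invol, Nat.card_eq_fintype_card]
    rw [← this, hm]; exact dvd_pow_self p m.ne_zero)
  have hcop : Nat.Coprime p (q + 1) := (Nat.Prime.coprime_iff_not_dvd hpr).2 fun h' => by
    exact hpr.not_dvd_one ((Nat.dvd_add_right hpq).1 h')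
  have hy1 : y = 1 := orderOf_eq_one_iff.1
    (Nat.eq_one_of_dvd_coprimes hcop (orderOf_dvd_of_pow_eq_one hyp) (orderOf_dvd_of_pow_eq_one hyq))
  rw [hy1, map_one] at hy
  exact hd1 (by calc d = g⁻¹ * (g * d * g⁻¹) * g := by group
                  _ = 1 := by rw [← hy]; group)

/-- Two copies of SU₂ with commuting tori, generating SU₃, form a standard pair. -/
theorem exists_pair_of_tori {G : Type v} [Group G] {ι : SUn 3 F q →* G} (hι : Injective ι)
    {X Y : Subgroup (SUn 3 F q)} (eX : SUn 2 F q ≃* X) (eY : SUn 2 F q ≃* Y) (hgen : X ⊔ Y = ⊤)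
    {dx dy : SUn 3 F q} (hdx : dx ∈ X) (hdy : dy ∈ Y) (hx1 : dx ≠ 1) (hy1 : dy ≠ 1)
    (hxp : dx ^ (q + 1) = 1) (hyp : dy ^ (q + 1) = 1) (hcomm : dx * dy = dy * dx) :
    ∃ f : SUn 3 F q →* G, Pair hS f (X.map ι) (Y.map ι) := by
  obtain ⟨b, hb, rfl⟩ := exists_eq_fixVec hS eX
  obtain ⟨a, ha, rfl⟩ := exists_eq_fixVec hS eY
  have hne : ¬ ∃ lam : F, b = lam • a := by
    rintro ⟨lam, rfl⟩
    have hlam : lam ≠ 0 := fun e => hb (by rw [e, zero_smul, ip_zero_left])
    rw [fixVec_smul hlam, sup_idem] at hgen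
    exact fixVec_ne_top hS ha hgen
  have hab : ip σ b a = 0 := by
    by_contra h
    obtain ⟨lam, hl⟩ := line_of_torus hS hb hdx hx1 hxp (x := ap dy b)
      (by rw [← ap_mul, hcomm, ap_mul, mem_fixVec.1 hdx])
    have h' := ip_ap hS dy b a
    rw [mem_fixVec.1 hdy, hl, ip_smul_left] at h'
    have hl1 : lam = 1 := mul_right_cancel₀ h (by rw [h', one_mul])
    rw [hl1, one_smul] at hl
    exact hne (line_of_torus hS ha hdy hy1 hyp hl)
  obtain ⟨g, c, hc, hg⟩ := exists_ev_zero hS ha
  have hgb0 : ap g b 0 = 0 := by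
    have h' := ip_ap hS g b a
    rw [hg, hab, ip_smul_right, ip_ev] at h'
    exact (mul_eq_zero.1 h').resolve_left ((map_ne_zero σ).2 hc)
  obtain ⟨g', hg', c', hgc', hn'⟩ := exists_axis hS 1 (1 : Fin 3) rfl (ap g b)
    (fun l hl => by rw [show l = 0 from Fin.ext (by simp at hl ⊢; omega)]; exact hgb0)
    (by rw [ip_ap hS]; exact hb)
  have hc' : c' ≠ 0 := fun e => hb (by rw [← ip_ap hS g b b, ← hn', e, nn_zero])
  set t := turn hS (show (1 : Fin 3) ≠ 2 by decide)
  set h := t * g' * g
  have g0 : ap g' (ev 0) = ev 0 := gen_le_lowFix _ hg' 0 (by simp)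
  have hha : ap h a = c • ev 0 := by
    rw [ap_mul, ap_mul, hg, ap_smul, ap_smul, g0]
    congr 1
    exact pairEl_mem hS _ _ _ _ 0 ⟨by decide, by decide⟩
  have hhb : ap h b = c' • ev 2 := by
    rw [ap_mul, ap_mul, hgc', ap_smul]
    congr 1
    funext l
    fin_cases l
    · exact (turn_other hS _ _ (by decide) (by decide)).trans (by simp [ev])
    · exact (turn_fst hS _ _).trans (by simp [ev])
    · exact (turn_snd hS _ _).trans (by simp [ev])
  refine ⟨ι.comp (MulAut.conj h⁻¹).toMonoidHom, ?_, ?_, ?_, ?_, ?_⟩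
  · rw [← MonoidHom.map_range, e01_range_eq hS, ← fixVec_smul hc', ← hhb, ← map_conj_fixVec, Subgroup.map_map]
    congr 1; ext x; simp [mul_assoc]
  · rw [← MonoidHom.map_range, e12_range_eq hS, ← fixVec_smul hc, ← hha, ← map_conj_fixVec, Subgroup.map_map]
    congr 1; ext x; simp [mul_assoc]
  · exact (hι.comp (MulEquiv.injective _)).comp (emb_injective hS _ (injective01 hS))
  · exact (hι.comp (MulEquiv.injective _)).comp (emb_injective hS _ (injective12 hS))
  · rw [(MonoidHom.ker_eq_bot_iff _).2 (show Injective (ι.comp (MulAut.conj h⁻¹).toMonoidHom) from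
      hι.comp (MulEquiv.injective _))]
    exact bot_le

end Cfsg.Agent.Phan
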