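import Cfsg.Agent.Phan.Recog

/-!
Elements of SU₄ commuting with an involution split along two planes; commuting involutions are diagonalisable.
-/

set_option autoImplicit false
set_option linter.unusedSectionVars false
set_option linter.unusedSimpArgs false

open Matrix Function

namespace Cfsg.Agent.Phan

universe u v

variable {F : Type u} [Field F] [Fintype F] {σ : F →+* F} {q : ℕ}

/-- A braid pair of elements of order three. -/
theorem braid_sq {G : Type v} [Group G] {a b : G} (ha : a ^ 3 = 1) (hb : b ^ 3 = 1)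
    (hab : a * b * a = b * a * b) :
    ((a * b⁻¹) ^ 2) ^ 2 = 1 ∧ (a * b⁻¹) ^ 2 * a = a * (a * b⁻¹) ^ 2 ∧
      (a * b⁻¹) ^ 2 * b = b * (a * b⁻¹) ^ 2 := by
  have a2 : a * a = a⁻¹ := eq_inv_of_mul_eq_one_left (by rw [← pow_three', ha])
  have b2 : b⁻¹ = b * b := (eq_inv_of_mul_eq_one_left (by rw [← pow_three', hb])).symm
  obtain ⟨D, hD⟩ : ∃ D, D = a * b * a := ⟨_, rfl⟩
  have hc : (a * b⁻¹) ^ 2 = D * D := by
    calc (a * b⁻¹) ^ 2 = a * b * (b * a * b) * b := by rw [b2, sq]; group
      _ = a * b * (a * b * a) * b := by rw [hab]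
      _ = D * (b * a * b) := by rw [hD]; group
      _ = D * D := by rw [← hab, ← hD]
  have da : D * a = b * D := by
    calc D * a = b * a * b * a := by rw [hD, hab]
      _ = b * D := by rw [hD]; group
  have db : D * b = a * D := by
    calc D * b = a * (b * a * b) := by rw [hD]; group
      _ = a * D := by rw [← hab, ← hD]
  have ca : D * D * a = a * (D * D) := by rw [mul_assoc, da, ← mul_assoc, db, mul_assoc]
  have cb : D * D * b = b * (D * D) := by rw [mul_assoc, db, ← mul_assoc, da, mul_assoc]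
  refine ⟨?_, by rw [hc, ca], by rw [hc, cb]⟩
  have e : a * (a * b⁻¹) * a⁻¹ = D⁻¹ := by rw [← mul_assoc a a, a2, hD]; group
  have e2 : D⁻¹ * D⁻¹ = D * D := by
    rw [← e, show a * (a * b⁻¹) * a⁻¹ * (a * (a * b⁻¹) * a⁻¹) = a * (a * b⁻¹) ^ 2 * a⁻¹ by rw [sq]; group,
      hc, ← ca, mul_inv_cancel_right]
  rw [hc, sq]
  nth_rewrite 1 [← e2]
  group

variable (hS : Fld σ q)
include hS

/-- The central involution of SU₂. -/
def negOne : SUn 2 F q := mk2 hS (-1) 0 (by simp [nn])

theorem mx_negOne : mx (negOne hS) = -1 := by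
  rw [negOne, mx_mk2]
  ext i j; fin_cases i <;> fin_cases j <;> simp

theorem negOne_comm (x : SUn 2 F q) : negOne hS * x = x * negOne hS :=
  Subtype.ext (Subtype.ext (show mx (negOne hS) * mx x = mx x * mx (negOne hS) by rw [mx_negOne]; simp))

theorem negOne_sq : negOne hS * negOne hS = 1 :=
  Subtype.ext (Subtype.ext (show mx (negOne hS) * mx (negOne hS) = 1 by rw [mx_negOne]; simp))

theorem negOne_ne_one (h2 : (2 : F) ≠ 0) : negOne hS ≠ 1 := fun h => h2 (by
  have := congrArg (fun x : SUn 2 F q => mx x 0 0) h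
  simp [mx_negOne, mx] at this
  linear_combination -this)

/-- An element of square one in SU₂. -/
theorem sq_one_cases (h2 : (2 : F) ≠ 0) {x : SUn 2 F q} (hx : x * x = 1) : x = 1 ∨ x = negOne hS := by
  obtain ⟨h, hx'⟩ := su_two_form hS x
  set r := mx x 0 0
  set s := mx x 1 0
  have hm : mx x = !![r, -σ s; s, σ r] := congrArg mx hx'
  have hmm : mx x * mx x = 1 := congrArg mx hx
  rw [hm] at hmm
  have k00 := congrFun (congrFun hmm 0) 0
  have k10 := congrFun (congrFun hmm 1) 0
  simp [Matrix.mul_apply, Fin.sum_univ_two] at k00 k10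
  unfold nn at h
  have hs : s = 0 := by
    by_contra hs
    have hr : r + σ r = 0 := (mul_eq_zero.1 (show s * (r + σ r) = 0 by linear_combination k10)).resolve_left hs
    exact h2 (by linear_combination r * hr - k00 - h)
  rw [hs, map_zero, mul_zero] at k00
  rcases mul_self_eq_one_iff.1 (show r * r = 1 by linear_combination k00) with hr | hr
  · left
    refine Subtype.ext (Subtype.ext ?_)
    show mx x = 1
    rw [hm, hs, hr]; simp [Matrix.one_fin_two]
  · right
    refine Subtype.ext (Subtype.ext ?_)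
    show mx x = mx (negOne hS)
    rw [hm, hs, hr, mx_negOne]; simp [Matrix.one_fin_two]

/-- The map from two complementary planes. -/
noncomputable def pairHom {c : Fin 4 → Fin 4} (hc : Injective c) : SUn 2 F q × SUn 2 F q →* SUn 4 F q :=
  MonoidHom.noncommCoprod (emb hS ![c 0, c 1] (injective_pair hS (hc.ne (by decide))))
    (emb hS ![c 2, c 3] (injective_pair hS (hc.ne (by decide)))) fun x y => by
      refine commute_of_fixSet hS (p := fun l => l ≠ c 0 ∧ l ≠ c 1) (p' := fun l => l ≠ c 2 ∧ l ≠ c 3) (fun l => ?_)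
        (fun l hl => emb_ev_ne hS _ _ x (notMem_range_pair.2 hl))
        (fun l hl => emb_ev_ne hS _ _ y (notMem_range_pair.2 hl))
      by_cases h : l = c 0 ∨ l = c 1
      · right
        rcases h with rfl | rfl <;> exact ⟨hc.ne (by decide), hc.ne (by decide)⟩
      · push Not at h
        exact Or.inl h

variable {c : Fin 4 → Fin 4} (hc : Injective c)

theorem pairHom_fst (x : SUn 2 F q) :
    pairHom hS hc (x, 1) = emb hS ![c 0, c 1] (injective_pair hS (hc.ne (by decide))) x := by
  refine (MonoidHom.noncommCoprod_apply _ _ _ _).trans ?_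
  simp

theorem pairHom_snd (x : SUn 2 F q) :
    pairHom hS hc (1, x) = emb hS ![c 2, c 3] (injective_pair hS (hc.ne (by decide))) x := by
  refine (MonoidHom.noncommCoprod_apply _ _ _ _).trans ?_
  simp

theorem pairHom_entry (p : SUn 2 F q × SUn 2 F q) (v : Vec 4 F) :
    ap (pairHom hS hc p) v (c 0) = mx p.1 0 0 * v (c 0) + mx p.1 0 1 * v (c 1) ∧
    ap (pairHom hS hc p) v (c 1) = mx p.1 1 0 * v (c 0) + mx p.1 1 1 * v (c 1) ∧
    ap (pairHom hS hc p) v (c 2) = mx p.2 0 0 * v (c 2) + mx p.2 0 1 * v (c 3) ∧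
    ap (pairHom hS hc p) v (c 3) = mx p.2 1 0 * v (c 2) + mx p.2 1 1 * v (c 3) := by
  have h01 : Injective (![c 0, c 1] : Fin 2 → Fin 4) := injective_pair hS (hc.ne (by decide))
  have h23 : Injective (![c 2, c 3] : Fin 2 → Fin 4) := injective_pair hS (hc.ne (by decide))
  have n : ∀ {i j k : Fin 4}, k ≠ i → k ≠ j → c k ∉ Set.range ![c i, c j] := fun h h' =>
    notMem_range_pair.2 ⟨hc.ne h, hc.ne h'⟩
  have e : ∀ w, ap (pairHom hS hc p) w = ap (emb hS _ h01 p.1) (ap (emb hS _ h23 p.2) w) := fun w => by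
    rw [← ap_mul]; rfl
  have ap2 : ∀ (x : SUn 2 F q) (w : Vec 2 F) (i : Fin 2), ap x w i = mx x i 0 * w 0 + mx x i 1 * w 1 :=
    fun x w i => by simp [ap, mulVec, dotProduct, Fin.sum_univ_two]
  have n0 := emb_ne hS _ h23 p.2 v (n (i := 2) (j := 3) (k := 0) (by decide) (by decide))
  have n1 := emb_ne hS _ h23 p.2 v (n (i := 2) (j := 3) (k := 1) (by decide) (by decide))
  refine ⟨?_, ?_, ?_, ?_⟩
  · rw [e]
    refine (emb_c hS ![c 0, c 1] h01 p.1 _ 0).trans ?_
    rw [ap2]
    simp [n0, n1]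
  · rw [e]
    refine (emb_c hS ![c 0, c 1] h01 p.1 _ 1).trans ?_
    rw [ap2]
    simp [n0, n1]
  · rw [e, emb_ne hS _ h01 p.1 _ (n (by decide) (by decide))]
    refine (emb_c hS ![c 2, c 3] h23 p.2 v 0).trans ?_
    rw [ap2]
    simp
  · rw [e, emb_ne hS _ h01 p.1 _ (n (by decide) (by decide))]
    refine (emb_c hS ![c 2, c 3] h23 p.2 v 1).trans ?_
    rw [ap2]
    simp

theorem pairHom_injective : Injective (pairHom hS hc) := by
  intro p p' h
  have k := fun v => pairHom_entry hS hc p v
  have k' := fun v => pairHom_entry hS hc p' v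
  rw [← h] at k'
  have hne : ∀ {a b : Fin 4}, a ≠ b → (ev (c b) : Vec 4 F) (c a) = 0 := fun hab => ev_ne (hc.ne hab)
  refine Prod.ext (Subtype.ext (Subtype.ext ?_)) (Subtype.ext (Subtype.ext ?_))
  · ext i j
    fin_cases i <;> fin_cases j
    · simpa [ev_self, hne] using (k (ev (c 0))).1.symm.trans (k' (ev (c 0))).1
    · simpa [ev_self, hne] using (k (ev (c 1))).1.symm.trans (k' (ev (c 1))).1
    · simpa [ev_self, hne] using (k (ev (c 0))).2.1.symm.trans (k' (ev (c 0))).2.1
    · simpa [ev_self, hne] using (k (ev (c 1))).2.1.symm.trans (k' (ev (c 1))).2.1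
  · ext i j
    fin_cases i <;> fin_cases j
    · simpa [ev_self, hne] using (k (ev (c 2))).2.2.1.symm.trans (k' (ev (c 2))).2.2.1
    · simpa [ev_self, hne] using (k (ev (c 3))).2.2.1.symm.trans (k' (ev (c 3))).2.2.1
    · simpa [ev_self, hne] using (k (ev (c 2))).2.2.2.symm.trans (k' (ev (c 2))).2.2.2
    · simpa [ev_self, hne] using (k (ev (c 3))).2.2.2.symm.trans (k' (ev (c 3))).2.2.2

/-- Elements of order three commuting with the involution on a plane split. -/
theorem exists_split [CharP F 3] (h2 : (2 : F) ≠ 0) {y : SUn 4 F q}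
    (hy : pairHom hS hc (negOne hS, 1) * y = y * pairHom hS hc (negOne hS, 1)) (h3 : y ^ 3 = 1) :
    ∃ p : SUn 2 F q × SUn 2 F q, pairHom hS hc p = y ∧ p.1 ^ 3 = 1 ∧ p.2 ^ 3 = 1 := by
  have : Fact (Nat.Prime 3) := ⟨Nat.prime_three⟩
  have hsurj : Surjective c := Finite.injective_iff_surjective.1 hc
  have key := fun v => pairHom_entry hS hc (negOne hS, 1) v
  simp only [mx_negOne, show mx (1 : SUn 2 F q) = 1 from rfl] at key
  simp at key
  -- entries across the two planes vanish
  have hcross : ∀ a b : Fin 4, ((a : ℕ) < 2 ∧ 2 ≤ (b : ℕ)) ∨ (2 ≤ (a : ℕ) ∧ (b : ℕ) < 2) →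
      ap y (ev (c b)) (c a) = 0 := by
    intro a b hab
    have e := congrArg (fun g => ap g (ev (c b)) (c a)) hy
    simp only [ap_mul] at e
    obtain ⟨k0, k1, k2, k3⟩ := key (ap y (ev (c b)))
    have hfix : ∀ {d : Fin 4}, (d : ℕ) < 2 → ap (pairHom hS hc (negOne hS, 1)) (ev (c d)) = -(ev (c d)) := by
      intro d hd
      funext l
      obtain ⟨m, rfl⟩ := hsurj l
      obtain ⟨l0, l1, l2, l3⟩ := key (ev (c d))
      have hne : ∀ {a b : Fin 4}, a ≠ b → (ev (c b) : Vec 4 F) (c a) = 0 := fun h => ev_ne (hc.ne h)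
      obtain rfl | rfl : d = 0 ∨ d = 1 := by omega
      all_goals fin_cases m <;> simp [l0, l1, l2, l3, ev_self, hne]
    have hfix' : ∀ {d : Fin 4}, 2 ≤ (d : ℕ) → ap (pairHom hS hc (negOne hS, 1)) (ev (c d)) = ev (c d) := by
      intro d hd
      funext l
      obtain ⟨m, rfl⟩ := hsurj l
      obtain ⟨l0, l1, l2, l3⟩ := key (ev (c d))
      have hne : ∀ {a b : Fin 4}, a ≠ b → (ev (c b) : Vec 4 F) (c a) = 0 := fun h => ev_ne (hc.ne h)
      obtain rfl | rfl : d = 2 ∨ d = 3 := by omega
      all_goals fin_cases m <;> simp [l0, l1, l2, l3, ev_self, hne]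
    set t := ap y (ev (c b)) (c a)
    have hz : (2 : F) * t = 0 := by
      rcases hab with ⟨ha, hb⟩ | ⟨ha, hb⟩
      · rw [hfix' hb] at e
        obtain rfl | rfl : a = 0 ∨ a = 1 := by omega
        · rw [k0] at e; linear_combination -e
        · rw [k1] at e; linear_combination -e
      · rw [hfix hb, ← neg_one_smul F, ap_smul] at e
        obtain rfl | rfl : a = 2 ∨ a = 3 := by omega
        · rw [k2] at e; simp at e; linear_combination e
        · rw [k3] at e; simp at e; linear_combination e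
    exact (mul_eq_zero.1 hz).resolve_left h2
  -- a vector through its coordinates
  have hex : ∀ v : Vec 4 F, v = ∑ b, v (c b) • ev (c b) := fun v => funext fun l => by
    obtain ⟨m, rfl⟩ := hsurj l
    simp [Finset.sum_apply, ev, Pi.single_apply, hc.eq_iff]
  have hapy : ∀ v a, ap y v (c a) = ∑ b, v (c b) * ap y (ev (c b)) (c a) := fun v a => by
    conv_lhs => rw [hex v, ap_sum]
    simp [Finset.sum_apply, ap_smul]
  -- one plane
  have plane : ∀ i j k l : Fin 4, i ≠ j → (∀ b, b = i ∨ b = j ∨ b = k ∨ b = l) → k ≠ i → k ≠ j → l ≠ i → l ≠ j → k ≠ l →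
      ap y (ev (c k)) (c i) = 0 → ap y (ev (c l)) (c i) = 0 → ap y (ev (c k)) (c j) = 0 → ap y (ev (c l)) (c j) = 0 →
      ap y (ev (c i)) (c k) = 0 → ap y (ev (c i)) (c l) = 0 → ap y (ev (c j)) (c k) = 0 → ap y (ev (c j)) (c l) = 0 →
      ∃ P : SUn 2 F q, P ^ 3 = 1 ∧ mx P = !![ap y (ev (c i)) (c i), ap y (ev (c j)) (c i);
        ap y (ev (c i)) (c j), ap y (ev (c j)) (c j)] := by
    intro i j k l hij hall hki hkj hli hlj hkl z1 z2 z3 z4 z5 z6 z7 z8
    have hsum : ∀ f : Fin 4 → F, ∑ b, f b = f i + f j + f k + f l := fun f => by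
      rw [show (Finset.univ : Finset (Fin 4)) = {i, j, k, l} from (Finset.eq_univ_of_forall fun b => by
        simpa using hall b).symm]
      simp [hij, hki.symm, hkj.symm, hli.symm, hlj.symm, hkl]
      ring
    set M : Matrix (Fin 2) (Fin 2) F := !![ap y (ev (c i)) (c i), ap y (ev (c j)) (c i);
      ap y (ev (c i)) (c j), ap y (ev (c j)) (c j)]
    have hM : ∀ v, ![ap y v (c i), ap y v (c j)] = M *ᵥ ![v (c i), v (c j)] := fun v => by
      ext m; fin_cases m <;>
        simp [M, hapy v, hsum, z1, z2, z3, z4, mulVec, dotProduct, Fin.sum_univ_two] <;> ring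
    have hM3 : M * (M * M) = 1 := by
      refine Matrix.ext_of_mulVec_single fun m => ?_
      have hw : ∃ w : Vec 4 F, ![w (c i), w (c j)] = Pi.single m 1 := by
        fin_cases m
        · exact ⟨ev (c i), by ext r; fin_cases r <;> simp [ev_self, ev_ne (hc.ne hij.symm)]⟩
        · exact ⟨ev (c j), by ext r; fin_cases r <;> simp [ev_self, ev_ne (hc.ne hij)]⟩
      obtain ⟨w, hw⟩ := hw
      rw [Matrix.one_mulVec, ← mulVec_mulVec, ← mulVec_mulVec, ← hw, ← hM, ← hM, ← hM,
        ← ap_mul, ← ap_mul, ← pow_three', h3, ap_one]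
    have hdet : M.det = 1 := by
      have h := congrArg Matrix.det hM3
      rw [Matrix.det_mul, Matrix.det_mul, Matrix.det_one] at h
      have h' : (M.det - 1) ^ 3 = 0 := by rw [sub_pow_char, one_pow]; linear_combination h
      exact sub_eq_zero.1 (eq_zero_of_pow_eq_zero h')
    refine ⟨⟨⟨M, hdet⟩, fun u v => ?_⟩, Subtype.ext (Subtype.ext ?_), rfl⟩
    · show Cfsg.hermForm 2 F q (M *ᵥ u) (M *ᵥ v) = Cfsg.hermForm 2 F q u v
      rw [hermForm_eq hS, hermForm_eq hS]
      set u' : Vec 4 F := u 0 • ev (c i) + u 1 • ev (c j)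
      set v' : Vec 4 F := v 0 • ev (c i) + v 1 • ev (c j)
      have hu : ![u' (c i), u' (c j)] = u := by
        ext r; fin_cases r <;> simp [u', ev_self, ev_ne (hc.ne hij), ev_ne (hc.ne hij.symm)]
      have hv : ![v' (c i), v' (c j)] = v := by
        ext r; fin_cases r <;> simp [v', ev_self, ev_ne (hc.ne hij), ev_ne (hc.ne hij.symm)]
      have h := ip_ap hS y u' v'
      have hipc : ∀ a b : Vec 4 F, ip σ a b = ∑ t, a (c t) * σ (b (c t)) := fun a b =>
        ((Equiv.ofBijective c ⟨hc, hsurj⟩).sum_comp fun t => a t * σ (b t)).symm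
      rw [hipc, hipc, hsum, hsum] at h
      have hk : ∀ {w : Vec 2 F} {t : Fin 4}, ap y (ev (c i)) (c t) = 0 → ap y (ev (c j)) (c t) = 0 →
          ap y (w 0 • ev (c i) + w 1 • ev (c j)) (c t) = 0 := fun h1 h2 => by
        simp [ap_add, ap_smul, h1, h2]
      rw [hk z5 z7, hk z6 z8] at h
      simp only [u', v', Pi.add_apply, Pi.smul_apply, smul_eq_mul, ev_self, ev_ne (hc.ne hij),
        ev_ne (hc.ne hij.symm), ev_ne (hc.ne hki), ev_ne (hc.ne hkj), ev_ne (hc.ne hli), ev_ne (hc.ne hlj),
        mul_zero, zero_mul, add_zero, zero_add, mul_one] at h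
      rw [← hu, ← hv, ← hM, ← hM]
      simp only [ip, Fin.sum_univ_two]
      simp [u', v', ev_self, ev_ne (hc.ne hij), ev_ne (hc.ne hij.symm)]
      exact h
    · show M ^ 3 = 1
      rw [pow_succ', sq, hM3]
  obtain ⟨P, hP, hPe⟩ := plane 0 1 2 3 (by decide) (by decide) (by decide) (by decide) (by decide) (by decide)
    (by decide) (hcross _ _ (by decide)) (hcross _ _ (by decide)) (hcross _ _ (by decide)) (hcross _ _ (by decide))
    (hcross _ _ (by decide)) (hcross _ _ (by decide)) (hcross _ _ (by decide)) (hcross _ _ (by decide))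
  obtain ⟨Q, hQ, hQe⟩ := plane 2 3 0 1 (by decide) (by decide) (by decide) (by decide) (by decide) (by decide)
    (by decide) (hcross _ _ (by decide)) (hcross _ _ (by decide)) (hcross _ _ (by decide)) (hcross _ _ (by decide))
    (hcross _ _ (by decide)) (hcross _ _ (by decide)) (hcross _ _ (by decide)) (hcross _ _ (by decide))
  refine ⟨(P, Q), ext_ev fun l => ?_, hP, hQ⟩
  obtain ⟨b, rfl⟩ := hsurj l
  funext l
  obtain ⟨a, rfl⟩ := hsurj l
  have kk := fun w => pairHom_entry hS hc (P, Q) w
  have hne : ∀ {a b : Fin 4}, a ≠ b → (ev (c b) : Vec 4 F) (c a) = 0 := fun h => ev_ne (hc.ne h)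
  have h4 : ∀ x : Fin 4, x = 0 ∨ x = 1 ∨ x = 2 ∨ x = 3 := by decide
  rcases h4 a with rfl | rfl | rfl | rfl <;> rcases h4 b with rfl | rfl | rfl | rfl <;>
    simp [(kk _).1, (kk _).2.1, (kk _).2.2.1, (kk _).2.2.2, hPe, hQe, ev_self, hne] <;>
    first
      | exact (hcross 0 2 (by decide)).symm | exact (hcross 0 3 (by decide)).symm
      | exact (hcross 1 2 (by decide)).symm | exact (hcross 1 3 (by decide)).symm
      | exact (hcross 2 0 (by decide)).symm | exact (hcross 2 1 (by decide)).symm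
      | exact (hcross 3 0 (by decide)).symm | exact (hcross 3 1 (by decide)).symm

omit hc in
/-- Two commuting involutions are diagonal in an orthonormal basis. -/
theorem exists_diag [Fact (2 < q)] {N : ℕ} (h2 : (2 : F) ≠ 0) {a b : SUn N F q} (ha : a * a = 1) (hb : b * b = 1)
    (hab : a * b = b * a) : ∃ (h : SUn N F q) (ε δ : Fin N → Bool), ∀ l,
      ap a (ap h (ev l)) = (if ε l then (-1 : F) else 1) • ap h (ev l) ∧
      ap b (ap h (ev l)) = (if δ l then (-1 : F) else 1) • ap h (ev l) := by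
  suffices H : ∀ k, k ≤ N → ∃ (h : SUn N F q) (ε δ : Fin N → Bool), ∀ l : Fin N, (l : ℕ) < k →
      ap a (ap h (ev l)) = (if ε l then (-1 : F) else 1) • ap h (ev l) ∧
      ap b (ap h (ev l)) = (if δ l then (-1 : F) else 1) • ap h (ev l) by
    obtain ⟨h, ε, δ, hh⟩ := H N le_rfl
    exact ⟨h, ε, δ, fun l => hh l l.isLt⟩
  intro k
  induction k with
  | zero => exact fun _ => ⟨1, fun _ => false, fun _ => false, fun l hl => absurd hl (Nat.not_lt_zero _)⟩
  | succ k ih =>
    intro hk
    obtain ⟨h, ε, δ, hh⟩ := ih (by omega)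
    set j : Fin N := ⟨k, by omega⟩
    set A := h⁻¹ * a * h with hA
    set B := h⁻¹ * b * h with hB
    set sg : Bool → F := fun e => if e then -1 else 1
    have sg2 : ∀ e, sg e * sg e = 1 := fun e => by cases e <;> simp [sg]
    have sgσ : ∀ e, σ (sg e) = sg e := fun e => by cases e <;> simp [sg]
    have conj : ∀ g : SUn N F q, ∀ {l : Fin N} {e : F}, ap g (ap h (ev l)) = e • ap h (ev l) →
        ap (h⁻¹ * g * h) (ev l) = e • ev l := fun g l e hge => by
      rw [ap_mul, ap_mul, hge, ap_smul, ap_inv_ap]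
    have inv2 : ∀ g : SUn N F q, g * g = 1 → ∀ x, ap (h⁻¹ * g * h) (ap (h⁻¹ * g * h) x) = x := fun g hg x => by
      rw [← ap_mul, show h⁻¹ * g * h * (h⁻¹ * g * h) = h⁻¹ * (g * g) * h by group, hg, mul_one,
        inv_mul_cancel, ap_one]
    have adj : ∀ g : SUn N F q, g * g = 1 → ∀ x y, ip σ (ap (h⁻¹ * g * h) x) y = ip σ x (ap (h⁻¹ * g * h) y) :=
      fun g hg x y => by
        conv_rhs => rw [← ip_ap hS (h⁻¹ * g * h) x, inv2 g hg]
    have hAB : ∀ x, ap A (ap B x) = ap B (ap A x) := fun x => by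
      rw [← ap_mul, ← ap_mul]
      congr 1
      calc A * B = h⁻¹ * (a * b) * h := by rw [hA, hB]; group
        _ = B * A := by rw [hab, hA, hB]; group
    -- projections of a basis vector
    let v : Bool → Bool → Vec N F := fun e d =>
      ev j + sg e • ap A (ev j) + sg d • ap B (ev j) + (sg e * sg d) • ap A (ap B (ev j))
    obtain ⟨e, d, hed⟩ : ∃ e d, ip σ (v e d) (ev j) ≠ 0 := by
      by_contra hc'
      push Not at hc'
      have e1 := hc' false false
      have e2 := hc' false true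
      have e3 := hc' true false
      have e4 := hc' true true
      simp only [v, sg, ip_add_left, ip_smul_left, ip_ev, ev_self] at e1 e2 e3 e4
      simp [ev_self] at e1 e2 e3 e4
      have h4 : (2 : F) * 2 = 0 := by linear_combination e1 + e2 + e3 + e4
      exact mul_ne_zero h2 h2 h4
    set w := v e d
    have wA : ap A w = sg e • w := by
      simp only [w, v, ap_add, ap_smul, smul_add, smul_smul, inv2 a ha, hA]
      rw [← hA, show sg e * sg d = sg d * sg e by ring]
      have := sg2 e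
      rw [show sg e * (sg d * sg e) = sg d by linear_combination sg d * this, this, one_smul]
      abel
    have wB : ap B w = sg d • w := by
      simp only [w, v, ap_add, ap_smul, smul_add, smul_smul]
      rw [← hAB (ap B (ev j)), show ap B (ap B (ev j)) = ev j from inv2 b hb _, ← hAB (ev j)]
      have := sg2 d
      rw [show sg d * (sg e * sg d) = sg e by linear_combination sg e * this, this, one_smul,
        show sg d * sg e = sg e * sg d by ring]
      abel
    have hsupp : Supp k w := by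
      intro l hl
      obtain ⟨e1, e2⟩ := hh l hl
      have cA : ∀ x, ap A x l = sg (ε l) * x l := fun x => by
        rw [← ip_ev (σ := σ) (ap A x) l, hA, adj a ha, conj a e1, ip_smul_right, ip_ev, sgσ]
      have cB : ∀ x, ap B x l = sg (δ l) * x l := fun x => by
        rw [← ip_ev (σ := σ) (ap B x) l, hB, adj b hb, conj b e2, ip_smul_right, ip_ev, sgσ]
      have hl' : l ≠ j := Fin.ne_of_val_ne (by simp [j]; omega)
      simp [w, v, cA, cB, ev_ne hl']
    have hwn : ip σ w w ≠ 0 := by
      have : ip σ w w = 2 * 2 * ip σ w (ev j) := by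
        conv_lhs => arg 3; simp only [w, v]
        rw [ip_add_right, ip_add_right, ip_add_right, ip_smul_right, ip_smul_right, ip_smul_right, map_mul,
          sgσ, sgσ]
        have hAw : ∀ y, ip σ w (ap A y) = sg e * ip σ w y := fun y => by
          rw [hA, ← adj a ha, ← hA, wA, ip_smul_left]
        have hBw : ∀ y, ip σ w (ap B y) = sg d * ip σ w y := fun y => by
          rw [hB, ← adj b hb, ← hB, wB, ip_smul_left]
        rw [hAw, hAw, hBw]
        linear_combination (ip σ w (ev j)) * sg2 e + (ip σ w (ev j)) * sg2 d + (sg d * sg d * ip σ w (ev j)) * sg2 e +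
          (ip σ w (ev j)) * sg2 d
      rw [this]
      exact mul_ne_zero (mul_ne_zero h2 h2) hed
    obtain ⟨g, hg, t, ht, htn⟩ := exists_axis hS (N - k - 1) j (by simp [j]; omega) w hsupp hwn
    have ht0 : t ≠ 0 := fun e' => hwn (by rw [← htn, e', nn_zero])
    have hgl := gen_le_lowFix _ hg
    refine ⟨h * g⁻¹, update ε j e, update δ j d, fun l hl => ?_⟩
    by_cases hlj : l = j
    · subst hlj
      rw [update_self, update_self]
      have he : ap g⁻¹ (ev j) = t⁻¹ • w := by
        rw [show (ev j : Vec N F) = t⁻¹ • ap g w by rw [ht, smul_smul, inv_mul_cancel₀ ht0, one_smul], ap_smul,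
          ap_inv_ap]
      rw [ap_mul, he]
      have cA : ap a (ap h w) = sg e • ap h w := by
        rw [← ap_smul h, ← wA, hA, ap_mul, ap_mul, ap_ap_inv]
      have cB : ap b (ap h w) = sg d • ap h w := by
        rw [← ap_smul h, ← wB, hB, ap_mul, ap_mul, ap_ap_inv]
      rw [ap_smul, ap_smul, cA, ap_smul, cB]
      exact ⟨smul_comm _ _ _, smul_comm _ _ _⟩
    · have hl' : (l : ℕ) < k := by have := Fin.val_ne_of_ne hlj; simp [j] at this; omega
      rw [update_of_ne hlj, update_of_ne hlj, ap_mul, (show g⁻¹ ∈ lowFix k from inv_mem hgl) l hl']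
      exact hh l hl'

end Cfsg.Agent.Phan
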