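import Cfsg.Agent.Phan.TwoEmb

/-!
Automorphisms of SU₃ over the field with four elements, and the blocks of four coordinates of a weak Phan system.
-/

set_option autoImplicit false
set_option linter.unusedSectionVars false
set_option linter.unusedSimpArgs false

open Matrix Function

namespace Cfsg.Agent.Phan.Two

universe u v

variable {F : Type u} [Field F] [Fintype F] {σ : F →+* F} [CharP F 2] {G : Type v} [Group G]
variable (hS : Fld σ 2)
include hS

omit hS [CharP F 2] in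
theorem exists_lift_hom {X : Type*} [Group X] {Y : Type*} [Group Y] {Φ : X →* G} (hΦ : Injective Φ) (χ : Y →* G)
    (h : χ.range ≤ Φ.range) : ∃ ρ : Y →* X, ∀ y, Φ (ρ y) = χ y :=
  ⟨(MonoidHom.ofInjective hΦ).symm.toMonoidHom.comp (χ.codRestrict Φ.range fun y => h ⟨y, rfl⟩), fun y => by
    have := (MonoidHom.ofInjective hΦ).apply_symm_apply ⟨χ y, h ⟨y, rfl⟩⟩
    exact congrArg Subtype.val this⟩

theorem two_zero_entry (x : SUn 2 F 2) : mx x 0 0 = 0 ∨ mx x 1 0 = 0 := by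
  rcases su_two_cases hS x with h | ⟨h, -⟩
  exacts [Or.inr h, Or.inl h]

/-- The torus and the exchange generate SU₂. -/
theorem gen_two {ω : F} (hω : ω * ω + ω + 1 = 0) (hσω : σ ω = ω * ω) (h : nn σ ω + nn σ (0 : F) = 1)
    {H : Subgroup (SUn 2 F 2)} (hd : mk2 hS ω 0 h ∈ H) (hw : w2 hS ∈ H) : H = ⊤ := by
  have h3 : ω * (ω * ω) = 1 := by rw [nn_zero, add_zero, nn, hσω] at h; exact h
  have hdiag : ∀ x : SUn 2 F 2, mx x 1 0 = 0 → x ∈ H := fun x hx => by
    obtain ⟨h1, hxe⟩ := su_two_form hS x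
    have hr : mx x 0 0 ≠ 0 := fun e => by rw [e, hx, nn_zero, zero_add] at h1; exact zero_ne_one h1
    have hc : mx x 0 0 * (mx x 0 0 * mx x 0 0) = 1 := by
      have := nn_one hS hr
      rw [nn, hS.pow] at this
      linear_combination this
    have : (mx x 0 0 - 1) * ((mx x 0 0 - ω) * (mx x 0 0 - ω * ω)) = 0 := by
      linear_combination hc + (mx x 0 0 - mx x 0 0 ^ 2) * hω + (mx x 0 0 - 1) * h3
    rw [hxe]
    rcases mul_eq_zero.1 this with e | e
    · rw [show mk2 hS (mx x 0 0) (mx x 1 0) h1 = 1 from Subtype.ext (Subtype.ext (by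
        show mx (mk2 hS _ _ h1) = 1
        rw [mx_mk2, sub_eq_zero.1 e, hx]
        ext i j; fin_cases i <;> fin_cases j <;> simp))]
      exact one_mem H
    rcases mul_eq_zero.1 e with e | e
    · rwa [mk2_congr hS (sub_eq_zero.1 e) hx h1 h]
    · rw [show mk2 hS (mx x 0 0) (mx x 1 0) h1 = mk2 hS ω 0 h * mk2 hS ω 0 h from Subtype.ext (Subtype.ext (by
        show mx (mk2 hS _ _ h1) = mx (mk2 hS ω 0 h) * mx (mk2 hS ω 0 h)
        rw [mx_mk2, mx_mk2, sub_eq_zero.1 e, hx]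
        ext i j; fin_cases i <;> fin_cases j <;> simp [Matrix.mul_apply, Fin.sum_univ_two, map_mul]))]
      exact mul_mem hd hd
  refine eq_top_iff.2 fun x _ => ?_
  rcases two_zero_entry hS x with h0 | h0
  · obtain ⟨h1, hxe⟩ := su_two_form hS x
    have e : mx (x * w2 hS) 1 0 = 0 := by
      show (mx x * mx (w2 hS)) 1 0 = 0
      rw [show mx x = !![mx x 0 0, -σ (mx x 1 0); mx x 1 0, σ (mx x 0 0)] from congrArg mx hxe, h0, w2, mx_mk2]
      simp [Matrix.mul_apply, Fin.sum_univ_two]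
    have := mul_mem (hdiag _ e) hw
    rwa [mul_assoc, w2_sq, mul_one] at this
  · exact hdiag x h0

/-- What commutes with the torus of the first plane is diagonal. -/
theorem diag_of_comm {ω : F} (hσω : σ ω = ω * ω) (h : nn σ ω + nn σ (0 : F) = 1) (n1 : ω ≠ 1) (n2 : ω * ω ≠ 1)
    (n3 : ω ≠ ω * ω) {y : SUn 3 F 2} (hy : y * e01 hS (mk2 hS ω 0 h) = e01 hS (mk2 hS ω 0 h) * y) (l : Fin 3) :
    ∃ c : F, ap y (ev l) = c • ev l := by
  refine ⟨ap y (ev l) l, funext fun i => ?_⟩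
  by_cases hil : i = l
  · subst hil; simp [ev_self]
  rw [Pi.smul_apply, ev_ne hil, smul_zero]
  have e := congrArg (fun g => ap g (ev l) i) hy
  simp only [ap_mul, torus01_ev hS hσω, ap_smul, Pi.smul_apply, smul_eq_mul] at e
  have hc : ap (e01 hS (mk2 hS ω 0 h)) (ap y (ev l)) i = (![ω, ω * ω, 1] : Fin 3 → F) i * ap y (ev l) i := by
    rw [e01_ap, mx_mk2]; fin_cases i <;> simp [hσω]
  rw [hc] at e
  refine (mul_eq_zero.1 (show ((![ω, ω * ω, 1] : Fin 3 → F) l - (![ω, ω * ω, 1] : Fin 3 → F) i) * ap y (ev l) i = 0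
    by linear_combination e)).resolve_left (sub_ne_zero.2 fun e' => ?_)
  fin_cases i <;> fin_cases l <;> first
    | exact hil rfl
    | exact n1 e'
    | exact n1 e'.symm
    | exact n2 e'
    | exact n2 e'.symm
    | exact n3 e'
    | exact n3 e'.symm

theorem conj_fix {N : ℕ} {g h : SUn N F 2} {v w : Vec N F} {c : F} (hc : c ≠ 0) (hh : ap h v = c • w)
    (hg : ap g w = w) : ap (h⁻¹ * g * h) v = v := by
  rw [ap_mul, ap_mul, hh, ap_smul, hg, ← hh, ap_inv_ap]

/-- An automorphism of SU₂ preserves the torus, and is given by a field automorphism and a scalar. -/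
theorem exists_form_endo (τ : SUn 2 F 2 →* SUn 2 F 2) (hτ : Injective τ) :
    ∃ (θ : F ≃+* F) (ν : F), nn σ ν = 1 ∧
      ∀ x, mx (τ x) 0 0 = θ (mx x 0 0) ∧ mx (τ x) 1 0 = ν * θ (mx x 1 0) :=
  exists_form hS (MulEquiv.ofBijective τ (Finite.injective_iff_bijective.1 hτ)) fun x hx => by
    refine diag_of_cube hS ?_
    show τ x ^ 3 = 1
    rw [← map_pow, cube_of_diag hS hx, map_one]

/-- An endomorphism maps a plane into the stabiliser of the line fixed by the image of its torus. -/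
theorem plane_fix {ω : F} (hω : ω * ω + ω + 1 = 0) (hσω : σ ω = ω * ω) (hn : nn σ ω + nn σ (0 : F) = 1)
    (α : SUn 3 F 2 →* SUn 3 F 2) (e : SUn 2 F 2 →* SUn 3 F 2) {u : Vec 3 F} (hu : u ≠ 0)
    (hf : ap (α (e (mk2 hS ω 0 hn))) u = u)
    (hl : ∀ v, ap (α (e (mk2 hS ω 0 hn))) v = v → ∃ c : F, v = c • u) (x : SUn 2 F 2) :
    ap (α (e x)) u = u := by
  set t := mk2 hS ω 0 hn
  let H : Subgroup (SUn 2 F 2) :=
    { carrier := {x | ap (α (e x)) u = u}
      one_mem' := by show ap (α (e 1)) u = u; rw [map_one, map_one, ap_one]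
      mul_mem' := fun {a b} ha hb => by
        show ap (α (e (a * b))) u = u
        rw [map_mul, map_mul, ap_mul, hb, ha]
      inv_mem' := fun {a} ha => by
        show ap (α (e a⁻¹)) u = u
        conv_lhs => rw [← (ha : ap (α (e a)) u = u)]
        rw [← ap_mul, ← map_mul, ← map_mul, inv_mul_cancel, map_one, map_one, ap_one] }
  have hw : ap (α (e (w2 hS))) u = u := by
    have e1 : t * (w2 hS * t) = w2 hS := by
      have hn' := hn
      rw [nn_zero, add_zero, nn, hσω] at hn'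
      refine Subtype.ext (Subtype.ext ?_)
      show mx t * (mx (w2 hS) * mx t) = mx (w2 hS)
      simp only [t, w2, mx_mk2]
      ext i j; fin_cases i <;> fin_cases j <;> simp [Matrix.mul_apply, Fin.sum_univ_two, hσω]
      all_goals linear_combination hn'
    have e2 : ap (α (e t)) (ap (α (e (w2 hS))) u) = ap (α (e (w2 hS))) u := by
      conv_rhs => rw [← e1, map_mul, map_mul, map_mul, map_mul, ap_mul, ap_mul, hf]
    obtain ⟨c, hc⟩ := hl _ e2
    have e3 : c * c = 1 := by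
      have h1 := congrArg (ap (α (e (w2 hS)))) hc
      rw [← ap_mul, ← map_mul, ← map_mul, w2_sq, map_one, map_one, ap_one, ap_smul, hc, smul_smul] at h1
      obtain ⟨i, hi⟩ := Function.ne_iff.1 hu
      have h2 := congrFun h1 i
      simp only [Pi.smul_apply, smul_eq_mul] at h2
      exact mul_right_cancel₀ hi (by rw [one_mul]; exact h2.symm)
    have : c = 1 := by
      have : (c - 1) * (c - 1) = 0 := by linear_combination e3 + (1 - c) * two_zero (F := F)
      exact sub_eq_zero.1 (mul_self_eq_zero.1 this)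
    rw [hc, this, one_smul]
  have := gen_two hS hω hσω hn (H := H) hf hw
  exact (this ▸ Subgroup.mem_top x : x ∈ H)

/-- A basis in which the images of the planes are the planes. -/
theorem exists_frame (α : SUn 3 F 2 →* SUn 3 F 2) (hα : Injective α) :
    ∃ h : SUn 3 F 2, (∀ x, h⁻¹ * α (e01 hS x) * h ∈ (e01 hS).range) ∧
      ∀ x, h⁻¹ * α (e12 hS x) * h ∈ (e12 hS).range := by
  obtain ⟨ω, hn, hω, hσω, h3, n1, n2, n3⟩ := exists_torus hS
  obtain ⟨z, hzc, hzv, hdc, -⟩ := exists_z hS hσω hn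
  set t := mk2 hS ω 0 hn
  set A := α (e01 hS t)
  set B := α (e12 hS t)
  have cent : ∀ y, α y ∈ Subgroup.center (SUn 3 F 2) → y ∈ Subgroup.center (SUn 3 F 2) := fun y hy =>
    Subgroup.mem_center_iff.2 fun g => hα (by rw [map_mul, map_mul]; exact Subgroup.mem_center_iff.1 hy _)
  have hA : A ∉ Subgroup.center (SUn 3 F 2) := fun hc => by
    have h1 := eq_one_of_fix hS (cent _ hc) (ev_ne_zero 2) (by rw [torus01_ev hS hσω]; simp)
    have h2 := congrFun (torus01_ev hS hσω hn 0) 0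
    rw [h1, ap_one] at h2
    simp [ev_self] at h2
    exact n1 h2.symm
  have hB : B ∉ Subgroup.center (SUn 3 F 2) := fun hc => by
    have h1 := eq_one_of_fix hS (cent _ hc) (ev_ne_zero 0) (by rw [torus_ev hS hσω]; simp)
    have h2 := congrFun (torus_ev hS hσω hn 1) 1
    rw [h1, ap_one] at h2
    simp [ev_self] at h2
    exact n1 h2.symm
  obtain ⟨u2, u2n, u2f, u2l⟩ := exists_line hS (A := A) (by rw [← map_pow, ← map_pow, torus_cube hS, map_one, map_one]) hA
  obtain ⟨u0, u0n, u0f, u0l⟩ := exists_line hS (A := B) (by rw [← map_pow, ← map_pow, torus_cube hS, map_one, map_one]) hB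
  have hu0 : u0 ≠ 0 := fun e => by simp [e, ip] at u0n
  have hu2 : u2 ≠ 0 := fun e => by simp [e, ip] at u2n
  have p01 := plane_fix hS hω hσω hn α (e01 hS) hu2 u2f u2l
  have p12 := plane_fix hS hω hσω hn α (e12 hS) hu0 u0f u0l
  have horth : ip σ u0 u2 = 0 := by
    have hAB : A * B = B * A := by
      show α _ * α _ = α _ * α _
      rw [← map_mul, ← map_mul]
      congr 1
      refine ext_ev fun l => ?_
      rw [ap_mul, ap_mul, torus01_ev hS hσω, torus_ev hS hσω, ap_smul, ap_smul, torus01_ev hS hσω,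
        torus_ev hS hσω, smul_smul, smul_smul, mul_comm]
    obtain ⟨γ, hγ⟩ := u0l _ (show ap B (ap A u0) = ap A u0 by rw [← ap_mul, ← hAB, ap_mul, u0f])
    have e := ip_ap hS A u0 u2
    rw [hγ, u2f, ip_smul_left] at e
    by_cases hγ1 : γ = 1
    · exfalso
      obtain ⟨c, hc⟩ := u2l u0 (by rw [hγ, hγ1, one_smul])
      have hc0 : c ≠ 0 := fun e0 => hu0 (by rw [hc, e0, zero_smul])
      have hB2 : ∀ x, ap (α (e12 hS x)) u2 = u2 := fun x => by
        have := p12 x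
        rw [hc, ap_smul] at this
        exact smul_right_injective _ hc0 this
      have hcyc : ap (α (cyc hS)) u2 = u2 := by
        rw [cyc, ← e01_w, ← e12_w, map_mul, ap_mul, hB2, p01]
      have hz : ap (α z) u2 = u2 := by
        have := congrArg (fun g => ap (α g) u2) hdc
        simp only [map_mul, ap_mul, hcyc, hB2] at this
        have k : ap (α (cyc hS * e12 hS t)) (ap (α z) u2) = ap (α (cyc hS * e12 hS t)) u2 := by
          rw [map_mul, ap_mul, ap_mul, ← this, hB2, hcyc]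
        have := congrArg (ap (α (cyc hS * e12 hS t))⁻¹) k
        rwa [ap_inv_ap, ap_inv_ap] at this
      have hzc' : α z ∈ Subgroup.center (SUn 3 F 2) := Subgroup.mem_center_iff.2 fun g => by
        obtain ⟨y, rfl⟩ := (Finite.injective_iff_surjective.1 hα) g
        rw [← map_mul, ← map_mul, Subgroup.mem_center_iff.1 hzc]
      have hz1 : z = 1 := hα (by rw [eq_one_of_fix hS hzc' hu2 hz, map_one])
      have := hzv (ev 0)
      rw [hz1, ap_one] at this
      have h0 := congrFun this 0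
      simp [ev_self] at h0
      exact n1 h0.symm
    · exact (mul_eq_zero.1 (show (γ - 1) * ip σ u0 u2 = 0 by linear_combination e)).resolve_left (sub_ne_zero.2 hγ1)
  -- a basis on the two lines
  obtain ⟨g, -, hg⟩ := exists_map hS 0 (le_refl 3) (fun l hl => absurd hl (Nat.not_lt_zero _)) u0n
  rw [show (⟨0, by norm_num⟩ : Fin 3) = 0 from rfl] at hg
  obtain ⟨h, h0, c, hc, h2⟩ : ∃ h : SUn 3 F 2, ap h (ev 0) = u0 ∧ ∃ c : F, c ≠ 0 ∧ ap h (ev 2) = c • u2 := by
    set x := ap g⁻¹ u2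
    have hx0 : x 0 = 0 := by
      rw [← ip_ev (σ := σ) x 0, ← ip_ap hS g, ap_ap_inv, hg]
      exact ip_zero_symm hS horth
    have hx1 : nn σ (x 1) + nn σ (x 2) = 1 := by
      have : ip σ x x = 1 := by rw [ip_ap hS, u2n]
      rwa [ip_self, Fin.sum_univ_three, hx0, nn_zero, zero_add] at this
    have gx : ∀ j, (∀ i, i ≠ j → x i = 0) → x j ≠ 0 ∧ ap g (ev j) = (x j)⁻¹ • u2 := fun j hj => by
      have hxe : x = x j • ev j := funext fun i => by
        by_cases hij : i = j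
        · subst hij; simp [ev_self]
        · simp [hj i hij, ev_ne hij]
      have hne : x j ≠ 0 := fun e0 => hu2 (by
        rw [← ap_ap_inv g u2, show ap g⁻¹ u2 = x from rfl, hxe, e0, zero_smul, ap_zero])
      have := congrArg (ap g) hxe
      rw [ap_ap_inv, ap_smul] at this
      exact ⟨hne, by rw [this, smul_smul, inv_mul_cancel₀ hne, one_smul]⟩
    by_cases h2 : x 2 = 0
    · obtain ⟨hne, he⟩ := gx 1 fun i hi => by fin_cases i; exacts [hx0, absurd rfl hi, h2]
      refine ⟨g * sw hS (show (1 : Fin 3) ≠ 2 by decide), ?_, _, inv_ne_zero hne, ?_⟩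
      · rw [ap_mul, sw_ne hS _ (by decide) (by decide), hg]
      · rw [ap_mul, sw_snd hS, he]
    · have h1 : x 1 = 0 := by
        by_contra h1
        rw [nn_one hS h1, nn_one hS h2] at hx1
        exact one_ne_zero (by linear_combination hx1 : (1 : F) = 0)
      obtain ⟨hne, he⟩ := gx 2 fun i hi => by fin_cases i; exacts [hx0, h1, absurd rfl hi]
      exact ⟨g, hg, _, inv_ne_zero hne, he⟩
  exact ⟨h, fun x => mem_e01 hS (conj_fix hS hc h2 (p01 x)),
    fun x => mem_e12 hS (conj_fix hS one_ne_zero (by rw [one_smul]; exact h0) (p12 x))⟩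

/-- The automorphisms of SU₃. -/
theorem exists_aut (α : SUn 3 F 2 →* SUn 3 F 2) (hα : Injective α) :
    ∃ (h : SUn 3 F 2) (d : Fin 3 → Fˣ) (hd : ∀ i, (d i : F) * σ (d i) = 1) (θ : F ≃+* F),
      ∀ x, α x = h * Gam hS hd θ x * h⁻¹ := by
  obtain ⟨ω, hn, hω, hσω, h3, n1, n2, n3⟩ := exists_torus hS
  obtain ⟨h, c01, c12⟩ := exists_frame hS α hα
  let β : SUn 3 F 2 →* SUn 3 F 2 := (MulAut.conj h⁻¹).toMonoidHom.comp α
  have hβ : ∀ x, β x = h⁻¹ * α x * h := fun x => by simp [β]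
  have b01 : ∀ x, β (e01 hS x) ∈ (e01 hS).range := fun x => by rw [hβ]; exact c01 x
  have b12 : ∀ x, β (e12 hS x) ∈ (e12 hS).range := fun x => by rw [hβ]; exact c12 x
  have hβi : Injective β := (MulAut.conj h⁻¹).injective.comp hα
  have i01 : Injective (e01 hS) := emb_injective hS _ _
  have i12 : Injective (e12 hS) := emb_injective hS _ _
  obtain ⟨τ0, hτ0⟩ := exists_lift_hom i01 (β.comp (e01 hS)) (by rintro _ ⟨x, rfl⟩; exact b01 x)
  obtain ⟨τ1, hτ1⟩ := exists_lift_hom i12 (β.comp (e12 hS)) (by rintro _ ⟨x, rfl⟩; exact b12 x)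
  obtain ⟨θ, ν0, hν0, f0⟩ := exists_form_endo hS τ0 fun x y e => i01 (hβi (by
    show (β.comp (e01 hS)) x = (β.comp (e01 hS)) y
    rw [← hτ0, ← hτ0, e]))
  obtain ⟨θ1, ν1, hν1, f1⟩ := exists_form_endo hS τ1 fun x y e => i12 (hβi (by
    show (β.comp (e12 hS)) x = (β.comp (e12 hS)) y
    rw [← hτ1, ← hτ1, e]))
  have hθ : θ1 = θ := by
    refine field_ext hS hω ?_
    have hw : nn σ (0 : F) + nn σ (1 : F) = 1 := by simp [nn]
    have hw' : nn σ (0 : F) + nn σ (ω * 1) = 1 := by rw [nn_zero, zero_add, mul_one]; rwa [nn_zero, add_zero] at hn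
    have e := congrArg β (e01_conj hS ω hn 0 1 hw hw')
    simp only [map_mul] at e
    rw [show β (e01 hS (mk2 hS ω 0 hn)) = e01 hS (τ0 (mk2 hS ω 0 hn)) from (hτ0 _).symm,
      show β (e12 hS (mk2 hS 0 1 hw)) = e12 hS (τ1 (mk2 hS 0 1 hw)) from (hτ1 _).symm,
      show β (e12 hS (mk2 hS 0 (ω * 1) hw')) = e12 hS (τ1 (mk2 hS 0 (ω * 1) hw')) from (hτ1 _).symm] at e
    have k := congrArg (fun g => ap g (ev 1) 2) e
    obtain ⟨q1, hq1⟩ := su_two_form hS (τ0 (mk2 hS ω 0 hn))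
    obtain ⟨q2, hq2⟩ := su_two_form hS (τ1 (mk2 hS 0 1 hw))
    obtain ⟨q3, hq3⟩ := su_two_form hS (τ1 (mk2 hS 0 (ω * 1) hw'))
    have a1 := f0 (mk2 hS ω 0 hn)
    have a2 := f1 (mk2 hS 0 1 hw)
    have a3 := f1 (mk2 hS 0 (ω * 1) hw')
    rw [hq1, hq2, hq3] at k
    simp only [ap_mul, e01_ap, e12_ap, mx_mk2, a1, a2, a3] at k
    simp [ev, map_mul] at k
    have hν : ν1 ≠ 0 := fun e0 => by rw [e0, nn_zero] at hν1; exact zero_ne_one hν1
    have hθσ : ∀ a, θ (σ a) = σ (θ a) := fun a => by rw [hS.pow, hS.pow, map_pow]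
    have hnθ := nn_one hS (x := θ ω) fun e0 => by
      rw [(map_eq_zero θ).1 e0, zero_mul] at h3; exact zero_ne_one h3
    unfold nn at hnθ
    refine mul_left_cancel₀ hν ?_
    linear_combination (norm := ring_nf) -(θ ω) * k - (ν1 * θ1 ω - ν1 * θ ω) * 0
    linear_combination -(θ1 ω * ν1) * hnθ
  rw [hθ] at f1
  have hne : ∀ {ν : F}, nn σ ν = 1 → ν ≠ 0 := fun hν e0 => by rw [e0, nn_zero] at hν; exact zero_ne_one hν
  let d : Fin 3 → Fˣ := ![1, Units.mk0 ν0 (hne hν0), Units.mk0 ν0 (hne hν0) * Units.mk0 ν1 (hne hν1)]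
  have hd : ∀ i, (d i : F) * σ (d i) = 1 := fun i => by
    fin_cases i <;> simp [d] <;> first | exact hν0 | (rw [← hν0]; unfold nn at hν1; rw [nn]; linear_combination ν0 * σ ν0 * hν1)
  refine ⟨h, d, hd, θ, fun x => ?_⟩
  set Γ := Gam hS hd θ

  have blockeq : ∀ (τ : SUn 2 F 2 →* SUn 2 F 2) (ν : F) (d' : Fin 2 → Fˣ) (hd' : ∀ i, (d' i : F) * σ (d' i) = 1),
      (∀ x, mx (τ x) 0 0 = θ (mx x 0 0) ∧ mx (τ x) 1 0 = ν * θ (mx x 1 0)) → (d' 1 : F) = ν * d' 0 →
      ∀ x, Gam hS hd' θ x = τ x := fun τ ν d' hd' hf hd1 x => by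
    obtain ⟨h1, e1⟩ := su_two_form hS (Gam hS hd' θ x)
    obtain ⟨h2, e2⟩ := su_two_form hS (τ x)
    refine e1.trans ((mk2_congr hS ?_ ?_ h1 h2).trans e2.symm)
    · rw [Gam_mx hS, (hf x).1, mul_comm (d' 0 : F), mul_assoc, mul_inv_cancel₀ (d' 0).ne_zero, mul_one]
    · rw [Gam_mx hS, (hf x).2, hd1]
      field_simp [(d' 0).ne_zero]
  have hr := rigid hS (β.comp Γ.symm.toMonoidHom) ?_ ?_ (Γ x)
  · simp only [MonoidHom.comp_apply, MulEquiv.coe_toMonoidHom, MulEquiv.symm_apply_apply, hβ] at hr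
    rw [← hr]; group
  · intro y
    obtain ⟨y', rfl⟩ := (Gam hS (d := ![d 0, d 1]) (Fin.forall_fin_two.2 ⟨hd 0, hd 1⟩) θ).surjective y
    show β (Γ.symm (e01 hS _)) = _
    rw [← Gam_e01 hS hd θ, MulEquiv.symm_apply_apply, Gam_e01 hS hd θ,
      blockeq τ0 ν0 _ _ f0 (by simp [d]), hτ0]
    rfl
  · intro y
    obtain ⟨y', rfl⟩ := (Gam hS (d := ![d 1, d 2]) (Fin.forall_fin_two.2 ⟨hd 1, hd 2⟩) θ).surjective y
    show β (Γ.symm (e12 hS _)) = _
    rw [← Gam_e12 hS hd θ, MulEquiv.symm_apply_apply, Gam_e12 hS hd θ,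
      blockeq τ1 ν1 _ _ f1 (by simp [d, mul_comm]), hτ1]
    rfl

/-- SU₄ is simple. -/
theorem simple_four : IsSimpleGroup (SUn 4 F 2) := by
  have hq : Fintype.card F = 2 ^ 2 := by
    rw [← Nat.card_eq_fintype_card, Classical.Herm.card_eq_fix_sq hS.invol, hS.card_fix]
  have := Classical.isSimpleGroup_psu hq 4 (by norm_num) (by omega)
  have hb : Subgroup.center (SUn 4 F 2) = ⊥ := (Subgroup.eq_bot_iff_forall _).2 fun g hg => by
    obtain ⟨a, ha⟩ := Classical.center_SU_scalar hS.invol hS.pow hS.card_fix (by norm_num) hg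
    have hdet : a ^ 4 = 1 := by
      have := g.1.2
      rw [show g.1.1 = _ from ha, Matrix.scalar_apply, Matrix.det_diagonal, Finset.prod_const,
        Finset.card_univ, Fintype.card_fin] at this
      exact this
    have ha0 : a ≠ 0 := fun e => by simp [e] at hdet
    have := nn_one hS ha0
    rw [nn, hS.pow] at this
    have a1 : a = 1 := by linear_combination hdet - a * this
    refine Subtype.ext (Subtype.ext ?_)
    show mx g = 1
    rw [show mx g = _ from ha, a1, map_one]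
  exact (QuotientGroup.quotientBot.symm.trans (QuotientGroup.quotientMulEquivOfEq hb.symm)).isSimpleGroup

theorem tri_zero_injective {N : ℕ} (h : 0 + 3 ≤ N) : Injective (tri hS 0 h : SUn 3 F 2 →* SUn N F 2) :=
  emb_injective hS _ _

/-- The block of four coordinates. -/
theorem exists_block {A B C : Subgroup G} {χ χ' : SUn 3 F 2 →* G} {g : SUn 4 F 2 →* G} (hχ : Pair hS χ A B)
    (hχ' : Pair hS χ' B C) (hle : χ.range ≤ g.range) (hle' : χ'.range ≤ g.range)
    (hAC : ∀ a ∈ A, ∀ c ∈ C, a * c = c * a) :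
    ∃ (χ'' : SUn 3 F 2 →* G) (Φ : SUn 4 F 2 →* G), Pair hS χ'' B C ∧ χ''.range = χ'.range ∧
      (∀ x, Φ (tri hS 0 (by norm_num) x) = χ x) ∧ ∀ x, Φ (tail hS x) = χ'' x := by
  obtain ⟨ω, hn, hω, hσω, h3, n1, n2, n3⟩ := exists_torus hS
  set t := mk2 hS ω 0 hn
  have hgi : Injective g := by
    have := simple_four hS
    rw [← MonoidHom.ker_eq_bot_iff]
    refine (g.normal_ker.eq_bot_or_eq_top).resolve_right fun htop => ?_
    obtain ⟨y, hy⟩ := hle ⟨e01 hS t, rfl⟩
    rw [(MonoidHom.mem_ker.1 (htop ▸ Subgroup.mem_top y : y ∈ g.ker))] at hy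
    have ht : t = 1 := hχ.injL (by rw [MonoidHom.comp_apply, ← hy, map_one])
    have := congrFun (congrFun (congrArg mx ht) 0) 0
    exact n1 (by simpa [t, mx_mk2, mx] using this)
  obtain ⟨ρ, hρ⟩ := exists_lift_hom hgi χ hle
  obtain ⟨hρi, f, hf, hfix⟩ := exists_fixed hS ρ fun x hx => hχ.ker (by
    rw [MonoidHom.mem_ker, ← hρ, MonoidHom.mem_ker.1 hx, map_one])
  obtain ⟨g0, -, hg0⟩ := exists_map hS 0 (show 0 + 3 ≤ 4 by norm_num) (fun l hl => absurd hl (Nat.not_lt_zero _)) hf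
  set g1 := g0 * sw hS (show (0 : Fin 4) ≠ 3 by decide)
  have hg1 : ap g1 (ev 3) = f := by rw [ap_mul, sw_snd hS]; exact hg0
  have hmem : ∀ y : SUn 4 F 2, ap y (ev 3) = ev 3 → y ∈ (tri hS 0 (show 0 + 3 ≤ 4 by norm_num)).range := fun y hy => by
    rw [tri, range_emb]
    intro l hl
    have : l = 3 := by
      by_contra hne
      exact hl ⟨⟨l, by have := Fin.val_ne_of_ne hne; simp at this; omega⟩, Fin.ext (Nat.zero_add _)⟩
    rw [this]; exact hy
  obtain ⟨α, hα⟩ := exists_lift_hom (tri_zero_injective hS (show 0 + 3 ≤ 4 by norm_num))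
    ((MulAut.conj g1⁻¹).toMonoidHom.comp ρ) (by
      rintro _ ⟨x, rfl⟩
      refine hmem _ ?_
      simp only [MonoidHom.comp_apply, MulEquiv.coe_toMonoidHom, MulAut.conj_apply, inv_inv]
      exact conj_fix hS one_ne_zero (by rw [one_smul]; exact hg1) (hfix x))
  obtain ⟨h, d, hd, θ, haut⟩ := exists_aut hS α fun x y e => hρi ((MulAut.conj g1⁻¹).injective (by
    have := congrArg (tri hS 0 (show 0 + 3 ≤ 4 by norm_num)) e
    rwa [hα, hα] at this))
  let d4 : Fin 4 → Fˣ := ![d 0, d 1, d 2, 1]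
  have hd4 : ∀ i, (d4 i : F) * σ (d4 i) = 1 := fun i => by fin_cases i <;> simp [d4] <;> exact hd _
  set k := g1 * tri hS 0 (show 0 + 3 ≤ 4 by norm_num) h
  let Φ : SUn 4 F 2 →* G := g.comp ((MulAut.conj k).toMonoidHom.comp (Gam hS hd4 θ).toMonoidHom)
  have hΦi : Injective Φ := hgi.comp ((MulAut.conj k).injective.comp (Gam hS hd4 θ).injective)
  have hΦr : Φ.range = g.range := by
    refine le_antisymm (by rintro _ ⟨x, rfl⟩; exact ⟨_, rfl⟩) ?_
    rintro _ ⟨y, rfl⟩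
    obtain ⟨a, ha⟩ := (MulAut.conj k).surjective y
    obtain ⟨b, rfl⟩ := (Gam hS hd4 θ).surjective a
    exact ⟨b, congrArg g ha⟩
  have hΦ0 : ∀ x, Φ (tri hS 0 (by norm_num) x) = χ x := fun x => by
    rw [← hρ x]
    show g (k * Gam hS hd4 θ (tri hS 0 _ x) * k⁻¹) = g (ρ x)
    congr 1
    rw [show Gam hS hd4 θ (tri hS 0 (show 0 + 3 ≤ 4 by norm_num) x) =
      tri hS 0 (show 0 + 3 ≤ 4 by norm_num) (Gam hS hd θ x) from
        Gam_emb hS _ hd4 hd θ (fun a b => by fin_cases a <;> fin_cases b <;> rfl) x]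
    have e : tri hS 0 (show 0 + 3 ≤ 4 by norm_num) (α x) = g1⁻¹ * ρ x * g1 := by rw [hα]; simp
    rw [haut, map_mul, map_mul, map_inv] at e
    simp only [k, _root_.mul_inv_rev]
    calc _ = g1 * (g1⁻¹ * ρ x * g1) * g1⁻¹ := by rw [← e]; group
      _ = ρ x := by group
  obtain ⟨ρ', hρ'⟩ := exists_lift_hom hΦi χ' (hΦr ▸ hle')
  obtain ⟨hρ'i, f', hf', hfix'⟩ := exists_fixed hS ρ' fun x hx => hχ'.ker (by
    rw [MonoidHom.mem_ker, ← hρ', MonoidHom.mem_ker.1 hx, map_one])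
  -- the common plane
  have hmid : ∀ x, ∃ x', ρ' (e01 hS x') = tri hS 0 (by norm_num) (e12 hS x) := fun x => by
    obtain ⟨x', hx'⟩ : χ (e12 hS x) ∈ (χ'.comp (e01 hS)).range := by rw [hχ'.left, ← hχ.right]; exact ⟨x, rfl⟩
    exact ⟨x', hΦi (by rw [hρ', hΦ0]; exact hx')⟩
  have hz : f' 1 = 0 ∧ f' 2 = 0 := by
    obtain ⟨x', hx'⟩ := hmid t
    have hT := hfix' (e01 hS x')
    rw [hx'] at hT
    have hc : ∀ a : Fin 3, ap (tri hS 0 (show 0 + 3 ≤ 4 by norm_num) (e12 hS t)) f' ⟨0 + (a : ℕ), by omega⟩ =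
        (![1, ω, ω * ω] : Fin 3 → F) a * f' ⟨0 + (a : ℕ), by omega⟩ := fun a => by
      rw [tri, emb_c hS _ _ _ _ a, e12_ap]
      simp only [t, mx_mk2]
      fin_cases a <;> simp [hσω]
    have k1 := hc 1
    have k2 := hc 2
    rw [hT] at k1 k2
    simp at k1 k2
    refine ⟨?_, ?_⟩
    · exact (mul_eq_zero.1 (show (ω - 1) * f' 1 = 0 by linear_combination -k1)).resolve_left (sub_ne_zero.2 n1)
    · exact (mul_eq_zero.1 (show (ω * ω - 1) * f' 2 = 0 by linear_combination -k2)).resolve_left (sub_ne_zero.2 n2)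
  have hU : ∀ x, ∃ c ∈ C, Φ (ρ' (e12 hS x)) = c := fun x =>
    ⟨_, hχ'.right ▸ ⟨x, rfl⟩, hρ' _⟩
  have hcomA : ∀ x y, ρ' (e12 hS x) * tri hS 0 (by norm_num) (e01 hS y) =
      tri hS 0 (by norm_num) (e01 hS y) * ρ' (e12 hS x) := fun x y => hΦi (by
    obtain ⟨c, hc, e⟩ := hU x
    rw [map_mul, map_mul, e, hΦ0]
    exact (hAC _ (hχ.left ▸ ⟨y, rfl⟩) c hc).symm)
  have hsum : nn σ (f' 0) + nn σ (f' 3) = 1 := by
    rw [ip_self, Fin.sum_univ_four, hz.1, hz.2, nn_zero, add_zero, add_zero] at hf'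
    exact hf'
  have h30 : f' 3 = 0 := by
    by_contra h3'
    have h0' : f' 0 = 0 := by
      by_contra h0'
      rw [nn_one hS h0', nn_one hS h3'] at hsum
      exact one_ne_zero (by linear_combination hsum : (1 : F) = 0)
    have hev : ∀ x, ap (ρ' x) (ev 3) = ev 3 := fun x => by
      have : f' = f' 3 • ev 3 := funext fun i => by
        fin_cases i <;> simp [ev, Pi.single_apply, h0', hz.1, hz.2]
      have e := hfix' x
      rw [this, ap_smul] at e
      exact smul_right_injective _ h3' e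
    obtain ⟨δ, hδ⟩ := exists_lift_hom (tri_zero_injective hS (show 0 + 3 ≤ 4 by norm_num)) ρ'
      (by rintro _ ⟨x, rfl⟩; exact hmem _ (hev x))
    have hcom : ∀ x, δ (e12 hS x) * e01 hS t = e01 hS t * δ (e12 hS x) := fun x =>
      tri_zero_injective hS (show 0 + 3 ≤ 4 by norm_num) (by rw [map_mul, map_mul, hδ]; exact hcomA x t)
    have hab : δ (e12 hS t) * δ (e12 hS (w2 hS)) = δ (e12 hS (w2 hS)) * δ (e12 hS t) := ext_ev fun l => by
      obtain ⟨c1, hc1⟩ := diag_of_comm hS hσω hn n1 n2 n3 (hcom t) l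
      obtain ⟨c2, hc2⟩ := diag_of_comm hS hσω hn n1 n2 n3 (hcom (w2 hS)) l
      rw [ap_mul, ap_mul, hc1, hc2, ap_smul, ap_smul, hc1, hc2, smul_smul, smul_smul, mul_comm]
    rw [← map_mul, ← map_mul, ← map_mul, ← map_mul] at hab
    have e1 : t * w2 hS = w2 hS * t := hχ'.injR (by
      show χ' _ = χ' _
      rw [← hρ', ← hρ', ← hδ, ← hδ, hab])
    have e2 := congrFun (congrFun (congrArg mx e1) 1) 0
    change (mx t * mx (w2 hS)) 1 0 = (mx (w2 hS) * mx t) 1 0 at e2
    simp [t, w2, mx_mk2, Matrix.mul_apply, Fin.sum_univ_two, hσω] at e2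
    exact n3 e2.symm
  have hev0 : ∀ x, ap (ρ' x) (ev 0) = ev 0 := fun x => by
    have h0' : f' 0 ≠ 0 := fun e0 => by rw [e0, h30, nn_zero, add_zero] at hsum; exact zero_ne_one hsum
    have : f' = f' 0 • ev 0 := funext fun i => by
      fin_cases i <;> simp [ev, Pi.single_apply, h30, hz.1, hz.2]
    have e := hfix' x
    rw [this, ap_smul] at e
    exact smul_right_injective _ h0' e
  obtain ⟨δ, hδ⟩ := exists_lift_hom (emb_injective hS (Fin.succ : Fin 3 → Fin 4) (succ_injective hS)) ρ'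
    (by rintro _ ⟨x, rfl⟩; exact mem_tail hS (hev0 x))
  have hδ' : ∀ x, tail hS (δ x) = ρ' x := hδ
  have hδi : Injective δ := fun x y e => hρ'i (by rw [← hδ', ← hδ', e])
  let χ'' : SUn 3 F 2 →* G := Φ.comp (tail hS)
  have hχδ : ∀ x, χ'' (δ x) = χ' x := fun x => by
    show Φ (tail hS (δ x)) = _
    rw [hδ', hρ']
  have hinj : Injective χ'' := hΦi.comp (emb_injective hS _ _)
  have htl : ∀ x, tail hS (e01 hS x) = tri hS 0 (show 0 + 3 ≤ 4 by norm_num) (e12 hS x) := fun x => by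
    simp only [tail, tri, e01, e12, emb_comp]
    congr 2
    funext a; fin_cases a <;> simp [Fin.ext_iff]
  have hrt : ∀ x, δ (e12 hS x) ∈ (e12 hS).range := fun x => by
    refine mem_e12 hS (fix_of_tail hS ?_)
    rw [hδ']
    show ap (ρ' (e12 hS x)) (ev 1) = ev 1
    have hc := hcomA x (w2 hS)
    rw [e01_w, sw_tri hS (by norm_num)] at hc
    have e := congrArg (fun g => ap g (ev 0)) hc
    have s0 := sw_fst hS (show (⟨0, by norm_num⟩ : Fin 4) ≠ ⟨1, by norm_num⟩ by simp)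
    simp only [ap_mul, hev0] at e
    rw [show (ev 0 : Vec 4 F) = ev (⟨0, by norm_num⟩ : Fin 4) from rfl, s0] at e
    exact e
  obtain ⟨τ, hτ⟩ := exists_lift_hom (emb_injective hS _ (injective12 hS)) (δ.comp (e12 hS))
    (by rintro _ ⟨x, rfl⟩; exact hrt x)
  have hτs : Surjective τ := Finite.injective_iff_surjective.1 fun x y e => by
    refine emb_injective hS _ (injective12 hS) (hδi ?_)
    show (δ.comp (e12 hS)) x = (δ.comp (e12 hS)) y
    rw [← hτ, ← hτ, e]
  refine ⟨χ'', Φ, ⟨?_, ?_, hinj.comp (emb_injective hS _ _), hinj.comp (emb_injective hS _ _), fun x hx => ?_⟩,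
    ?_, hΦ0, fun x => rfl⟩
  · rw [← hχ.right]
    refine le_antisymm ?_ ?_
    · rintro _ ⟨x, rfl⟩
      exact ⟨x, ((congrArg Φ (htl x)).trans (hΦ0 _)).symm⟩
    · rintro _ ⟨x, rfl⟩
      exact ⟨x, (congrArg Φ (htl x)).trans (hΦ0 _)⟩
  · rw [← hχ'.right]
    refine le_antisymm ?_ ?_
    · rintro _ ⟨y, rfl⟩
      obtain ⟨x, rfl⟩ := hτs y
      refine ⟨x, ?_⟩
      show χ' (e12 hS x) = χ'' (e12 hS (τ x))
      rw [← hχδ]
      exact congrArg χ'' (hτ x).symm
    · rintro _ ⟨x, rfl⟩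
      refine ⟨τ x, ?_⟩
      show χ'' (e12 hS (τ x)) = χ' (e12 hS x)
      rw [← hχδ]
      exact congrArg χ'' (hτ x)
  · rw [show x = 1 from hinj (by rw [MonoidHom.mem_ker.1 hx, map_one])]
    exact one_mem _
  · refine le_antisymm ?_ ?_
    · rintro _ ⟨y, rfl⟩
      obtain ⟨x, rfl⟩ := Finite.injective_iff_surjective.1 hδi y
      exact ⟨x, (hχδ x).symm⟩
    · rintro _ ⟨x, rfl⟩
      exact ⟨δ x, hχδ x⟩

end Cfsg.Agent.Phan.Two
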