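import Cfsg.Agent.Phan.TwoSpace

/-!
Gluing a group over four coordinates to one over the coordinates after the first: the graph of unit vectors
with orthogonality as adjacency has no proper covering by cosets.
-/

set_option autoImplicit false
set_option linter.unusedSectionVars false
set_option linter.unusedSimpArgs false

open Matrix Function

namespace Cfsg.Agent.Phan.Two

universe u v

variable {F : Type u} [Field F] [Fintype F] {σ : F →+* F} [CharP F 2] {G : Type v} [Group G]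
variable (hS : Fld σ 2)
include hS

theorem sw_emb {N m : ℕ} {c : Fin m → Fin N} (hc : Injective c) {i j : Fin m} (hij : i ≠ j) :
    emb hS c hc (sw hS hij) = sw hS (hc.ne hij) := by
  simp only [sw, turn, pairEl, emb_comp]
  congr 2
  funext a; fin_cases a <;> rfl

theorem emb_vec {N m : ℕ} {c : Fin m → Fin N} (hc : Injective c) (h : SUn m F 2) (a : Fin m) :
    ap (emb hS c hc h) (ev (c a)) = ∑ b, ap h (ev a) b • ev (c b) := by
  funext i
  by_cases hi : i ∈ Set.range c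
  · obtain ⟨b, rfl⟩ := hi
    rw [emb_c, ev_comp c hc]
    simp [Finset.sum_apply, ev, Pi.single_apply, hc.eq_iff]
  · rw [emb_ne hS c hc h _ hi, ev_ne fun e => hi ⟨a, e.symm⟩, Finset.sum_apply, Finset.sum_eq_zero]
    intro b _
    rw [Pi.smul_apply, ev_ne fun e => hi ⟨b, e.symm⟩, smul_zero]

theorem emb_ev_map {N m : ℕ} {c : Fin m → Fin N} (hc : Injective c) {h : SUn m F 2} {a b : Fin m}
    (he : ap h (ev a) = ev b) : ap (emb hS c hc h) (ev (c a)) = ev (c b) := by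
  rw [emb_vec hS hc, he, Finset.sum_eq_single b (fun d _ hd => by rw [ev_ne hd, zero_smul]) (by simp), ev_self,
    one_smul]

theorem first_injective {N : ℕ} (h : 4 ≤ N + 1) : Injective (Fin.castLE h : Fin 4 → Fin (N + 1)) :=
  Fin.castLE_injective h

/-- The data to be glued. -/
structure Glue {N : ℕ} (F0 : SUn N F 2 →* G) (Φ : SUn 4 F 2 →* G) : Prop where
  four : 4 ≤ N
  agree : ∀ (h : 0 + 3 ≤ N) x, F0 (tri hS 0 h x) = Φ (tail hS x)
  comm : ∀ (h0 : 0 < N) h, ap h (ev ⟨0, h0⟩) = ev ⟨0, h0⟩ →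
    F0 h * Φ (sw hS (show (0 : Fin 4) ≠ 1 by decide)) = Φ (sw hS (show (0 : Fin 4) ≠ 1 by decide)) * F0 h
  six : N = 5 → ∀ (h : 2 + 3 ≤ N) x y,
    Φ (tri hS 0 (by norm_num) x) * F0 (tri hS 2 h y) = F0 (tri hS 2 h y) * Φ (tri hS 0 (by norm_num) x)

variable {N : ℕ} {F0 : SUn N F 2 →* G} {Φ : SUn 4 F 2 →* G} (gl : Glue hS F0 Φ)
include gl

namespace Glue

/-- The tail component. -/
noncomputable def j1 : SUn N F 2 →* G × SUn (N + 1) F 2 :=
  let _ := gl
  F0.prod (tail hS)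

/-- The component on four coordinates. -/
noncomputable def j0 : SUn 4 F 2 →* G × SUn (N + 1) F 2 :=
  Φ.prod (emb hS _ (first_injective hS (Nat.le_succ_of_le gl.four)))

/-- The exchange of the first two coordinates. -/
noncomputable def U : G × SUn (N + 1) F 2 := gl.j0 hS (sw hS (show (0 : Fin 4) ≠ 1 by decide))

/-- The generated group. -/
noncomputable def L : Subgroup (G × SUn (N + 1) F 2) :=
  Subgroup.closure ((gl.j1 hS).range ∪ {gl.U hS})

/-- The coset. -/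
noncomputable def cs (x : G × SUn (N + 1) F 2) : (G × SUn (N + 1) F 2) ⧸ (gl.j1 hS).range := QuotientGroup.mk x

/-- The point. -/
def pt (x : G × SUn (N + 1) F 2) : Vec (N + 1) F :=
  let _ := gl
  ap x.2 (ev 0)

/-- Neighbouring cosets. -/
def Adj (a b : G × SUn (N + 1) F 2) : Prop :=
  ∃ y ∈ gl.L hS, gl.cs hS a = gl.cs hS y ∧ gl.cs hS b = gl.cs hS (y * gl.U hS)

theorem pt_unit (x : G × SUn (N + 1) F 2) : ip σ (gl.pt hS x) (gl.pt hS x) = 1 := by
  rw [pt, ip_ap hS, ip_self_ev hS]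

theorem cs_mul_k (x : G × SUn (N + 1) F 2) (h : SUn N F 2) : gl.cs hS (x * gl.j1 hS h) = gl.cs hS x :=
  QuotientGroup.eq.2 (by rw [_root_.mul_inv_rev, inv_mul_cancel_right]; exact inv_mem ⟨h, rfl⟩)

theorem exists_k {a b : G × SUn (N + 1) F 2} (h : gl.cs hS a = gl.cs hS b) : ∃ k, b = a * gl.j1 hS k := by
  obtain ⟨k, hk⟩ := QuotientGroup.eq.1 h
  exact ⟨k, by rw [hk, mul_inv_cancel_left]⟩

theorem cs_mul_left (x : G × SUn (N + 1) F 2) {a b : G × SUn (N + 1) F 2} (h : gl.cs hS a = gl.cs hS b) :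
    gl.cs hS (x * a) = gl.cs hS (x * b) := by
  obtain ⟨k, rfl⟩ := gl.exists_k hS h
  rw [← mul_assoc, gl.cs_mul_k hS]

theorem pt_congr {a b : G × SUn (N + 1) F 2} (h : gl.cs hS a = gl.cs hS b) : gl.pt hS a = gl.pt hS b := by
  obtain ⟨k, rfl⟩ := gl.exists_k hS h
  show _ = ap (a.2 * tail hS k) (ev 0)
  rw [ap_mul, tail_ev_zero hS]; rfl

theorem j1_mem (k : SUn N F 2) : gl.j1 hS k ∈ gl.L hS := Subgroup.subset_closure (Or.inl ⟨k, rfl⟩)

theorem U_mem : gl.U hS ∈ gl.L hS := Subgroup.subset_closure (Or.inr rfl)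

theorem mem_congr {a b : G × SUn (N + 1) F 2} (h : gl.cs hS a = gl.cs hS b) (ha : a ∈ gl.L hS) : b ∈ gl.L hS := by
  obtain ⟨k, rfl⟩ := gl.exists_k hS h
  exact mul_mem ha (gl.j1_mem hS k)

theorem U_snd : (gl.U hS).2 =
    sw hS (show (⟨0, Nat.succ_pos N⟩ : Fin (N + 1)) ≠ ⟨1, by have := gl.four; omega⟩ by simp) := by
  show emb hS _ _ (sw hS _) = _
  rw [sw_emb hS]

theorem pt_U : gl.pt hS (gl.U hS) = ev ⟨1, by have := gl.four; omega⟩ := by
  rw [pt, gl.U_snd hS]; exact sw_fst hS _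

theorem pt_mul (x y : G × SUn (N + 1) F 2) : gl.pt hS (x * y) = ap x.2 (gl.pt hS y) := ap_mul _ _ _

theorem U_sq : gl.U hS * gl.U hS = 1 := by
  rw [U, ← map_mul, show sw hS (show (0 : Fin 4) ≠ 1 by decide) * sw hS (show (0 : Fin 4) ≠ 1 by decide) = 1 from
    ext_ev fun l => by
      rw [ap_mul, ap_one]
      rcases eq_or_ne l 0 with rfl | h0
      · rw [sw_fst hS, sw_snd hS]
      rcases eq_or_ne l 1 with rfl | h1
      · rw [sw_snd hS, sw_fst hS]
      · rw [sw_ne hS _ h0 h1, sw_ne hS _ h0 h1], map_one]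

theorem agree' (h3 : 0 + 3 ≤ N) (x : SUn 3 F 2) : gl.j1 hS (tri hS 0 h3 x) = gl.j0 hS (tail hS x) := by
  refine Prod.ext (gl.agree h3 x) ?_
  show tail hS (tri hS 0 h3 x) = emb hS _ _ (tail hS x)
  simp only [tail, tri, emb_comp]
  congr 2
  funext j; simp [Fin.ext_iff]

theorem comm_U {h : SUn N F 2} (h0 : 0 < N) (he : ap h (ev ⟨0, h0⟩) = ev ⟨0, h0⟩) :
    gl.j1 hS h * gl.U hS = gl.U hS * gl.j1 hS h := by
  refine Prod.ext (gl.comm h0 h he) ?_
  show tail hS h * (gl.U hS).2 = (gl.U hS).2 * tail hS h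
  rw [gl.U_snd hS]
  refine commute_of_fixSet hS (p := fun l : Fin (N + 1) => (l : ℕ) < 2)
    (p' := fun l : Fin (N + 1) => 2 ≤ (l : ℕ)) (fun l => by omega) (fun l hl => ?_) (fun l hl => ?_)
  · obtain rfl | ⟨a, rfl⟩ := l.eq_zero_or_eq_succ
    · exact tail_ev_zero hS h
    · rw [show a = ⟨0, h0⟩ from Fin.ext (by simp at hl; omega)]
      exact tail_fix hS he
  · exact sw_ne hS _ (Fin.ne_of_val_ne (show (l : ℕ) ≠ 0 by omega)) (Fin.ne_of_val_ne (show (l : ℕ) ≠ 1 by omega))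

theorem comm_fix {h : SUn N F 2} {g : SUn (N + 1) F 2} (hg : g ∈ lowFix 2) (hh : tail hS h = g) :
    gl.j1 hS h * gl.U hS = gl.U hS * gl.j1 hS h := by
  have h0 : 0 < N := by have := gl.four; omega
  refine gl.comm_U hS h0 (fix_of_tail hS ?_)
  rw [hh]
  exact hg _ (by simp)

theorem adj_symm {a b : G × SUn (N + 1) F 2} (h : gl.Adj hS a b) : gl.Adj hS b a := by
  obtain ⟨y, hy, ha, hb⟩ := h
  exact ⟨y * gl.U hS, mul_mem hy (gl.U_mem hS), hb, by rw [mul_assoc, gl.U_sq hS, mul_one, ha]⟩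

theorem adj_mem {a b : G × SUn (N + 1) F 2} (h : gl.Adj hS a b) : a ∈ gl.L hS := by
  obtain ⟨y, hy, ha, -⟩ := h
  exact gl.mem_congr hS ha.symm hy

theorem adj_congr {a a' b b' : G × SUn (N + 1) F 2} (h : gl.Adj hS a b) (ha : gl.cs hS a = gl.cs hS a')
    (hb : gl.cs hS b = gl.cs hS b') : gl.Adj hS a' b' := by
  obtain ⟨y, hy, e1, e2⟩ := h
  exact ⟨y, hy, ha.symm.trans e1, hb.symm.trans e2⟩

theorem adj_perp {a b : G × SUn (N + 1) F 2} (h : gl.Adj hS a b) : ip σ (gl.pt hS a) (gl.pt hS b) = 0 := by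
  obtain ⟨y, -, ha, hb⟩ := h
  rw [gl.pt_congr hS ha, gl.pt_congr hS hb, gl.pt_mul hS, gl.pt_U hS, pt, ip_ap hS, ip_ev]
  exact ev_ne (Fin.ne_of_val_ne (by simp))

theorem lift {a : G × SUn (N + 1) F 2} (ha : a ∈ gl.L hS) {p : Vec (N + 1) F} (hp : ip σ p p = 1)
    (hpa : ip σ p (gl.pt hS a) = 0) : ∃ b, gl.Adj hS a b ∧ gl.pt hS b = p := by
  have hN := gl.four
  have hs : Supp 1 (ap a.2⁻¹ p) := fun l hl => by
    obtain rfl : l = 0 := Fin.ext (by simp only [Fin.val_zero]; omega)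
    rw [← ip_ev (σ := σ) (ap a.2⁻¹ p) 0, ← ip_ap hS a.2, ap_ap_inv]
    exact hpa
  obtain ⟨g, hg, hge⟩ := exists_map hS 1 (by omega) hs (by rw [ip_ap hS, hp])
  obtain ⟨h, rfl⟩ := mem_tail hS (hg 0 (by simp))
  refine ⟨a * gl.j1 hS h * gl.U hS, ⟨a * gl.j1 hS h, mul_mem ha (gl.j1_mem hS h), (gl.cs_mul_k hS a h).symm, rfl⟩, ?_⟩
  rw [gl.pt_mul hS, gl.pt_U hS]
  show ap (a.2 * tail hS h) _ = p
  rw [ap_mul, hge, ap_ap_inv]

theorem unique {a b c : G × SUn (N + 1) F 2} (hb : gl.Adj hS a b) (hc : gl.Adj hS a c)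
    (h : gl.pt hS b = gl.pt hS c) : gl.cs hS b = gl.cs hS c := by
  have hN := gl.four
  obtain ⟨y, -, ha, hb'⟩ := hb
  obtain ⟨z, -, ha', hc'⟩ := hc
  obtain ⟨k, rfl⟩ := gl.exists_k hS (ha.symm.trans ha')
  rw [gl.pt_congr hS hb', gl.pt_congr hS hc', gl.pt_mul hS, gl.pt_mul hS, gl.pt_U hS] at h
  have h' := congrArg (ap y.2⁻¹) h
  rw [ap_inv_ap, show (y * gl.j1 hS k).2 = y.2 * tail hS k from rfl, ap_mul, ap_inv_ap] at h'
  have hk : ap k (ev ⟨0, by omega⟩) = ev ⟨0, by omega⟩ := fix_of_tail hS h'.symm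
  rw [hb', hc', mul_assoc, gl.comm_U hS (by omega) hk, ← mul_assoc, gl.cs_mul_k hS]

theorem braid : ∃ k : SUn N F 2,
    gl.U hS * gl.j1 hS k * gl.U hS = gl.j1 hS k * gl.U hS * gl.j1 hS k ∧
    ∀ h : 2 < N + 1, gl.pt hS (gl.j1 hS k * gl.U hS) = ev ⟨2, h⟩ := by
  have h3 : 0 + 3 ≤ N := by have := gl.four; omega
  refine ⟨tri hS 0 h3 (sw hS (show (0 : Fin 3) ≠ 1 by decide)), ?_, fun h => ?_⟩
  · rw [gl.agree' hS h3, U, ← map_mul, ← map_mul, ← map_mul, ← map_mul]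
    congr 1
    have e : tail hS (sw hS (show (0 : Fin 3) ≠ 1 by decide)) = sw hS (show (1 : Fin 4) ≠ 2 by decide) := by
      rw [tail, sw_emb hS]
    rw [e]
    refine ext_ev fun l => ?_
    simp only [ap_mul]
    have h4 : ∀ x : Fin 4, x = 0 ∨ x = 1 ∨ x = 2 ∨ x = 3 := by decide
    rcases h4 l with rfl | rfl | rfl | rfl <;>
      simp (discharger := decide) only [sw_fst hS, sw_snd hS, sw_ne hS]
  · rw [gl.pt_mul hS, gl.pt_U hS]
    show ap (tail hS _) (ev _) = _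
    rw [tri, sw_emb hS]
    have := gl.four
    rw [show (⟨1, by omega⟩ : Fin (N + 1)) = Fin.succ ⟨0, by omega⟩ from rfl, tail]
    refine (emb_ev_map hS _ (sw_fst hS _)).trans ?_
    rfl

theorem triangle {a b c : G × SUn (N + 1) F 2} (hb : gl.Adj hS a b) (hc : gl.Adj hS a c)
    (h : ip σ (gl.pt hS b) (gl.pt hS c) = 0) : gl.Adj hS b c := by
  have hN := gl.four
  have hca := gl.adj_perp hS hc
  have hb0 := hb
  obtain ⟨y, hy, ha, hb'⟩ := hb
  set p := ap y.2⁻¹ (gl.pt hS c)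
  have hs : Supp 2 p := fun l hl => by
    rw [← ip_ev (σ := σ) p l, ← ip_ap hS y.2, ap_ap_inv]
    obtain h' | h' : (l : ℕ) = 0 ∨ (l : ℕ) = 1 := by omega
    · rw [show l = 0 from Fin.ext h']
      exact ip_zero_symm hS (by rw [← hca, gl.pt_congr hS ha]; rfl)
    · rw [show l = ⟨1, by omega⟩ from Fin.ext h', ← gl.pt_U hS, ← gl.pt_mul hS, ← gl.pt_congr hS hb']
      exact ip_zero_symm hS h
  obtain ⟨g, hg, hge⟩ := exists_map hS 2 (by omega) hs (by rw [ip_ap hS, gl.pt_unit hS])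
  obtain ⟨h0, hh0⟩ := mem_tail hS (hg 0 (by simp))
  have hy' : y * gl.j1 hS h0 ∈ gl.L hS := mul_mem hy (gl.j1_mem hS h0)
  have e1 : gl.cs hS a = gl.cs hS (y * gl.j1 hS h0) := by rw [gl.cs_mul_k hS, ha]
  have e2 : gl.cs hS b = gl.cs hS (y * gl.j1 hS h0 * gl.U hS) := by
    rw [mul_assoc, gl.comm_fix hS hg hh0, ← mul_assoc, gl.cs_mul_k hS, hb']
  obtain ⟨k, hk, hk2⟩ := gl.braid hS
  set x := y * gl.j1 hS h0
  have hc2 : gl.Adj hS a (x * gl.j1 hS k * gl.U hS) :=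
    ⟨x * gl.j1 hS k, mul_mem hy' (gl.j1_mem hS k), by rw [gl.cs_mul_k hS, e1], rfl⟩
  have hpc : gl.pt hS (x * gl.j1 hS k * gl.U hS) = gl.pt hS c := by
    rw [mul_assoc, gl.pt_mul hS, hk2 (by omega)]
    show ap (y.2 * tail hS h0) _ = _
    rw [ap_mul, hh0, hge, ap_ap_inv]
  have hcs := gl.unique hS hc hc2 hpc.symm
  refine ⟨x * gl.U hS * gl.j1 hS k, mul_mem (mul_mem hy' (gl.U_mem hS)) (gl.j1_mem hS k), ?_, ?_⟩
  · rw [gl.cs_mul_k hS, e2]
  · rw [mul_assoc, mul_assoc x, ← mul_assoc (gl.U hS), hk, ← mul_assoc, ← mul_assoc, gl.cs_mul_k hS, hcs]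

theorem via {o a b d d' : G × SUn (N + 1) F 2} (hoa : gl.Adj hS o a) (hob : gl.Adj hS o b) (had : gl.Adj hS a d)
    (hbd : gl.Adj hS b d') (hp : gl.pt hS d = gl.pt hS d') {z : Vec (N + 1) F} (hz : ip σ z z = 1)
    (zo : ip σ z (gl.pt hS o) = 0) (zd : ip σ z (gl.pt hS d) = 0) (za : ip σ z (gl.pt hS a) = 0)
    (zb : ip σ z (gl.pt hS b) = 0) : gl.cs hS d = gl.cs hS d' := by
  obtain ⟨c, hoc, rfl⟩ := gl.lift hS (gl.adj_mem hS hoa) hz zo
  have hac := gl.triangle hS hoa hoc (ip_zero_symm hS za)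
  have hbc := gl.triangle hS hob hoc (ip_zero_symm hS zb)
  have hcd := gl.triangle hS hac had zd
  have hcd' := gl.triangle hS hbc hbd (by rw [← hp]; exact zd)
  exact gl.unique hS hcd hcd' hp

/-- Lifts of quadrilaterals close up in dimension six. -/
theorem quad_six (h5 : N = 5) {y : G × SUn (N + 1) F 2} (hy : y ∈ gl.L hS) {γ c δ : F} (hγ : γ ≠ 0) (hc : c ≠ 0)
    {w : Vec (N + 1) F} (hws : Supp 4 w) {β : Vec (N + 1) F}
    (hβ : β = δ • ev (⟨1, by omega⟩ : Fin (N + 1)) + w) (hβ1 : ip σ β β = 1)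
    {o a b d d' : G × SUn (N + 1) F 2} (hoa : gl.Adj hS o a) (hob : gl.Adj hS o b) (had : gl.Adj hS a d)
    (hbd : gl.Adj hS b d') (hp : gl.pt hS d = gl.pt hS d')
    (eo : gl.cs hS o = gl.cs hS y) (ea : gl.cs hS a = gl.cs hS (y * gl.U hS)) (eb : gl.pt hS b = ap y.2 β)
    (ed : gl.pt hS d =
      ap y.2 (γ • ev (0 : Fin (N + 1)) + c • ev (⟨2, by omega⟩ : Fin (N + 1)) + ev ⟨3, by omega⟩)) :
    gl.cs hS d = gl.cs hS d' := by
  subst h5
  obtain ⟨h, hh⟩ := exists_col hS hγ hc one_ne_zero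
  have hβ' : ip σ (![δ, w ⟨4, by omega⟩, w ⟨5, by omega⟩] : Vec 3 F) ![δ, w ⟨4, by omega⟩, w ⟨5, by omega⟩] = 1 := by
    rw [← hβ1, hβ, ip_self, ip_self, Fin.sum_univ_three, Fin.sum_univ_six]
    have e : ∀ l : Fin 6, (l : ℕ) < 4 → w l = 0 := hws
    simp [ev, Pi.single_apply, Fin.ext_iff, e 0 (by decide), e 1 (by decide), e 2 (by decide), e 3 (by decide),
      nn_zero]
  obtain ⟨h', -, hh'⟩ := exists_map hS 0 (by norm_num) (fun l hl => absurd hl (Nat.not_lt_zero _)) hβ'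
  have hi023 : Injective (![0, 2, 3] : Fin 3 → Fin 4) := by decide
  have hi123 : Injective (![1, 2, 3] : Fin 3 → Fin 4) := by decide
  have hi034 : Injective (![0, 3, 4] : Fin 3 → Fin 5) := by decide
  set Gt := gl.j0 hS (emb hS _ hi023 h)
  set Gt' := gl.j1 hS (emb hS _ hi034 h')
  have hcomm : Commute Gt Gt' := by
    have h03 : 0 + 3 ≤ 4 := by norm_num
    have h23 : 2 + 3 ≤ 5 := le_rfl
    set T := gl.j0 hS (tri hS 0 h03 h) with hT
    set T' := gl.j1 hS (tri hS 2 h23 h') with hT'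
    have hTT : Commute T T' := by
      refine Prod.ext (gl.six rfl h23 h h') ?_
      refine commute_of_fixSet hS (p := fun l : Fin 6 => 3 ≤ (l : ℕ)) (p' := fun l : Fin 6 => (l : ℕ) < 3)
        (fun l => by omega) (fun l hl => ?_) (fun l hl => ?_)
      · show ap (emb hS _ _ (tri hS 0 h03 h)) (ev l) = ev l
        rw [tri, emb_comp]
        refine emb_ev_ne hS _ _ _ ?_
        rintro ⟨j, rfl⟩
        simp at hl; omega
      · show ap (tail hS (tri hS 2 h23 h')) (ev l) = ev l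
        rw [tail_tri hS 2 h23, tri]
        refine emb_ev_ne hS _ _ _ ?_
        rintro ⟨j, rfl⟩
        simp at hl
    set mm := gl.j0 hS (tail hS (cyc hS))
    have k0 : mm * T = Gt * mm := by
      simp only [mm, hT, Gt, ← map_mul, tri]
      congr 1
      refine conj_emb hS (π := ![0, 2, 3, 1]) (fun l => ?_) _ _ (fun j => by fin_cases j <;> rfl) h
      obtain rfl | ⟨j, rfl⟩ := l.eq_zero_or_eq_succ
      · exact tail_ev_zero hS _
      · rw [tail, emb_ev_map hS _ (cyc_ev hS j)]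
        fin_cases j <;> rfl
    have k1 : mm * T' = Gt' * mm := by
      simp only [mm, ← gl.agree' hS (show 0 + 3 ≤ 5 by norm_num), hT', Gt', ← map_mul, tri]
      congr 1
      refine conj_emb hS (π := ![1, 2, 0, 3, 4]) (fun l => ?_) _ _ (fun j => by fin_cases j <;> rfl) h'
      by_cases hl : (l : ℕ) < 3
      · rw [show l = (fun j : Fin 3 => (⟨0 + (j : ℕ), by omega⟩ : Fin 5)) ⟨l, hl⟩ from Fin.ext (Nat.zero_add _).symm,
          emb_ev_map hS _ (cyc_ev hS _)]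
        congr 1
        generalize (⟨(l : ℕ), hl⟩ : Fin 3) = j
        fin_cases j <;> rfl
      · rw [emb_ev_ne hS]
        · congr 1
          fin_cases l <;> simp at hl <;> rfl
        · rintro ⟨j, rfl⟩; simp at hl
    have k0' : Gt = mm * T * mm⁻¹ := eq_mul_inv_of_mul_eq k0.symm
    have k1' : Gt' = mm * T' * mm⁻¹ := eq_mul_inv_of_mul_eq k1.symm
    show Gt * Gt' = Gt' * Gt
    rw [k0', k1', show mm * T * mm⁻¹ * (mm * T' * mm⁻¹) = mm * (T * T') * mm⁻¹ by group, hTT.eq]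
    group
  have hGL : Gt ∈ gl.L hS := by
    have hL : (gl.L hS).comap (gl.j0 hS) = ⊤ := by
      refine gen_swap hS (by norm_num) (fun x => ?_) (i := 1) rfl (gl.U_mem hS)
      rw [Subgroup.mem_comap, ← gl.agree' hS (show 0 + 3 ≤ 5 by norm_num)]
      exact gl.j1_mem hS _
    have : emb hS _ hi023 h ∈ (gl.L hS).comap (gl.j0 hS) := hL ▸ Subgroup.mem_top _
    exact this
  have hGU : gl.cs hS (Gt * gl.U hS) = gl.cs hS (gl.U hS) := by
    have e : gl.j0 hS (emb hS _ hi023 h) * gl.U hS = gl.U hS * gl.j1 hS (tri hS 0 (by norm_num) h) := by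
      rw [gl.agree' hS, U, ← map_mul, ← map_mul]
      congr 1
      refine (conj_emb hS (π := ![1, 0, 2, 3]) (fun l => ?_) _ _ (fun j => by fin_cases j <;> rfl) h).symm
      have h4 : ∀ x : Fin 4, x = 0 ∨ x = 1 ∨ x = 2 ∨ x = 3 := by decide
      rcases h4 l with rfl | rfl | rfl | rfl
      exacts [sw_fst hS _, sw_snd hS _, sw_ne hS _ (by decide) (by decide), sw_ne hS _ (by decide) (by decide)]
    rw [e, gl.cs_mul_k hS]
  -- the vertex over the far point
  have hd0 : gl.Adj hS (y * Gt) a := by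
    refine ⟨y * Gt, mul_mem hy hGL, rfl, ?_⟩
    rw [ea, mul_assoc]
    exact (gl.cs_mul_left hS y hGU).symm
  have pd0 : gl.pt hS (y * Gt) = gl.pt hS d := by
    rw [ed, gl.pt_mul hS]
    congr 1
    show ap (emb hS _ _ (emb hS _ hi023 h)) (ev 0) = _
    rw [emb_comp]
    refine (emb_vec hS _ h 0).trans ?_
    rw [hh, Fin.sum_univ_three]
    simp only [Matrix.cons_val_zero, Matrix.cons_val_one, Matrix.cons_val_two, Matrix.head_cons, Matrix.tail_cons,
      one_smul]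
    rfl
  have e_d : gl.cs hS d = gl.cs hS (y * Gt) := gl.unique hS had (gl.adj_symm hS hd0) pd0.symm
  set b0 := y * Gt' * gl.U hS
  have hb0 : gl.Adj hS o b0 :=
    ⟨y * Gt', mul_mem hy (gl.j1_mem hS _), by rw [eo]; exact (gl.cs_mul_k hS _ _).symm, rfl⟩
  have pb0 : gl.pt hS b0 = gl.pt hS b := by
    show gl.pt hS (y * Gt' * gl.U hS) = _
    rw [eb, mul_assoc, gl.pt_mul hS, gl.pt_mul hS, gl.pt_U hS]
    congr 1
    show ap (tail hS (emb hS _ hi034 h')) _ = _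
    rw [tail, emb_comp]
    refine (emb_vec hS _ h' 0).trans ?_
    rw [show (0 : Fin 3) = ⟨0, by norm_num⟩ from rfl, hh', Fin.sum_univ_three, hβ]
    have e : ∀ l : Fin 6, (l : ℕ) < 4 → w l = 0 := hws
    funext l
    fin_cases l <;> simp [ev, Pi.single_apply, Fin.ext_iff, e 0 (by decide), e 1 (by decide), e 2 (by decide),
      e 3 (by decide)] <;> rfl
  have e_b : gl.cs hS b = gl.cs hS b0 := gl.unique hS hob hb0 pb0.symm
  have hbd0 : gl.Adj hS b (y * Gt) := by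
    refine gl.adj_symm hS ⟨y * Gt * Gt', mul_mem (mul_mem hy hGL) (gl.j1_mem hS _), (gl.cs_mul_k hS _ _).symm, ?_⟩
    rw [e_b, show y * Gt * Gt' * gl.U hS = y * (Gt * Gt') * gl.U hS by group, hcomm.eq,
      show y * (Gt' * Gt) * gl.U hS = y * Gt' * (Gt * gl.U hS) by group]
    exact (gl.cs_mul_left hS (y * Gt') hGU).symm
  rw [e_d]
  exact gl.unique hS hbd0 hbd (pd0.trans hp)

/-- Lifts of quadrilaterals close up. -/
theorem quad {o a b d d' : G × SUn (N + 1) F 2} (hoa : gl.Adj hS o a) (hob : gl.Adj hS o b) (had : gl.Adj hS a d)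
    (hbd : gl.Adj hS b d') (hp : gl.pt hS d = gl.pt hS d') : gl.cs hS d = gl.cs hS d' := by
  have hN := gl.four
  by_cases hdo : ip σ (gl.pt hS o) (gl.pt hS d) = 0
  · have h1 := gl.triangle hS (gl.adj_symm hS hoa) had hdo
    have h2 := gl.triangle hS (gl.adj_symm hS hob) hbd (by rw [← hp]; exact hdo)
    exact gl.unique hS h1 h2 hp
  by_cases hab : ip σ (gl.pt hS a) (gl.pt hS b) = 0
  · have h1 := gl.triangle hS hoa hob hab
    have hbd0 : ip σ (gl.pt hS b) (gl.pt hS d) = 0 := by rw [hp]; exact gl.adj_perp hS hbd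
    have h2 := gl.triangle hS h1 had hbd0
    exact gl.unique hS h2 hbd hp
  have hpo := gl.adj_perp hS hoa
  have hbo := gl.adj_perp hS hob
  have hda := gl.adj_perp hS had
  have hdb : ip σ (gl.pt hS b) (gl.pt hS d) = 0 := by rw [hp]; exact gl.adj_perp hS hbd
  have hoa' := hoa
  obtain ⟨y, hy, eo, ea⟩ := hoa'
  set e1 : Fin (N + 1) := ⟨1, by omega⟩
  have po : gl.pt hS o = ap y.2 (ev 0) := gl.pt_congr hS eo
  have pa : gl.pt hS a = ap y.2 (ev e1) := by rw [gl.pt_congr hS ea, gl.pt_mul hS, gl.pt_U hS]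
  set p := ap y.2⁻¹ (gl.pt hS d)
  set β := ap y.2⁻¹ (gl.pt hS b)
  have pd : gl.pt hS d = ap y.2 p := (ap_ap_inv _ _).symm
  have pb : gl.pt hS b = ap y.2 β := (ap_ap_inv _ _).symm
  rw [po, pd, ip_ap hS, ip_ev_left hS] at hdo
  rw [pa, pb, ip_ap hS, ip_ev_left hS] at hab
  rw [pa, pd, ip_ap hS, ip_ev_left hS, map_eq_zero] at hda
  rw [po, pb, ip_ap hS, ip_ev_left hS, map_eq_zero] at hbo
  rw [pb, pd, ip_ap hS] at hdb
  have hp0 : p 0 ≠ 0 := fun e => hdo (by rw [e, map_zero])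
  have hβ1 : β e1 ≠ 0 := fun e => hab (by rw [e, map_zero])
  have h01 : (0 : Fin (N + 1)) ≠ e1 := Fin.ne_of_val_ne (by simp [e1])
  set vv := p - p 0 • ev 0
  set w := β - β e1 • ev e1
  have hvs : Supp 2 vv := fun l hl => by
    obtain h' | h' : (l : ℕ) = 0 ∨ (l : ℕ) = 1 := by omega
    · rw [show l = 0 from Fin.ext h']; simp [vv, ev_self]
    · rw [show l = e1 from Fin.ext h']; simp [vv, ev_ne h01.symm, hda]
  have hws : Supp 2 w := fun l hl => by
    obtain h' | h' : (l : ℕ) = 0 ∨ (l : ℕ) = 1 := by omega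
    · rw [show l = 0 from Fin.ext h']; simp [w, ev_ne h01, hbo]
    · rw [show l = e1 from Fin.ext h']; simp [w, ev_self]
  have hpe : p = p 0 • ev 0 + vv := (add_sub_cancel _ _).symm
  have hβe : β = β e1 • ev e1 + w := (add_sub_cancel _ _).symm
  have lead : ∀ {x : Vec (N + 1) F}, Supp 2 x → ∀ l : Fin (N + 1), (l : ℕ) < 2 → ip σ x (ev l) = 0 :=
    fun hx l hl => by rw [ip_ev, hx l hl]
  have lead' : ∀ {x : Vec (N + 1) F}, Supp 2 x → ∀ l : Fin (N + 1), (l : ℕ) < 2 → ip σ (ev l) x = 0 :=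
    fun hx l hl => ip_zero_symm hS (lead hx l hl)
  have hl0 : ((0 : Fin (N + 1)) : ℕ) < 2 := by simp
  have hl1 : (e1 : ℕ) < 2 := by simp [e1]
  have hvv : ip σ vv vv = 0 := by
    have h1 : ip σ p p = 1 := by rw [ip_ap hS]; exact gl.pt_unit hS d
    rw [hpe] at h1
    simp only [ip_add_left, ip_add_right, ip_smul_left, ip_smul_right, ip_self_ev hS, lead hvs 0 hl0,
      lead' hvs 0 hl0] at h1
    have h2 := nn_one hS hp0
    unfold nn at h2
    linear_combination h1 - h2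
  have hww : ip σ w w = 0 := by
    have h1 : ip σ β β = 1 := by rw [ip_ap hS]; exact gl.pt_unit hS b
    rw [hβe] at h1
    simp only [ip_add_left, ip_add_right, ip_smul_left, ip_smul_right, ip_self_ev hS, lead hws e1 hl1,
      lead' hws e1 hl1] at h1
    have h2 := nn_one hS hβ1
    unfold nn at h2
    linear_combination h1 - h2
  have hwv : ip σ w vv = 0 := by
    rw [hpe, hβe] at hdb
    simp only [ip_add_left, ip_add_right, ip_smul_left, ip_smul_right, ip_ev, Pi.add_apply, Pi.smul_apply,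
      smul_eq_mul, ev_ne h01, hws 0 hl0, lead hws 0 hl0, lead' hvs e1 hl1] at hdb
    simpa using hdb
  have done_of : ∀ z, Supp 2 z → ip σ z z = 1 → ip σ z vv = 0 → ip σ z w = 0 → gl.cs hS d = gl.cs hS d' :=
    fun z zs z1 zv zw => by
      refine gl.via hS hoa hob had hbd hp (z := ap y.2 z) (by rw [ip_ap hS, z1]) ?_ ?_ ?_ ?_
      · rw [po, ip_ap hS]; exact lead zs 0 hl0
      · rw [pd, ip_ap hS, hpe, ip_add_right, ip_smul_right, lead zs 0 hl0, zv, mul_zero, add_zero]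
      · rw [pa, ip_ap hS]; exact lead zs e1 hl1
      · rw [pb, ip_ap hS, hβe, ip_add_right, ip_smul_right, lead zs e1 hl1, zw, mul_zero, add_zero]
  by_cases hw0 : w = 0
  · obtain ⟨z, zs, z1, zv⟩ := exists_perp hS 2 (show 2 + 3 ≤ N + 1 by omega) vv
    exact done_of z zs z1 zv (by rw [hw0]; simp [ip])
  obtain ⟨f, fs, f1, fw⟩ := exists_perp hS 2 (show 2 + 3 ≤ N + 1 by omega) w
  by_cases hfv : ip σ f vv = 0
  · exact done_of f fs f1 hfv fw
  set c := ip σ vv f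
  have hc : c ≠ 0 := fun e => hfv (ip_zero_symm hS e)
  set f' := vv - c • f
  have hvf : vv = f' + c • f := (sub_add_cancel _ _).symm
  have hf'f : ip σ f' f = 0 := by
    have : c = ip σ f' f + c := by
      conv_lhs => rw [show c = ip σ vv f from rfl, hvf, ip_add_left, ip_smul_left, f1, mul_one]
    linear_combination -this
  have hf'1 : ip σ f' f' = 1 := by
    have h2 := nn_one hS hc
    unfold nn at h2
    have h1 := hvv
    rw [hvf] at h1
    simp only [ip_add_left, ip_add_right, ip_smul_left, ip_smul_right, hf'f, ip_zero_symm hS hf'f, f1] at h1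
    linear_combination h1 - h2 - two_zero (F := F)
  have hf'w : ip σ f' w = 0 := by
    have h1 := ip_zero_symm hS hwv
    rw [hvf, ip_add_left, ip_smul_left, fw, mul_zero, add_zero] at h1
    exact h1
  have hf's : Supp 2 f' := fun l hl => by simp [f', hvs l hl, fs l hl]
  set e2 : Fin (N + 1) := ⟨2, by omega⟩
  obtain ⟨g2, hg2, hge2⟩ := exists_map hS 2 (by omega) fs f1
  have coord : ∀ (x : Vec (N + 1) F) (l : Fin (N + 1)), ap g2⁻¹ x l = ip σ x (ap g2 (ev l)) := fun x l => by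
    rw [← ip_ev (σ := σ) (ap g2⁻¹ x) l, ← ip_ap hS g2, ap_ap_inv]
  have s3 : ∀ x, Supp 2 x → ip σ x f = 0 → Supp 3 (ap g2⁻¹ x) := fun x xs xf l hl => by
    by_cases hl2 : (l : ℕ) < 2
    · exact supp_ap hS xs (inv_mem hg2) l hl2
    · rw [show l = e2 from Fin.ext (by simp [e2]; omega), coord, hge2, xf]
  set f'' := ap g2⁻¹ f'
  set w'' := ap g2⁻¹ w
  have fs'' : Supp 3 f'' := s3 f' hf's hf'f
  have ws'' : Supp 3 w'' := s3 w hws (ip_zero_symm hS fw)
  have hf''1 : ip σ f'' f'' = 1 := by rw [ip_ap hS, hf'1]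
  by_cases h4 : N = 4
  · exfalso
    subst h4
    have hw'' : w'' = 0 := by
      have a1 : nn σ (f'' 3) + nn σ (f'' 4) = 1 := by
        rw [← hf''1, ip_self, Fin.sum_univ_five, fs'' 0 (by decide), fs'' 1 (by decide), fs'' 2 (by decide),
          nn_zero, zero_add, zero_add, zero_add]
      have a2 : f'' 3 * σ (w'' 3) + f'' 4 * σ (w'' 4) = 0 := by
        have : ip σ f'' w'' = 0 := by rw [ip_ap hS]; exact hf'w
        rw [ip, Fin.sum_univ_five, fs'' 0 (by decide), fs'' 1 (by decide), fs'' 2 (by decide)] at this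
        simpa using this
      have a3 : nn σ (w'' 3) + nn σ (w'' 4) = 0 := by
        have : ip σ w'' w'' = 0 := by rw [ip_ap hS]; exact hww
        rw [ip_self, Fin.sum_univ_five, ws'' 0 (by decide), ws'' 1 (by decide), ws'' 2 (by decide), nn_zero,
          zero_add, zero_add, zero_add] at this
        exact this
      have key : w'' 3 = 0 ∧ w'' 4 = 0 := by
        by_cases hf3 : f'' 3 = 0
        · rw [hf3, nn_zero, zero_add] at a1
          have hf4 : f'' 4 ≠ 0 := fun e => by simp [e, nn] at a1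
          rw [hf3, zero_mul, zero_add] at a2
          have h4 : w'' 4 = 0 := by simpa [hf4] using a2
          rw [h4, nn_zero, add_zero] at a3
          exact ⟨nn_eq_zero.1 a3, h4⟩
        · have hf4 : f'' 4 = 0 := by
            by_contra hne
            rw [nn_one hS hf3, nn_one hS hne] at a1
            exact one_ne_zero (by linear_combination a1 : (1 : F) = 0)
          rw [hf4, zero_mul, add_zero] at a2
          have h3 : w'' 3 = 0 := by simpa [hf3] using a2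
          rw [h3, nn_zero, zero_add] at a3
          exact ⟨h3, nn_eq_zero.1 a3⟩
      funext l
      fin_cases l
      exacts [ws'' 0 (by decide), ws'' 1 (by decide), ws'' 2 (by decide), key.1, key.2]
    exact hw0 (by rw [← ap_ap_inv g2 w, show ap g2⁻¹ w = 0 from hw'', ap_zero])
  obtain ⟨g3, hg3, hge3⟩ := exists_map hS 3 (by omega) fs'' hf''1
  set e3 : Fin (N + 1) := ⟨3, by omega⟩
  set g := g2 * g3
  have hg : g ∈ lowFix 2 := mul_mem hg2 (fun l hl => hg3 l (by omega))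
  have ge2 : ap g (ev e2) = f := by rw [ap_mul, hg3 e2 (by simp [e2]), hge2]
  have ge3 : ap g (ev e3) = f' := by rw [ap_mul, hge3, ap_ap_inv]
  have ws4 : Supp 4 (ap g⁻¹ w) := fun l hl => by
    by_cases hl2 : (l : ℕ) < 2
    · exact supp_ap hS hws (inv_mem hg) l hl2
    rw [← ip_ev (σ := σ) (ap g⁻¹ w) l, ← ip_ap hS g, ap_ap_inv]
    obtain h' | h' : (l : ℕ) = 2 ∨ (l : ℕ) = 3 := by omega
    · rw [show l = e2 from Fin.ext h', ge2]; exact ip_zero_symm hS fw
    · rw [show l = e3 from Fin.ext h', ge3]; exact ip_zero_symm hS hf'w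
  by_cases h5 : N = 5
  · obtain ⟨h, hh⟩ := mem_tail hS (g := g) (hg 0 (by simp))
    refine gl.quad_six hS h5 (y := y * gl.j1 hS h) (mul_mem hy (gl.j1_mem hS h)) hp0 hc ws4
      (β := ap g⁻¹ β) (δ := β e1) ?_ (by rw [ip_ap hS, ip_ap hS]; exact gl.pt_unit hS b) hoa hob had hbd hp ?_ ?_ ?_ ?_
    · show ap g⁻¹ β = β e1 • ev e1 + ap g⁻¹ w
      conv_lhs => rw [hβe, ap_add, ap_smul, (inv_mem hg : g⁻¹ ∈ lowFix 2) e1 hl1]
    · rw [gl.cs_mul_k hS, eo]
    · rw [mul_assoc, gl.comm_fix hS hg hh, ← mul_assoc, gl.cs_mul_k hS, ea]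
    · show _ = ap (y.2 * tail hS h) _
      rw [hh, ap_mul, ap_ap_inv, pb]
    · show _ = ap (y.2 * tail hS h) (p 0 • ev 0 + c • ev e2 + ev e3)
      rw [hh, ap_mul, pd]
      congr 1
      rw [ap_add, ap_add, ap_smul, ap_smul, hg 0 hl0, ge2, ge3, add_assoc, add_comm (c • f), ← hvf, ← hpe]
  · obtain ⟨z, zs, z1, zw⟩ := exists_perp hS 4 (show 4 + 3 ≤ N + 1 by omega) (ap g⁻¹ w)
    refine done_of (ap g z) (supp_ap hS (zs.mono (by norm_num)) hg) (by rw [ip_ap hS, z1]) ?_ ?_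
    · rw [hvf, ← ge2, ← ge3, ← ap_smul, ← ap_add, ip_ap hS, ip_add_right, ip_smul_right, ip_ev, ip_ev,
        zs e2 (by simp [e2]), zs e3 (by simp [e3]), mul_zero, add_zero]
    · rw [← ap_ap_inv g w, ip_ap hS, zw]

theorem exists_common {p q : Vec (N + 1) F} (hp : ip σ p p = 1) (hq : ip σ q q = 1) (hpq : ip σ p q = 0)
    (r : Vec (N + 1) F) :
    ∃ z, ip σ z z = 1 ∧ ip σ z p = 0 ∧ ip σ z q = 0 ∧ ip σ z r = 0 := by
  have hN := gl.four
  obtain ⟨g, -, hge⟩ := exists_map hS 0 (show 0 + 3 ≤ N + 1 by omega) (fun l hl => absurd hl (Nat.not_lt_zero _)) hp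
  have hs : Supp 1 (ap g⁻¹ q) := fun l hl => by
    rw [← ip_ev (σ := σ) (ap g⁻¹ q) l, ← ip_ap hS g, ap_ap_inv, show l = ⟨0, by omega⟩ from Fin.ext (show (l : ℕ) = 0 by omega),
      hge]
    exact ip_zero_symm hS hpq
  obtain ⟨g', hg', hge'⟩ := exists_map hS 1 (show 1 + 3 ≤ N + 1 by omega) hs (by rw [ip_ap hS, hq])
  obtain ⟨z, zs, z1, zr⟩ := exists_perp hS 2 (show 2 + 3 ≤ N + 1 by omega) (ap (g * g')⁻¹ r)
  refine ⟨ap (g * g') z, by rw [ip_ap hS, z1], ?_, ?_, ?_⟩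
  · conv_lhs => arg 3; rw [← hge, ← hg' ⟨0, by omega⟩ (by simp), ← ap_mul]
    rw [ip_ap hS, ip_ev]; exact zs _ (by simp)
  · conv_lhs => arg 3; rw [← ap_ap_inv g q, ← hge', ← ap_mul]
    rw [ip_ap hS, ip_ev]; exact zs _ (by simp)
  · rw [← ap_ap_inv (g * g') r, ip_ap hS, zr]

/-- The vertices consistent with the base one. -/
def Good (x : G × SUn (N + 1) F 2) : Prop :=
  x ∈ gl.L hS ∧ (gl.pt hS x = ev 0 → gl.cs hS x = gl.cs hS 1) ∧
    ∀ a, gl.Adj hS 1 a → ip σ (gl.pt hS a) (gl.pt hS x) = 0 → gl.Adj hS a x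

theorem good_step {c d : G × SUn (N + 1) F 2} (hc : gl.Good hS c) (hcd : gl.Adj hS c d) : gl.Good hS d := by
  obtain ⟨-, -, hca⟩ := hc
  obtain ⟨z, z1, zc, zd, z0⟩ := gl.exists_common hS (gl.pt_unit hS c) (gl.pt_unit hS d) (gl.adj_perp hS hcd) (ev 0)
  have hone : gl.pt hS 1 = ev 0 := ap_one _
  obtain ⟨a, h1a, rfl⟩ := gl.lift hS (one_mem _) z1 (by rw [hone]; exact z0)
  have hac := hca a h1a zc
  have had : gl.Adj hS a d := gl.triangle hS (gl.adj_symm hS hac) hcd zd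
  refine ⟨gl.adj_mem hS (gl.adj_symm hS hcd), fun hd => ?_, fun a' h1a' hp' => ?_⟩
  · exact gl.unique hS had (gl.adj_symm hS h1a) (hd.trans hone.symm)
  · obtain ⟨d', had', hd'⟩ := gl.lift hS (gl.adj_mem hS (gl.adj_symm hS h1a')) (gl.pt_unit hS d)
      (ip_zero_symm hS hp')
    have := gl.quad hS h1a h1a' had had' hd'.symm
    exact gl.adj_congr hS had' rfl this.symm

theorem good (x : G × SUn (N + 1) F 2) (hx : x ∈ gl.L hS) : gl.Good hS x := by
  induction hx using Subgroup.closure_induction_right with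
  | one => exact ⟨one_mem _, fun _ => rfl, fun a ha _ => gl.adj_symm hS ha⟩
  | mul_right x hx y hy ih =>
    rcases hy with ⟨k, rfl⟩ | rfl
    · obtain ⟨i1, i2, i3⟩ := ih
      have e := gl.cs_mul_k hS x k
      exact ⟨mul_mem i1 (gl.j1_mem hS k), fun h => e.trans (i2 ((gl.pt_congr hS e).symm.trans h)),
        fun a ha hp => gl.adj_congr hS (i3 a ha (by rw [← gl.pt_congr hS e]; exact hp)) rfl e.symm⟩
    · exact gl.good_step hS ih ⟨x, ih.1, rfl, rfl⟩
  | mul_inv_cancel x hx y hy ih =>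
    rcases hy with ⟨k, rfl⟩ | rfl
    · obtain ⟨i1, i2, i3⟩ := ih
      have e : gl.cs hS (x * (gl.j1 hS k)⁻¹) = gl.cs hS x := by rw [← map_inv]; exact gl.cs_mul_k hS x _
      exact ⟨mul_mem i1 (inv_mem (gl.j1_mem hS k)), fun h => e.trans (i2 ((gl.pt_congr hS e).symm.trans h)),
        fun a ha hp => gl.adj_congr hS (i3 a ha (by rw [← gl.pt_congr hS e]; exact hp)) rfl e.symm⟩
    · refine gl.good_step hS ih ⟨x, ih.1, rfl, ?_⟩
      rw [inv_eq_of_mul_eq_one_right (gl.U_sq hS)]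

theorem j0_mem (x : SUn 4 F 2) : gl.j0 hS x ∈ gl.L hS := by
  have hN := gl.four
  have hL : (gl.L hS).comap (gl.j0 hS) = ⊤ := by
    refine gen_swap hS (by norm_num) (fun x => ?_) (i := 1) rfl (gl.U_mem hS)
    rw [Subgroup.mem_comap, ← gl.agree' hS (show 0 + 3 ≤ N by omega)]
    exact gl.j1_mem hS _
  have : x ∈ (gl.L hS).comap (gl.j0 hS) := hL ▸ Subgroup.mem_top _
  exact this

/-- The glued hom. -/
theorem exists_hom (h4 : 4 ≤ N + 1) : ∃ F1 : SUn (N + 1) F 2 →* G,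
    (∀ x, F1 (tail hS x) = F0 x) ∧ ∀ x, F1 (emb hS _ (first_injective hS h4) x) = Φ x := by
  have hN := gl.four
  set π := MonoidHom.snd G (SUn (N + 1) F 2)
  have hker : ∀ x ∈ gl.L hS, π x = 1 → x = 1 := by
    intro x hx hx1
    obtain ⟨-, h2, -⟩ := gl.good hS x hx
    obtain ⟨k, hk⟩ := gl.exists_k hS (h2 (by rw [pt, show x.2 = 1 from hx1, ap_one])).symm
    rw [one_mul] at hk
    rw [hk] at hx1 ⊢
    rw [show k = 1 from emb_injective hS _ _ ((hx1 : tail hS k = 1).trans (map_one (tail hS)).symm), map_one]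
  have hsurj : (gl.L hS).map π = ⊤ := by
    refine gen_swap hS (by omega) (fun h => ⟨_, gl.j1_mem hS h, rfl⟩) (i := ⟨1, by omega⟩) rfl ?_
    exact ⟨_, gl.U_mem hS, gl.U_snd hS⟩
  have hbij : Bijective (π.comp (gl.L hS).subtype) := by
    refine ⟨(injective_iff_map_eq_one _).2 fun x hx => Subtype.ext (hker x x.2 hx), fun g => ?_⟩
    obtain ⟨x, hx, hxg⟩ : g ∈ (gl.L hS).map π := hsurj ▸ Subgroup.mem_top g
    exact ⟨⟨x, hx⟩, hxg⟩
  let e := MulEquiv.ofBijective (π.comp (gl.L hS).subtype) hbij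
  refine ⟨(MonoidHom.fst _ _).comp ((gl.L hS).subtype.comp e.symm.toMonoidHom), fun x => ?_, fun x => ?_⟩
  · have h : e.symm (tail hS x) = ⟨gl.j1 hS x, gl.j1_mem hS x⟩ := (MulEquiv.symm_apply_eq e).2 rfl
    show ((gl.L hS).subtype (e.symm (tail hS x))).1 = _
    rw [h]; rfl
  · have h : e.symm (emb hS _ (first_injective hS h4) x) = ⟨gl.j0 hS x, gl.j0_mem hS x⟩ :=
      (MulEquiv.symm_apply_eq e).2 rfl
    show ((gl.L hS).subtype (e.symm (emb hS _ (first_injective hS h4) x))).1 = _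
    rw [h]; rfl

end Glue

end Cfsg.Agent.Phan.Two
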