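import Cfsg.Agent.Phan.TwoBlock
import Cfsg.Agent.Phan.TwoCover

/-!
A weak Phan system over the field with four elements is a quotient of the unitary group.
-/

set_option autoImplicit false
set_option linter.unusedSectionVars false
set_option linter.unusedSimpArgs false

open Matrix Function

namespace Cfsg.Agent.Phan.Two

universe u v

variable {F : Type u} [Field F] [Fintype F] {σ : F →+* F} [CharP F 2] {G : Type v} [Group G]
variable (hS : Fld σ 2)
include hS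

theorem tri_self (x : SUn 3 F 2) : tri hS 0 (le_refl 3) x = x := by
  refine ext_ev fun l => funext fun m => ?_
  have hid : (fun j : Fin 3 => (⟨0 + (j : ℕ), by omega⟩ : Fin 3)) = id := funext fun j => by simp
  have hc := emb_c hS _ (tri_injective hS 0 (le_refl 3)) x (ev l) m
  simp only [hid, id, Function.comp_id] at hc
  simp only [tri, hid]
  rwa [show (⟨0 + (m : ℕ), by omega⟩ : Fin 3) = m from Fin.ext (Nat.zero_add _)] at hc

/-- Coordinates agreeing on consecutive blocks of four. -/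
theorem exists_blocks {n : ℕ} {Uc : ℕ → Subgroup G} {χ : ℕ → SUn 3 F 2 →* G}
    (hP : ∀ i, i + 1 < n → Pair hS (χ i) (Uc i) (Uc (i + 1)))
    (hc : ∀ i j, i + 2 ≤ j → j < n → ∀ x ∈ Uc i, ∀ y ∈ Uc j, x * y = y * x)
    (h4 : ∀ i, i + 2 < n → ∃ g : SUn 4 F 2 →* G, (χ i).range ≤ g.range ∧ (χ (i + 1)).range ≤ g.range) :
    ∃ χ' : ℕ → SUn 3 F 2 →* G, (∀ i, i + 1 < n → Pair hS (χ' i) (Uc i) (Uc (i + 1)) ∧
      (χ' i).range = (χ i).range) ∧ ∀ i, i + 2 < n → ∃ Φ : SUn 4 F 2 →* G,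
        (∀ x, Φ (tri hS 0 (by norm_num) x) = χ' i x) ∧ ∀ x, Φ (tail hS x) = χ' (i + 1) x := by
  classical
  suffices ∀ m, ∃ χ' : ℕ → SUn 3 F 2 →* G, (∀ i, i + 1 < n → Pair hS (χ' i) (Uc i) (Uc (i + 1)) ∧
      (χ' i).range = (χ i).range) ∧ ∀ i, i < m → i + 2 < n → ∃ Φ : SUn 4 F 2 →* G,
        (∀ x, Φ (tri hS 0 (by norm_num) x) = χ' i x) ∧ ∀ x, Φ (tail hS x) = χ' (i + 1) x by
    obtain ⟨χ', h1, h2⟩ := this n
    exact ⟨χ', h1, fun i hi => h2 i (by omega) hi⟩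
  intro m
  induction m with
  | zero => exact ⟨χ, fun i hi => ⟨hP i hi, rfl⟩, fun i hi => absurd hi (Nat.not_lt_zero i)⟩
  | succ m ih =>
    obtain ⟨χ', h1, h2⟩ := ih
    by_cases hm : m + 2 < n
    swap
    · exact ⟨χ', h1, fun i hi hi' => h2 i (by omega) hi'⟩
    obtain ⟨p1, r1⟩ := h1 m (by omega)
    obtain ⟨p2, r2⟩ := h1 (m + 1) (by omega)
    obtain ⟨g, g1, g2⟩ := h4 m hm
    obtain ⟨χ'', Φ, hp, hr, e1, e2⟩ := exists_block hS (g := g) p1 p2 (r1 ▸ g1) (r2 ▸ g2) (hc m (m + 2) le_rfl hm)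
    refine ⟨update χ' (m + 1) χ'', fun i hi => ?_, fun i hi hi' => ?_⟩
    · by_cases h : i = m + 1
      · subst h; rw [update_self]; exact ⟨hp, hr.trans r2⟩
      · rw [update_of_ne h]; exact h1 i hi
    · by_cases h : i = m
      · subst h; rw [update_self, update_of_ne (by omega)]; exact ⟨Φ, e1, e2⟩
      · rw [update_of_ne (by omega), update_of_ne (by omega)]; exact h2 i (by omega) hi'

/-- Blocks of four with the commutation of distant members extend to the whole group. -/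
theorem exists_chain {n : ℕ} {χ : ℕ → SUn 3 F 2 →* G}
    (h4 : ∀ i, i + 2 < n → ∃ Φ : SUn 4 F 2 →* G,
      (∀ x, Φ (tri hS 0 (by norm_num) x) = χ i x) ∧ ∀ x, Φ (tail hS x) = χ (i + 1) x)
    (h5 : ∀ i j, i + 2 ≤ j → j + 1 < n → ∀ x y, χ i (e01 hS x) * χ j y = χ j y * χ i (e01 hS x))
    (h6 : ∀ i j, i + 3 ≤ j → j + 1 < n → ∀ x y, χ i x * χ j y = χ j y * χ i x) :
    ∀ (N : ℕ), 4 ≤ N → ∀ s, s + N ≤ n + 1 → ∃ f : SUn N F 2 →* G,
      ∀ i (hi : i + 3 ≤ N) x, f (tri hS i hi x) = χ (s + i) x := by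
  intro N
  induction N with
  | zero => intro h; omega
  | succ N ih =>
    intro hN s hs
    obtain ⟨Φ, p0, p1⟩ := h4 s (by omega)
    by_cases h3 : N = 3
    · subst h3
      refine ⟨Φ, fun i hi x => ?_⟩
      obtain rfl | rfl : i = 0 ∨ i = 1 := by omega
      · exact p0 x
      · rw [← tail_tri hS 0 (by norm_num) x, tri_self hS, p1]
    obtain ⟨F0, hF0⟩ := ih (by omega) (s + 1) (by omega)
    have gl : Glue hS F0 Φ :=
      { four := by omega
        agree := fun h x => by rw [hF0, p1]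
        comm := fun h0 h hh => by
          obtain ⟨M, rfl⟩ : ∃ M, N = M + 1 := ⟨N - 1, by omega⟩
          obtain ⟨h', rfl⟩ := mem_tail hS (g := h) hh
          have hw : Φ (sw hS (show (0 : Fin 4) ≠ 1 by decide)) = χ s (e01 hS (w2 hS)) := by
            rw [e01_w, ← p0, sw_tri hS (by norm_num)]
          let H : Subgroup (SUn M F 2) := (Subgroup.centralizer {Φ (sw hS (show (0 : Fin 4) ≠ 1 by decide))}).comap
            (F0.comp (tail hS))
          have hH : H = ⊤ := gen_tri hS M (by omega) H fun i hi y => by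
            rw [Subgroup.mem_comap, Subgroup.mem_centralizer_iff]
            rintro _ rfl
            rw [MonoidHom.comp_apply, tail_tri hS, hF0, hw]
            exact h5 s (s + 1 + (i + 1)) (by omega) (by omega) _ _
          have := (hH ▸ Subgroup.mem_top h' : h' ∈ H)
          exact (Subgroup.mem_centralizer_iff.1 (Subgroup.mem_comap.1 this) _ rfl).symm
        six := fun h5' h x y => by
          rw [p0, hF0]
          exact h6 s (s + 1 + 2) (by omega) (by omega) x y }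
    obtain ⟨F1, t1, t2⟩ := gl.exists_hom hS hN
    refine ⟨F1, fun i hi x => ?_⟩
    rcases Nat.eq_zero_or_pos i with rfl | hpos
    · have e : tri hS 0 hi x = emb hS _ (first_injective hS hN) (tri hS 0 (show 0 + 3 ≤ 4 by norm_num) x) := by
        simp only [tri, emb_comp]
        congr 2
      rw [e, t2, p0]; rfl
    · obtain ⟨j, rfl⟩ : ∃ j, i = j + 1 := ⟨i - 1, by omega⟩
      rw [← tail_tri hS j (by omega) x, t1, hF0, show s + 1 + j = s + (j + 1) by omega]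

/-- A weak Phan system is a quotient of the unitary group. -/
theorem exists_surjection_two {n : ℕ} (hn : 4 ≤ n) {Uc : ℕ → Subgroup G} {χ : ℕ → SUn 3 F 2 →* G}
    (hP : ∀ i, i + 1 < n → Pair hS (χ i) (Uc i) (Uc (i + 1)))
    (hc : ∀ i j, i + 2 ≤ j → j < n → ∀ x ∈ Uc i, ∀ y ∈ Uc j, x * y = y * x)
    (h4 : ∀ i, i + 2 < n → ∃ g : SUn 4 F 2 →* G, (χ i).range ≤ g.range ∧ (χ (i + 1)).range ≤ g.range)
    (h5 : ∀ i j, i + 2 ≤ j → j + 1 < n → ∀ x ∈ Uc i, ∀ y ∈ (χ j).range, x * y = y * x)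
    (h6 : ∀ i j, i + 3 ≤ j → j + 1 < n → ∀ x ∈ (χ i).range, ∀ y ∈ (χ j).range, x * y = y * x) :
    ∃ f : SUn (n + 1) F 2 →* G, ∀ i, i + 1 < n → (χ i).range ≤ f.range ∧ Uc i ≤ f.range ∧ Uc (i + 1) ≤ f.range := by
  obtain ⟨χ', hp, hb⟩ := exists_blocks hS hP hc h4
  obtain ⟨f, hf⟩ := exists_chain hS hb
    (fun i j hij hj x y => h5 i j hij hj _ ((hp i (by omega)).1.left ▸ ⟨x, rfl⟩) _ ((hp j hj).2 ▸ ⟨y, rfl⟩))
    (fun i j hij hj x y => h6 i j hij hj _ ((hp i (by omega)).2 ▸ ⟨x, rfl⟩) _ ((hp j hj).2 ▸ ⟨y, rfl⟩))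
    (n + 1) (by omega) 0 (by omega)
  refine ⟨f, fun i hi => ?_⟩
  obtain ⟨p, r⟩ := hp i hi
  have hle : (χ' i).range ≤ f.range := by
    rintro _ ⟨x, rfl⟩
    exact ⟨tri hS i (by omega) x, by rw [hf, Nat.zero_add]⟩
  refine ⟨r ▸ hle, le_trans ?_ hle, le_trans ?_ hle⟩
  · rw [← p.left]; rintro _ ⟨x, rfl⟩; exact ⟨_, rfl⟩
  · rw [← p.right]; rintro _ ⟨x, rfl⟩; exact ⟨_, rfl⟩

end Cfsg.Agent.Phan.Two
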