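import Cfsg.Agent.Phan.TwoThree
import Cfsg.Agent.Phan.Chain
import Cfsg.Agent.Classical.UnitaryGroup

/-!
Images of SU₃ in SU₄ over the field with four elements, the automorphisms of SU₃, and the blocks of four
coordinates of a weak Phan system.
-/

set_option autoImplicit false
set_option linter.unusedSectionVars false
set_option linter.unusedSimpArgs false

open Matrix Function

namespace Cfsg.Agent.Phan.Two

universe u v

variable {F : Type u} [Field F] [Fintype F] {σ : F →+* F} [CharP F 2]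
variable (hS : Fld σ 2)
include hS

/-- Exponents for the non-zero scalars. -/
theorem exists_exp : ∃ e : Fin 3 → F, Injective e ∧ e 0 = 1 ∧ (∀ a b, e (a + b) = e a * e b) ∧
    (∀ a, e (-a) = (e a)⁻¹) ∧ ∀ x, x ≠ 0 → ∃ a, e a = x := by
  obtain ⟨ω, -, hω, hσω, h3, n1, n2, n3⟩ := exists_torus hS
  refine ⟨![1, ω, ω * ω], fun a b h => ?_, rfl, fun a b => ?_, fun a => ?_, fun x hx => ?_⟩
  · fin_cases a <;> fin_cases b <;> first
      | rfl
      | exact absurd h n1
      | exact absurd h.symm n1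
      | exact absurd h n2
      | exact absurd h.symm n2
      | exact absurd h n3
      | exact absurd h.symm n3
  · fin_cases a <;> fin_cases b <;> simp <;> first
      | exact h3.symm
      | linear_combination -h3
      | linear_combination -ω * h3
  · refine eq_inv_of_mul_eq_one_left ?_
    fin_cases a <;> simp <;> first | exact h3 | linear_combination h3
  · have hc : x * (x * x) = 1 := by
      have := nn_one hS hx
      rw [nn, hS.pow] at this
      linear_combination this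
    have : (x - 1) * ((x - ω) * (x - ω * ω)) = 0 := by
      linear_combination hc + (x - x ^ 2) * hω + (x - 1) * h3
    rcases mul_eq_zero.1 this with e | e
    · exact ⟨0, (sub_eq_zero.1 e).symm⟩
    rcases mul_eq_zero.1 e with e | e
    · exact ⟨1, (sub_eq_zero.1 e).symm⟩
    · exact ⟨2, (sub_eq_zero.1 e).symm⟩

theorem torus_ev {ω : F} (hσω : σ ω = ω * ω) (h : nn σ ω + nn σ (0 : F) = 1) (l : Fin 3) :
    ap (e12 hS (mk2 hS ω 0 h)) (ev l) = (![1, ω, ω * ω] : Fin 3 → F) l • ev l := by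
  funext i
  rw [e12_ap, mx_mk2]
  fin_cases l <;> fin_cases i <;> simp [ev, hσω]

theorem torus01_ev {ω : F} (hσω : σ ω = ω * ω) (h : nn σ ω + nn σ (0 : F) = 1) (l : Fin 3) :
    ap (e01 hS (mk2 hS ω 0 h)) (ev l) = (![ω, ω * ω, 1] : Fin 3 → F) l • ev l := by
  funext i
  rw [e01_ap, mx_mk2]
  fin_cases l <;> fin_cases i <;> simp [ev, hσω]

theorem cyc_cube : cyc hS ^ 3 = 1 :=
  ext_ev fun l => by
    rw [pow_three, ap_mul, ap_mul, cyc_ev hS, cyc_ev hS, cyc_ev hS, ap_one]
    fin_cases l <;> rfl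

theorem torus_cube {ω : F} (h : nn σ ω + nn σ (0 : F) = 1) : mk2 hS ω 0 h ^ 3 = 1 :=
  cube_of_diag hS rfl

/-- A central element fixing a non-zero vector is trivial. -/
theorem eq_one_of_fix {z : SUn 3 F 2} (hz : z ∈ Subgroup.center (SUn 3 F 2)) {v : Vec 3 F} (hv : v ≠ 0)
    (he : ap z v = v) : z = 1 := by
  obtain ⟨c, hc⟩ := center_scalar hS z hz
  rw [hc] at he
  have : c = 1 := by
    by_contra hne
    refine hv (funext fun i => ?_)
    have h := congrFun he i
    simp only [Pi.smul_apply, smul_eq_mul] at h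
    exact (mul_eq_zero.1 (show (c - 1) * v i = 0 by linear_combination h)).resolve_left (sub_ne_zero.2 hne)
  exact ext_ev fun l => by rw [hc, this, one_smul, ap_one]

/-- The central element given by the torus and the cycle. -/
theorem exists_z {ω : F} (hσω : σ ω = ω * ω) (h : nn σ ω + nn σ (0 : F) = 1) :
    ∃ z : SUn 3 F 2, z ∈ Subgroup.center (SUn 3 F 2) ∧ (∀ v, ap z v = ω • v) ∧
      e12 hS (mk2 hS ω 0 h) * cyc hS = cyc hS * e12 hS (mk2 hS ω 0 h) * z ∧ z ^ 3 = 1 := by
  set d := e12 hS (mk2 hS ω 0 h)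
  have h3 : ω * (ω * ω) = 1 := by rw [nn_zero, add_zero, nn, hσω] at h; exact h
  set z := (cyc hS * d)⁻¹ * (d * cyc hS)
  have hzl : ∀ l, ap z (ev l) = ω • ev l := fun l => by
    have hl : ap (cyc hS * d) (ω • ev l) = ap (d * cyc hS) (ev l) := by
      rw [ap_mul, ap_mul, cyc_ev hS, ap_smul, torus_ev hS hσω, ap_smul, ap_smul, cyc_ev hS, torus_ev hS hσω,
        smul_smul]
      congr 1
      fin_cases l <;> simp
      exact h3
    rw [ap_mul, ← hl, ap_inv_ap]
  have hv : ∀ v, ap z v = ω • v := fun v => by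
    have hx : v = ∑ i, v i • (ev i : Vec 3 F) := pi_eq_sum_univ' v
    conv_lhs => rw [hx, ap_sum]
    conv_rhs => rw [hx, Finset.smul_sum]
    exact Finset.sum_congr rfl fun i _ => by rw [ap_smul, hzl, smul_comm]
  refine ⟨z, central_of_scalar hS hzl, hv, (mul_inv_cancel_left _ _).symm, ext_ev fun l => ?_⟩
  rw [pow_three, ap_mul z, ap_mul z, hv, hv, hv, smul_smul, smul_smul, ap_one, mul_assoc, h3, one_smul]

/-- The product of the eigenvalues is one. -/
theorem prod_eigen {N : ℕ} {T h : SUn N F 2} {b : Fin N → F}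
    (hT : ∀ l, ap T (ap h (ev l)) = b l • ap h (ev l)) : ∏ l, b l = 1 := by
  have e : mx (h⁻¹ * T * h) = Matrix.diagonal b := by
    ext i l
    rw [← ap_ev_eq hS, ap_mul, ap_mul, hT, ap_smul, ap_inv_ap, Pi.smul_apply, smul_eq_mul]
    by_cases hil : i = l
    · subst hil; simp [ev_self]
    · simp [ev_ne hil, Matrix.diagonal_apply_ne _ hil]
  rw [← Matrix.det_diagonal, ← e]
  exact (h⁻¹ * T * h).1.2

omit hS [CharP F 2] in
theorem eigen_coord {N : ℕ} {T h : SUn N F 2} {c : Fin N → F} (hT : ∀ m, ap T (ap h (ev m)) = c m • ap h (ev m))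
    {v : Vec N F} {γ : F} (hv : ap T v = γ • v) (l : Fin N) : c l * ap h⁻¹ v l = γ * ap h⁻¹ v l := by
  have hx : ap h⁻¹ v = ∑ i, ap h⁻¹ v i • (ev i : Vec N F) := pi_eq_sum_univ' _
  have e : ap h⁻¹ (ap T v) = fun i => c i * ap h⁻¹ v i := by
    conv_lhs => rw [← ap_ap_inv h v, hx, ap_sum, ap_sum, ap_sum]
    funext i
    simp [Finset.sum_apply, ap_smul, hT]
    simp [ev, Pi.single_apply, mul_comm]
  have e2 := congrFun e l
  rw [hv, ap_smul] at e2
  exact e2.symm

/-- A vector with a single coordinate in a basis. -/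
theorem line_of_coord {N : ℕ} (h : SUn N F 2) {v : Vec N F} {l : Fin N} (hv : ∀ i, i ≠ l → ap h⁻¹ v i = 0) :
    v = ap h⁻¹ v l • ap h (ev l) := by
  have e : ap h⁻¹ v = ap h⁻¹ v l • ev l := funext fun i => by
    by_cases hi : i = l
    · subst hi; simp [ev_self]
    · simp [hv i hi, ev_ne hi]
  conv_lhs => rw [← ap_ap_inv h v, e, ap_smul]

/-- A non-central element of order three fixes a unit vector, unique up to a scalar. -/
theorem exists_line {A : SUn 3 F 2} (hA : A ^ 3 = 1) (hc : A ∉ Subgroup.center (SUn 3 F 2)) :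
    ∃ u : Vec 3 F, ip σ u u = 1 ∧ ap A u = u ∧ ∀ v, ap A v = v → ∃ c : F, v = c • u := by
  obtain ⟨e, he, he0, hem, -, hesurj⟩ := exists_exp hS
  obtain ⟨h, a, b, hab⟩ := exists_diag_two hS hA hA rfl
  have hT : ∀ l, ap A (ap h (ev l)) = a l • ap h (ev l) := fun l => (hab l).1
  have ha : ∀ l, ∃ x, e x = a l := fun l => hesurj _ fun e0 =>
    ap_ne_zero A (ap_ne_zero h (ev_ne_zero l)) (by rw [hT, e0, zero_smul])
  choose x hx using ha
  have hsum : x 0 + x 1 + x 2 = 0 := he (by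
    rw [hem, hem, hx, hx, hx, he0, ← prod_eigen hS hT, Fin.prod_univ_three])
  have hne : ¬(x 0 = x 1 ∧ x 1 = x 2) := fun ⟨e1, e2⟩ => hc (by
    have hall : ∀ l, a l = a 0 := fun l => by
      rw [← hx l, ← hx 0]; congr 1
      fin_cases l <;> simp [e1, e2]
    have hz : h⁻¹ * A * h ∈ Subgroup.center (SUn 3 F 2) := central_of_scalar hS (c := a 0) fun l => by
      rw [ap_mul, ap_mul, hT, ap_smul, ap_inv_ap, hall]
    have := Subgroup.Normal.conj_mem inferInstance _ hz h
    simpa [mul_assoc] using this)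
  have key : ∀ r s t : Fin 3, r + s + t = 0 → ¬(r = s ∧ s = t) →
      ∃ l : Fin 3, ![r, s, t] l = 0 ∧ ∀ i, i ≠ l → ![r, s, t] i ≠ 0 := by decide
  obtain ⟨l, hl0, hl⟩ := key _ _ _ hsum hne
  have hx3 : ∀ i, ![x 0, x 1, x 2] i = x i := fun i => by fin_cases i <;> rfl
  rw [hx3] at hl0
  refine ⟨ap h (ev l), by rw [ip_ap hS, ip_self_ev hS], by rw [hT, ← hx, hl0, he0, one_smul], fun v hv => ?_⟩
  refine ⟨_, line_of_coord hS h fun i hi => ?_⟩
  have h1 := eigen_coord (γ := 1) hT (v := v) (by rw [one_smul]; exact hv) i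
  by_contra hne0
  rw [one_mul, ← hx i] at h1
  exact hl i hi (by rw [hx3]; exact he (by rw [he0]; exact (mul_eq_right₀ hne0).1 h1))

/-- An image of SU₃ in SU₄ fixes a unit vector. -/
theorem exists_fixed (ρ : SUn 3 F 2 →* SUn 4 F 2) (hk : ρ.ker ≤ Subgroup.center (SUn 3 F 2)) :
    Injective ρ ∧ ∃ f : Vec 4 F, ip σ f f = 1 ∧ ∀ x, ap (ρ x) f = f := by
  obtain ⟨ω, hn, hω, hσω, h3, n1, n2, n3⟩ := exists_torus hS
  obtain ⟨J, j1, j2, j3, j0⟩ := exists_fourier hS hω hσω hn
  obtain ⟨z, hzc, hzv, hdc, hz3⟩ := exists_z hS hσω hn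
  obtain ⟨e, he, he0, hem, heneg, hesurj⟩ := exists_exp hS
  set d := e12 hS (mk2 hS ω 0 hn)
  have d3 : d ^ 3 = 1 := by rw [← map_pow, torus_cube hS, map_one]
  have D3 : ρ d ^ 3 = 1 := by rw [← map_pow, d3, map_one]
  have C3 : ρ (cyc hS) ^ 3 = 1 := by rw [← map_pow, cyc_cube hS, map_one]
  have Z3 : ρ z ^ 3 = 1 := by rw [← map_pow, hz3, map_one]
  have ne0 : ∀ {T h : SUn 4 F 2} {c : Fin 4 → F}, (∀ l, ap T (ap h (ev l)) = c l • ap h (ev l)) →
      ∀ l, c l ≠ 0 := fun {T h c} hc l e0 =>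
    ap_ne_zero T (ap_ne_zero h (ev_ne_zero l)) (by rw [hc, e0, zero_smul])
  have hz1 : ρ z ≠ 1 := by
    intro hz
    have hDC : ρ d * ρ (cyc hS) = ρ (cyc hS) * ρ d := by
      rw [← map_mul, hdc, map_mul, map_mul, hz, mul_one]
    obtain ⟨h, a, b, hab⟩ := exists_diag_two hS D3 C3 hDC
    have hex : ∀ l, ∃ p : Fin 3 × Fin 3, e p.1 = a l ∧ e p.2 = b l := fun l =>
      let ⟨x, hx⟩ := hesurj _ (ne0 (fun m => (hab m).1) l)
      let ⟨y, hy⟩ := hesurj _ (ne0 (fun m => (hab m).2) l)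
      ⟨(x, y), hx, hy⟩
    choose p hpa hpb using hex
    let W : Fin 3 × Fin 3 → Prop := fun r =>
      ∃ v, v ≠ 0 ∧ ap (ρ d) v = e r.1 • v ∧ ap (ρ (cyc hS)) v = e r.2 • v
    have hW : ∀ r, W r → ∃ l, p l = r := fun r ⟨v, hv, h1, h2⟩ => by
      obtain ⟨l, hl1, hl2⟩ := exists_coord hS hab hv h1 h2
      exact ⟨l, Prod.ext (he ((hpa l).trans hl1)) (he ((hpb l).trans hl2))⟩
    have cinv : ∀ {v : Vec 4 F} {c : Fin 3}, ap (ρ (cyc hS)⁻¹) v = e c • v → ap (ρ (cyc hS)) v = e (-c) • v :=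
      fun {v c} hv => by
        have hc0 : e c ≠ 0 := fun e0 => by
          have := hem c (-c)
          rw [add_neg_cancel, he0, e0, zero_mul] at this
          exact one_ne_zero this
        have := congrArg (ap (ρ (cyc hS))) hv
        rw [map_inv, ap_ap_inv, ap_smul] at this
        conv_rhs => rw [this, smul_smul, heneg, inv_mul_cancel₀ hc0, one_smul]
    have moveJ : ∀ r, W r → W (r.2, -r.1) := fun r ⟨v, hv, h1, h2⟩ =>
      ⟨ap (ρ J) v, ap_ne_zero _ hv, by rw [← ap_mul, ← map_mul, ← j2, map_mul, ap_mul, h2, ap_smul],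
        cinv (by rw [← ap_mul, ← map_mul, ← j1, map_mul, ap_mul, h1, ap_smul])⟩
    obtain ⟨s, hs, s0, s1, s2⟩ := exists_twist hS (s := ω) (fun e0 => by simp [e0] at h3)
    set Γ := Gam hS hs (RingEquiv.refl F)
    have hΓd : Γ d = d := ext_ev fun l => funext fun i => by
      rw [Gam_ap hS, torus_ev hS hσω]
      by_cases hil : i = l
      · subst hil
        have := (s i).ne_zero
        simp [ev_self]
        field_simp
      · simp [ev_ne hil]
    have hΓc : Γ (cyc hS) = cyc hS * d := ext_ev fun l => funext fun i => by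
      rw [Gam_ap hS, ap_mul, torus_ev hS hσω, ap_smul, cyc_ev hS]
      fin_cases l <;> fin_cases i <;> simp [ev, s0, s1, s2]
      exact inv_eq_of_mul_eq_one_right h3
    have moveK : ∀ r, W r → W (r.1 + r.2, -(r.1 + r.1 + r.2)) := fun r ⟨v, hv, h1, h2⟩ => by
      have k1 : ρ (Γ J) * ρ d = ρ (cyc hS * d)⁻¹ * ρ (Γ J) := by
        rw [← map_mul, ← map_mul]
        congr 1
        conv_lhs => rw [← hΓd]
        rw [← map_mul, j1, map_mul, map_inv, hΓc]
      have k2 : ρ (Γ J) * ρ (cyc hS * d) = ρ d * ρ (Γ J) := by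
        rw [← map_mul, ← map_mul]
        congr 1
        conv_rhs => rw [← hΓd]
        rw [← map_mul, ← j2, map_mul, hΓc]
      set w := ap (ρ (Γ J)) v
      have hD : ap (ρ d) w = e (r.1 + r.2) • w := by
        rw [← ap_mul, ← k2, ap_mul, map_mul, ap_mul, h1, ap_smul, h2, smul_smul, ap_smul, hem]
      refine ⟨w, ap_ne_zero _ hv, hD, cinv ?_⟩
      have hC : ap (ρ (cyc hS * d)⁻¹) w = e r.1 • w := by rw [← ap_mul, ← k1, ap_mul, h1, ap_smul]
      rw [map_inv, map_mul, _root_.mul_inv_rev, ap_mul] at hC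
      have := congrArg (ap (ρ d)) hC
      rw [ap_ap_inv, ap_smul, hD, smul_smul, ← hem, ← add_assoc] at this
      rw [map_inv]; exact this
    obtain ⟨l, hl⟩ : ∃ l, p l ≠ (0, 0) := by
      by_contra hall
      push Not at hall
      have hD1 : ρ d = 1 := by
        have hall' : h⁻¹ * ρ d * h = 1 := ext_ev fun l => by
          rw [ap_mul, ap_mul, (hab l).1, ap_smul, ap_inv_ap, ← hpa, hall, he0, one_smul, ap_one]
        rwa [mul_assoc, inv_mul_eq_one, right_eq_mul] at hall'
      have : d = 1 := eq_one_of_fix hS (hk hD1) (ev_ne_zero 0) (by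
        rw [torus_ev hS hσω]; simp)
      have h1 := congrFun (torus_ev hS hσω hn 1) 1
      rw [show e12 hS (mk2 hS ω 0 hn) = (1 : SUn 3 F 2) from this, ap_one] at h1
      simp [ev_self] at h1
      exact n1 h1.symm
    have w0 : W (p l) := ⟨ap h (ev l), ap_ne_zero h (ev_ne_zero l), by rw [hpa]; exact (hab l).1,
      by rw [hpb]; exact (hab l).2⟩
    set r := p l
    have five : ∀ a b : Fin 3, (a, b) ≠ (0, 0) → Injective
        (![(a, b), (b, -a), (-a, -b), (-b, a), (a + b, -(a + a + b))] : Fin 5 → Fin 3 × Fin 3) := by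
      unfold Injective; decide
    have wall : ∀ i : Fin 5, ∃ m, p m =
        (![(r.1, r.2), (r.2, -r.1), (-r.1, -r.2), (-r.2, r.1), (r.1 + r.2, -(r.1 + r.1 + r.2))] :
          Fin 5 → Fin 3 × Fin 3) i := by
      intro i
      have w1 := moveJ r w0
      have w2 := moveJ _ w1
      have w3 := moveJ _ w2
      simp only [neg_neg] at w3
      fin_cases i
      exacts [hW _ w0, hW _ w1, hW _ w2, hW _ w3, hW _ (moveK r w0)]
    choose m hm using wall
    have hinj : Injective m := fun i j hij => five r.1 r.2 hl (by rw [← hm, ← hm, hij])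
    simpa using Fintype.card_le_of_injective m hinj
  -- the centre acts with exactly one fixed coordinate
  have hZc : ∀ x, ρ z * ρ x = ρ x * ρ z := fun x => by
    rw [← map_mul, ← map_mul, Subgroup.mem_center_iff.1 hzc x]
  obtain ⟨h, a, b, hab⟩ := exists_diag_two hS D3 Z3 (hZc d).symm
  obtain ⟨l0, hl0⟩ : ∃ l, b l ≠ 1 := by
    by_contra hall
    push Not at hall
    have : h⁻¹ * ρ z * h = 1 := ext_ev fun l => by
      rw [ap_mul, ap_mul, (hab l).2, hall, one_smul, ap_inv_ap, ap_one]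
    rw [mul_assoc, inv_mul_eq_one, right_eq_mul] at this
    exact hz1 this
  have hshift : ∀ l, ∃ m, a m = a l * b l ∧ b m = b l := fun l => by
    refine exists_coord hS hab (ap_ne_zero (ρ (cyc hS)) (ap_ne_zero h (ev_ne_zero l))) ?_ ?_
    · rw [← ap_mul (ρ d), ← map_mul, hdc, map_mul, map_mul, ap_mul, ap_mul, (hab l).2, ap_smul, (hab l).1,
        smul_smul, ap_smul, mul_comm]
    · rw [← ap_mul (ρ z), hZc, ap_mul, (hab l).2, ap_smul]
  obtain ⟨l1, a1, b1⟩ := hshift l0
  obtain ⟨l2, a2, b2⟩ := hshift l1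
  have ha0 := ne0 (fun m => (hab m).1) l0
  have hb0 := ne0 (fun m => (hab m).2) l0
  have h01 : l0 ≠ l1 := fun e' => hl0 (mul_left_cancel₀ ha0 (by rw [mul_one, ← a1, ← e']))
  have hbb : b l0 * (b l0 * b l0) = 1 := by
    have := nn_one hS hb0
    rw [nn, hS.pow] at this
    linear_combination this
  have h12 : l1 ≠ l2 := fun e' => hl0 (mul_left_cancel₀ (mul_ne_zero ha0 hb0) (by
    rw [← a1, mul_one]
    nth_rw 2 [e']
    rw [a2, b1]))
  have h02 : l0 ≠ l2 := fun e' => by
    have : a l0 * 1 = a l0 * (b l0 * b l0) := by rw [mul_one, ← mul_assoc, ← a1]; conv_lhs => rw [e', a2, b1]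
    have hb2 : b l0 * b l0 = 1 := (mul_left_cancel₀ ha0 this).symm
    exact hl0 (by rw [← hbb, hb2, mul_one])
  have hpick : ∀ x y w : Fin 4, x ≠ y → y ≠ w → x ≠ w →
      ∃ t, t ≠ x ∧ t ≠ y ∧ t ≠ w ∧ ∀ i, i ≠ t → i = x ∨ i = y ∨ i = w := by decide
  obtain ⟨l3, t0, t1, t2, hrest⟩ := hpick _ _ _ h01 h12 h02
  have hbl : ∀ i, i ≠ l3 → b i = b l0 := fun i hi => by
    rcases hrest i hi with rfl | rfl | rfl
    exacts [rfl, b1, b2.trans b1]
  have hb3 : b l3 = 1 := by
    have := prod_eigen hS fun m => (hab m).2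
    rw [← Finset.mul_prod_erase _ _ (Finset.mem_univ l3),
      Finset.prod_congr rfl (g := fun _ => b l0) (fun i hi => hbl i (Finset.ne_of_mem_erase hi)),
      Finset.prod_const, Finset.card_erase_of_mem (Finset.mem_univ _), Finset.card_univ, Fintype.card_fin] at this
    rw [show (4 - 1 : ℕ) = 3 from rfl, pow_three, hbb, mul_one] at this
    exact this
  set f := ap h (ev l3)
  have hf : ip σ f f = 1 := by rw [ip_ap hS, ip_self_ev hS]
  have hline : ∀ x, ap (ρ x) f = ip σ (ap (ρ x) f) f • f := fun x => by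
    have hv : ap (ρ z) (ap (ρ x) f) = (1 : F) • ap (ρ x) f := by
      rw [← ap_mul, hZc, ap_mul, (hab l3).2, hb3, one_smul, one_smul]
    have hl := line_of_coord hS h (v := ap (ρ x) f) (l := l3) fun i hi => by
      have := eigen_coord (fun m => (hab m).2) hv i
      rw [hbl i hi] at this
      exact (mul_eq_zero.1 (show (b l0 - 1) * _ = 0 by linear_combination this)).resolve_left (sub_ne_zero.2 hl0)
    conv_lhs => rw [hl]
    congr 1
    conv_rhs => rw [hl, ip_smul_left, hf, mul_one]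
  have hμ0 : ∀ x, ip σ (ap (ρ x) f) f ≠ 0 := fun x e0 =>
    ap_ne_zero (ρ x) (ap_ne_zero h (ev_ne_zero l3)) ((hline x).trans (by rw [e0, zero_smul]))
  let μ : SUn 3 F 2 →* Fˣ := MonoidHom.mk' (fun x => Units.mk0 _ (hμ0 x)) fun x y => Units.ext (by
    show ip σ (ap (ρ (x * y)) f) f = ip σ (ap (ρ x) f) f * ip σ (ap (ρ y) f) f
    conv_lhs => rw [map_mul, ap_mul, hline y, ap_smul, ip_smul_left]
    rw [mul_comm])
  have hμ : ∀ x, μ x = 1 := hom_trivial hS μ fun x => Units.ext (by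
    have := nn_one hS (hμ0 x)
    rw [nn, hS.pow] at this
    show ip σ (ap (ρ x) f) f ^ 3 = 1
    linear_combination this)
  refine ⟨(injective_iff_map_eq_one ρ).2 fun x hx => ?_, f, hf, fun x => ?_⟩
  · have hc := hk hx
    obtain ⟨c, hc'⟩ := center_scalar hS x hc
    obtain ⟨k, rfl⟩ : ∃ k : Fin 3, (![1, ω, ω * ω] : Fin 3 → F) k = c := by
      have hc0 : c ≠ 0 := fun e0 => ap_ne_zero x (ev_ne_zero 0) (by rw [hc', e0, zero_smul])
      have hc3 : c * (c * c) = 1 := by
        have := nn_one hS hc0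
        rw [nn, hS.pow] at this
        linear_combination this
      have : (c - 1) * ((c - ω) * (c - ω * ω)) = 0 := by
        linear_combination hc3 + (c - c ^ 2) * hω + (c - 1) * h3
      rcases mul_eq_zero.1 this with e' | e'
      · exact ⟨0, (sub_eq_zero.1 e').symm⟩
      rcases mul_eq_zero.1 e' with e' | e'
      · exact ⟨1, (sub_eq_zero.1 e').symm⟩
      · exact ⟨2, (sub_eq_zero.1 e').symm⟩
    fin_cases k
    · exact ext_ev fun l => by rw [hc', ap_one]; simp
    · exfalso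
      refine hz1 ?_
      rw [show z = x from ext_ev fun l => by rw [hzv, hc']; rfl]
      exact hx
    · exfalso
      refine hz1 ?_
      have : z * z = x := ext_ev fun l => by rw [ap_mul, hzv, hzv, smul_smul, hc']; rfl
      rw [← this, map_mul] at hx
      rw [pow_three, hx, mul_one] at Z3
      exact Z3
  · rw [hline x]
    have := congrArg Units.val (hμ x)
    rw [show ip σ (ap (ρ x) f) f = 1 from this, one_smul]

end Cfsg.Agent.Phan.Two
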