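import Cfsg.Agent.Phan.Normal

/-!
The unitary groups over the field with four elements: transitivity on unit vectors, generation by triples.
-/

set_option autoImplicit false
set_option linter.unusedSectionVars false
set_option linter.unusedSimpArgs false

open Matrix Function

namespace Cfsg.Agent.Phan.Two

universe u

variable {F : Type u} [Field F] [Fintype F] {σ : F →+* F} [CharP F 2]

theorem two_zero : (2 : F) = 0 := by
  have h := CharP.cast_eq_zero F 2
  exact_mod_cast h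

variable (hS : Fld σ 2)
include hS

theorem nn_one {x : F} (hx : x ≠ 0) : nn σ x = 1 := by
  have h4 : (x * x) * (x * x) = x := by
    have := hS.sigma_sigma x
    rw [hS.pow, hS.pow] at this
    linear_combination this
  refine mul_left_cancel₀ hx ?_
  rw [nn, hS.pow]
  linear_combination h4

theorem exists_omega : ∃ ω : F, ω * ω + ω + 1 = 0 ∧ σ ω = ω * ω ∧ ω * (ω * ω) = 1 := by
  obtain ⟨η, hη, hη'⟩ := hS.exists_moved
  have h3 : η * (η * η) = 1 := by rw [← hη, nn, hS.pow]; ring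
  have hne : η - 1 ≠ 0 := fun e => hη' (by rw [sub_eq_zero.1 e, map_one])
  refine ⟨η, ?_, by rw [hS.pow]; ring, h3⟩
  exact (mul_eq_zero.1 (show (η - 1) * (η * η + η + 1) = 0 by linear_combination h3)).resolve_left hne

omit hS [CharP F 2] in
theorem ip_add_left {N : ℕ} (x y z : Vec N F) : ip σ (x + y) z = ip σ x z + ip σ y z := by
  simp [ip, add_mul, Finset.sum_add_distrib]

omit hS [CharP F 2] in
theorem ip_add_right {N : ℕ} (x y z : Vec N F) : ip σ x (y + z) = ip σ x y + ip σ x z := by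
  simp [ip, mul_add, Finset.sum_add_distrib]

omit hS [CharP F 2] in
theorem ip_smul_left {N : ℕ} (c : F) (x y : Vec N F) : ip σ (c • x) y = c * ip σ x y := by
  simp [ip, Finset.mul_sum, mul_assoc]

omit hS [CharP F 2] in
theorem ip_smul_right {N : ℕ} (c : F) (x y : Vec N F) : ip σ x (c • y) = σ c * ip σ x y := by
  simp [ip, Finset.mul_sum, mul_left_comm]

theorem ip_symm {N : ℕ} (x y : Vec N F) : σ (ip σ x y) = ip σ y x := by
  simp [ip, map_sum, hS.sigma_sigma, mul_comm]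

theorem ip_zero_symm {N : ℕ} {x y : Vec N F} (h : ip σ x y = 0) : ip σ y x = 0 := by
  rw [← ip_symm hS, h, map_zero]

theorem ip_ev_left {N : ℕ} (l : Fin N) (y : Vec N F) : ip σ (ev l) y = σ (y l) := by
  rw [← ip_symm hS, ip_ev]

theorem ip_self_ev {N : ℕ} (l : Fin N) : ip σ (ev l : Vec N F) (ev l) = 1 := by rw [ip_ev, ev_self]

/-- A unit vector orthogonal to a given one, on the coordinates from `k`. -/
theorem exists_perp {M : ℕ} (k : ℕ) (hk : k + 3 ≤ M) (w : Vec M F) :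
    ∃ z : Vec M F, Supp k z ∧ ip σ z z = 1 ∧ ip σ z w = 0 := by
  by_cases h : ∃ i : Fin M, k ≤ (i : ℕ) ∧ w i = 0
  · obtain ⟨i, hi, hwi⟩ := h
    exact ⟨ev i, supp_ev hi, ip_self_ev hS i, by rw [ip_ev_left hS, hwi, map_zero]⟩
  push Not at h
  set i0 : Fin M := ⟨k, by omega⟩
  set i1 : Fin M := ⟨k + 1, by omega⟩
  set i2 : Fin M := ⟨k + 2, by omega⟩
  have h01 : i0 ≠ i1 := by simp [i0, i1, Fin.ext_iff]
  have h02 : i0 ≠ i2 := by simp [i0, i2, Fin.ext_iff]
  have h12 : i1 ≠ i2 := by simp [i1, i2, Fin.ext_iff]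
  obtain ⟨ω, hω, hσω, hω3⟩ := exists_omega hS
  have w0 : σ (w i0) ≠ 0 := (map_ne_zero σ).2 (h i0 (by simp [i0]))
  have w1 : σ (w i1) ≠ 0 := (map_ne_zero σ).2 (h i1 (by simp [i1]))
  have w2 : σ (w i2) ≠ 0 := (map_ne_zero σ).2 (h i2 (by simp [i2]))
  have hω0 : ω ≠ 0 := fun e => by simp [e] at hω3
  set a := (σ (w i0))⁻¹
  set b := ω * (σ (w i1))⁻¹
  set c := ω * ω * (σ (w i2))⁻¹
  refine ⟨a • ev i0 + b • ev i1 + c • ev i2, fun l hl => ?_, ?_, ?_⟩
  · have e0 : l ≠ i0 := fun e => by subst e; simp [i0] at hl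
    have e1 : l ≠ i1 := fun e => by subst e; simp [i1] at hl
    have e2 : l ≠ i2 := fun e => by subst e; simp [i2] at hl
    simp [ev_ne e0, ev_ne e1, ev_ne e2]
  · simp only [ip_add_left, ip_add_right, ip_smul_left, ip_smul_right, ip_ev, Pi.add_apply, Pi.smul_apply,
      smul_eq_mul, ev_self, ev_ne h01, ev_ne h02,
      ev_ne h12, ev_ne h01.symm, ev_ne h02.symm, ev_ne h12.symm, mul_zero, add_zero, zero_add, mul_one]
    have ha := nn_one hS (x := a) (inv_ne_zero w0)
    have hb := nn_one hS (x := b) (mul_ne_zero hω0 (inv_ne_zero w1))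
    have hc := nn_one hS (x := c) (mul_ne_zero (mul_ne_zero hω0 hω0) (inv_ne_zero w2))
    unfold nn at ha hb hc
    linear_combination ha + hb + hc + two_zero (F := F)
  · simp only [ip_add_left, ip_smul_left, ip_ev_left hS]
    simp only [a, b, c, mul_assoc, inv_mul_cancel₀ w0, inv_mul_cancel₀ w1, inv_mul_cancel₀ w2, mul_one]
    linear_combination hω

theorem tv_det {N : ℕ} (d : Vec N F) (hd : ip σ d d = 0) :
    ((1 : Matrix (Fin N) (Fin N) F) + Matrix.vecMulVec d (fun i => σ (d i))).det = 1 := by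
  rw [Matrix.vecMulVec_eq Unit, Matrix.det_one_add_replicateCol_mul_replicateRow]
  have h : (fun i => σ (d i)) ⬝ᵥ d = ip σ d d := Finset.sum_congr rfl fun i _ => mul_comm _ _
  rw [h, hd, add_zero]

theorem tv_mulVec {N : ℕ} (d u : Vec N F) :
    (1 + Matrix.vecMulVec d (fun i => σ (d i))) *ᵥ u = u + ip σ u d • d := by
  rw [Matrix.add_mulVec, Matrix.one_mulVec, Matrix.vecMulVec_mulVec]
  funext i
  show u i + (MulOpposite.op ((fun i => σ (d i)) ⬝ᵥ u)) • d i = u i + ip σ u d * d i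
  rw [MulOpposite.smul_eq_mul_unop, MulOpposite.unop_op,
    show (fun i => σ (d i)) ⬝ᵥ u = ip σ u d from Finset.sum_congr rfl fun i _ => mul_comm _ _, mul_comm]

theorem tv_ip {N : ℕ} (d : Vec N F) (hd : ip σ d d = 0) (u v : Vec N F) :
    ip σ (u + ip σ u d • d) (v + ip σ v d • d) = ip σ u v := by
  simp only [ip_add_left, ip_add_right, ip_smul_left, ip_smul_right, hd]
  rw [ip_symm hS v d]
  linear_combination (ip σ u d * ip σ d v) * two_zero (F := F)

/-- The transvection along an isotropic vector. -/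
def tv {N : ℕ} (d : Vec N F) (hd : ip σ d d = 0) : SUn N F 2 :=
  ⟨⟨1 + Matrix.vecMulVec d (fun i => σ (d i)), tv_det hS d hd⟩, fun u v =>
    (hermForm_eq hS _ _).trans ((congrArg₂ (ip σ) (tv_mulVec hS d u) (tv_mulVec hS d v)).trans
      ((tv_ip hS d hd u v).trans (hermForm_eq hS u v).symm))⟩

theorem tv_ap {N : ℕ} (d : Vec N F) (hd : ip σ d d = 0) (u : Vec N F) :
    ap (tv hS d hd) u = u + ip σ u d • d :=
  tv_mulVec hS d u

/-- Orthogonal unit vectors are exchanged by a transvection. -/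
theorem exists_step {M : ℕ} {k : ℕ} {a b : Vec M F} (ha : ip σ a a = 1) (hb : ip σ b b = 1) (hab : ip σ a b = 0)
    (sa : Supp k a) (sb : Supp k b) : ∃ g : SUn M F 2, g ∈ lowFix k ∧ ap g a = b := by
  have hd : ip σ (a + b) (a + b) = 0 := by
    simp only [ip_add_left, ip_add_right, ha, hb, hab, ip_zero_symm hS hab]
    linear_combination two_zero (F := F)
  refine ⟨tv hS (a + b) hd, fun l hl => ?_, ?_⟩
  · rw [tv_ap hS, ip_ev_left hS, Pi.add_apply, sa l hl, sb l hl, add_zero, map_zero, zero_smul, add_zero]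
  · rw [tv_ap hS, ip_add_right, ha, hab, add_zero, one_smul, ← add_assoc]
    have : a + a = 0 := funext fun i => by
      show a i + a i = 0
      linear_combination (a i) * two_zero (F := F)
    rw [this, zero_add]

/-- An element of SU₃ with a given first column of full weight. -/
theorem exists_col {a b c : F} (ha : a ≠ 0) (hb : b ≠ 0) (hc : c ≠ 0) :
    ∃ g : SUn 3 F 2, ap g (ev 0) = ![a, b, c] := by
  obtain ⟨ω, hω, hσω, hω3⟩ := exists_omega hS
  set lam := (a * b * c)⁻¹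
  have hl : lam ≠ 0 := inv_ne_zero (mul_ne_zero (mul_ne_zero ha hb) hc)
  set M : Matrix (Fin 3) (Fin 3) F :=
    !![a, a * lam, a; b, b * (lam * ω), b * (ω * ω); c, c * (lam * (ω * ω)), c * ω]
  have hdet : M.det = 1 := by
    have hli : lam * (a * b * c) = 1 := inv_mul_cancel₀ (mul_ne_zero (mul_ne_zero ha hb) hc)
    rw [Matrix.det_fin_three]
    simp [M]
    linear_combination (3 * (ω * ω) - ω - ω - ω * ω * ω * ω) * hli + (1 + (ω * ω) + (ω * ω) + (-1 - ω)) * two_zero (F := F) -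
      (2 : F) * hω + (0 : F) * hσω + hω - ω * hω3
  refine ⟨⟨⟨M, hdet⟩, fun u v => ?_⟩, funext fun i => ?_⟩
  · show Cfsg.hermForm 3 F 2 (M *ᵥ u) (M *ᵥ v) = Cfsg.hermForm 3 F 2 u v
    rw [hermForm_eq hS, hermForm_eq hS]
    have e : ∀ u : Vec 3 F, M *ᵥ u = ![a * (u 0 + lam * u 1 + u 2), b * (u 0 + lam * ω * u 1 + ω * ω * u 2),
        c * (u 0 + lam * (ω * ω) * u 1 + ω * u 2)] := fun u => by
      ext i; fin_cases i <;> simp [M, mulVec, dotProduct, Fin.sum_univ_three] <;> ring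
    have hn : ∀ {x : F}, x ≠ 0 → ∀ r s, x * r * σ (x * s) = r * σ s := fun {x} hx r s => by
      have := nn_one hS hx
      unfold nn at this
      rw [map_mul]
      linear_combination (r * σ s) * this
    rw [e, e]
    simp only [ip, Fin.sum_univ_three, Matrix.cons_val_zero, Matrix.cons_val_one, Matrix.cons_val_two,
      Matrix.head_cons, Matrix.tail_cons]
    rw [hn ha, hn hb, hn hc]
    simp only [map_add, map_mul, hσω]
    have hlam := nn_one hS hl
    unfold nn at hlam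
    linear_combination (u 0 * σ (v 0) + lam * u 1 * (σ lam * σ (v 1)) + u 2 * σ (v 2)) * two_zero (F := F) +
      2 * (lam * u 1 * (σ lam * σ (v 1)) + u 2 * σ (v 2)) * hω3 + u 1 * σ (v 1) * hlam +
      (u 0 * (σ lam * σ (v 1)) + u 0 * σ (v 2) + lam * u 1 * σ (v 0) + u 2 * σ (v 0) + lam * u 1 * σ (v 2) +
        u 2 * (σ lam * σ (v 1))) * hω + ω * (lam * u 1 * σ (v 2) + u 2 * (σ lam * σ (v 1))) * hω3 +
      (ω * (u 0 * σ lam * σ (v 1) + u 0 * σ (v 2)) + ω * ω * (lam * u 1 * σ (v 2) + u 2 * σ lam * σ (v 1)) +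
        ω * ω * ω * (lam * u 1 * σ lam * σ (v 1) + u 2 * σ (v 2))) * hω3
  · show (M *ᵥ ev 0) i = _
    rw [ev, mulVec_single_one]
    fin_cases i <;> simp [M]

/-- Unit vectors on the coordinates from `k` form one orbit. -/
theorem exists_map {M : ℕ} (k : ℕ) (hk : k + 3 ≤ M) {x : Vec M F} (hx : Supp k x) (h1 : ip σ x x = 1) :
    ∃ g : SUn M F 2, g ∈ lowFix k ∧ ap g (ev ⟨k, by omega⟩) = x := by
  set i0 : Fin M := ⟨k, by omega⟩
  have se : Supp (F := F) k (ev i0) := supp_ev (by simp [i0])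
  suffices H : ∀ z, Supp k z → ip σ z z = 1 → ip σ z (ev i0) = 0 → ip σ z x = 0 →
      ∃ g : SUn M F 2, g ∈ lowFix k ∧ ap g (ev i0) = x by
    by_cases h4 : k + 4 ≤ M
    · obtain ⟨z, hzs, hz1, hzx⟩ := exists_perp hS (k + 1) (by omega) x
      exact H z (hzs.mono (Nat.le_succ k)) hz1 (by rw [ip_ev]; exact hzs i0 (by simp [i0])) hzx
    have hM : M = k + 3 := by omega
    subst hM
    set i1 : Fin (k + 3) := ⟨k + 1, by omega⟩
    set i2 : Fin (k + 3) := ⟨k + 2, by omega⟩
    by_cases h : ∃ j : Fin (k + 3), k < (j : ℕ) ∧ x j = 0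
    · obtain ⟨j, hj, hxj⟩ := h
      exact H (ev j) (supp_ev hj.le) (ip_self_ev hS j)
        (by rw [ip_ev, ev_ne (Fin.ne_of_val_ne (by simp [i0]; omega))]) (by rw [ip_ev_left hS, hxj, map_zero])
    push Not at h
    by_cases h0 : x i0 = 0
    · exact exists_step hS (ip_self_ev hS i0) h1 (by rw [ip_ev_left hS, h0, map_zero]) se hx
    obtain ⟨g, hg⟩ := exists_col hS h0 (h i1 (by simp [i1])) (h i2 (by simp [i2]))
    have hc : Injective (![i0, i1, i2] : Fin 3 → Fin (k + 3)) := by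
      intro a b hab
      fin_cases a <;> fin_cases b <;> simp [i0, i1, i2] at hab <;> rfl
    refine ⟨emb hS _ hc g, fun l hl => emb_ev_ne hS _ _ _ ?_, funext fun l => ?_⟩
    · rintro ⟨a, rfl⟩
      fin_cases a <;> simp [i0, i1, i2] at hl
    · by_cases hl : (l : ℕ) < k
      · have : l ∉ Set.range (![i0, i1, i2] : Fin 3 → Fin (k + 3)) := by
          rintro ⟨a, rfl⟩
          fin_cases a <;> simp [i0, i1, i2] at hl
        rw [emb_ne hS _ hc g _ this, hx l hl, ev_ne (Fin.ne_of_val_ne (by simp [i0]; omega))]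
      obtain ⟨a, rfl⟩ : ∃ a : Fin 3, (![i0, i1, i2] : Fin 3 → Fin (k + 3)) a = l := by
        obtain h' | h' | h' : (l : ℕ) = k ∨ (l : ℕ) = k + 1 ∨ (l : ℕ) = k + 2 := by omega
        exacts [⟨0, Fin.ext h'.symm⟩, ⟨1, Fin.ext h'.symm⟩, ⟨2, Fin.ext h'.symm⟩]
      rw [emb_c, show (ev i0 : Vec (k + 3) F) ∘ ![i0, i1, i2] = ev 0 from ev_comp _ hc 0, hg]
      fin_cases a <;> rfl
  intro z hz hz1 hze hzx
  obtain ⟨g1, hg1, e1⟩ := exists_step hS (ip_self_ev hS i0) hz1 (ip_zero_symm hS hze) se hz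
  obtain ⟨g2, hg2, e2⟩ := exists_step hS hz1 h1 hzx hz hx
  exact ⟨g2 * g1, mul_mem hg2 hg1, by rw [ap_mul, e1, e2]⟩

/-! ### Generation -/

theorem succ_injective {N : ℕ} : Injective (Fin.succ : Fin N → Fin (N + 1)) := Fin.succ_injective N

/-- The embedding moving the coordinates after the first. -/
noncomputable def tail {N : ℕ} : SUn N F 2 →* SUn (N + 1) F 2 := emb hS Fin.succ (succ_injective hS)

theorem tail_ev_zero {N : ℕ} (h : SUn N F 2) : ap (tail hS h) (ev 0) = ev 0 :=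
  emb_ev_ne hS _ _ _ fun ⟨a, e⟩ => Fin.succ_ne_zero a e

theorem mem_tail {N : ℕ} {g : SUn (N + 1) F 2} (hg : ap g (ev 0) = ev 0) : ∃ h, tail hS h = g := by
  have : g ∈ (emb hS (Fin.succ : Fin N → Fin (N + 1)) (succ_injective hS)).range := by
    rw [range_emb]
    intro l hl
    obtain rfl | ⟨a, rfl⟩ := l.eq_zero_or_eq_succ
    · exact hg
    · exact absurd ⟨a, rfl⟩ hl
  exact this

theorem tail_ev_succ {N : ℕ} (h : SUn N F 2) (a : Fin N) (l : Fin N) :
    ap (tail hS h) (ev a.succ) l.succ = ap h (ev a) l := by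
  rw [tail, emb_c, ev_comp _ (succ_injective hS)]

theorem tail_fix {N : ℕ} {h : SUn N F 2} {a : Fin N} (he : ap h (ev a) = ev a) :
    ap (tail hS h) (ev a.succ) = ev a.succ := by
  funext l
  obtain rfl | ⟨b, rfl⟩ := l.eq_zero_or_eq_succ
  · rw [coord_fix hS (tail_ev_zero hS h)]
  · rw [tail_ev_succ hS, he]
    simp [ev, Pi.single_apply]

theorem fix_of_tail {N : ℕ} {h : SUn N F 2} {a : Fin N} (he : ap (tail hS h) (ev a.succ) = ev a.succ) :
    ap h (ev a) = ev a := by
  funext l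
  rw [← tail_ev_succ hS, he]
  simp [ev, Pi.single_apply]

/-- The exchange of two coordinates. -/
noncomputable def sw {N : ℕ} {i j : Fin N} (hij : i ≠ j) : SUn N F 2 := turn hS hij

theorem sw_fst {N : ℕ} {i j : Fin N} (hij : i ≠ j) : ap (sw hS hij) (ev i) = ev j := by
  funext l
  by_cases h1 : l = i
  · subst h1; rw [sw, turn_fst hS, ev_ne hij, ev_ne hij.symm, neg_zero]
  by_cases h2 : l = j
  · subst h2; rw [sw, turn_snd hS, ev_self, ev_self]
  rw [sw, turn_other hS hij _ h1 h2, ev_ne h1, ev_ne h2]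

theorem sw_snd {N : ℕ} {i j : Fin N} (hij : i ≠ j) : ap (sw hS hij) (ev j) = ev i := by
  funext l
  by_cases h1 : l = i
  · subst h1; rw [sw, turn_fst hS, ev_self, ev_self]
    linear_combination -(two_zero (F := F))
  by_cases h2 : l = j
  · subst h2; rw [sw, turn_snd hS, ev_ne hij, ev_ne hij.symm]
  rw [sw, turn_other hS hij _ h1 h2, ev_ne h1, ev_ne h2]

theorem sw_ne {N : ℕ} {i j l : Fin N} (hij : i ≠ j) (h1 : l ≠ i) (h2 : l ≠ j) :
    ap (sw hS hij) (ev l) = ev l := pairEl_mem hS hij _ _ _ l ⟨h1, h2⟩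

/-- The stabiliser of a basis vector and an exchange generate. -/
theorem gen_swap {N : ℕ} (hN : 3 ≤ N) {H : Subgroup (SUn (N + 1) F 2)} (ht : ∀ h, tail hS h ∈ H)
    {i : Fin (N + 1)} (hi : (i : ℕ) = 1)
    (hu : sw hS (show (0 : Fin (N + 1)) ≠ i from fun e => by simp [← e] at hi) ∈ H) : H = ⊤ := by
  have he0 : (⟨0, by omega⟩ : Fin (N + 1)) = 0 := rfl
  have hfix : ∀ g : SUn (N + 1) F 2, ap g (ev 0) = ev 0 → g ∈ H := fun g hg => by
    obtain ⟨h, rfl⟩ := mem_tail hS hg; exact ht h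
  -- neighbours of reached vectors are reached
  have step : ∀ h ∈ H, ∀ z, ip σ z z = 1 → ip σ z (ap h (ev 0)) = 0 → ∃ h' ∈ H, ap h' (ev 0) = z := by
    intro h hh z hz hzh
    have hz' : ip σ (ap h⁻¹ z) (ap h⁻¹ z) = 1 := by rw [ip_ap hS, hz]
    have hs : Supp 1 (ap h⁻¹ z) := fun l hl => by
      obtain rfl : l = 0 := Fin.ext (by simp only [Fin.val_zero]; omega)
      rw [← ip_ev (σ := σ) (ap h⁻¹ z) 0, ← ip_ap hS h, ap_ap_inv, hzh]
    obtain ⟨g, hg, hge⟩ := exists_map hS 1 (by omega) hs hz'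
    rw [show (⟨1, by omega⟩ : Fin (N + 1)) = i from Fin.ext hi.symm] at hge
    refine ⟨h * g * sw hS _, mul_mem (mul_mem hh (hfix g (hg 0 (by simp)))) hu, ?_⟩
    rw [ap_mul, ap_mul, sw_fst hS, hge, ap_ap_inv]
  refine eq_top_iff.2 fun g _ => ?_
  set x := ap g (ev 0)
  have hx : ip σ x x = 1 := by rw [ip_ap hS, ip_self_ev hS]
  obtain ⟨z, hzs, hz, hzx⟩ := exists_perp hS 1 (by omega) x
  obtain ⟨h1, hh1, e1⟩ := step 1 (one_mem _) z hz (by rw [ap_one, ip_ev]; exact hzs 0 (by simp))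
  obtain ⟨h2, hh2, e2⟩ := step h1 hh1 x hx (by rw [e1]; exact ip_zero_symm hS hzx)
  have := hfix (h2⁻¹ * g) (by rw [ap_mul]; show ap h2⁻¹ x = _; rw [← e2, ap_inv_ap])
  simpa using mul_mem hh2 this

/-- The cycle on three coordinates. -/
noncomputable def cyc : SUn 3 F 2 :=
  sw hS (show (0 : Fin 3) ≠ 1 by decide) * sw hS (show (1 : Fin 3) ≠ 2 by decide)

theorem cyc_ev (a : Fin 3) : ap (cyc hS) (ev a) = ev ((![1, 2, 0] : Fin 3 → Fin 3) a) := by
  fin_cases a
  · show ap _ (ev 0) = ev 1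
    rw [cyc, ap_mul, sw_ne hS _ (by decide) (by decide), sw_fst hS]
  · show ap _ (ev 1) = ev 2
    rw [cyc, ap_mul, sw_fst hS, sw_ne hS _ (by decide) (by decide)]
  · show ap _ (ev 2) = ev 0
    rw [cyc, ap_mul, sw_snd hS, sw_snd hS]

theorem tri_injective {N : ℕ} (i : ℕ) (hi : i + 3 ≤ N) :
    Injective (fun j : Fin 3 => (⟨i + (j : ℕ), by omega⟩ : Fin N)) := fun a b h => by
  simpa [Fin.ext_iff] using h

/-- The embedding in three consecutive coordinates. -/
noncomputable def tri {N : ℕ} (i : ℕ) (hi : i + 3 ≤ N) : SUn 3 F 2 →* SUn N F 2 :=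
  emb hS _ (tri_injective hS i hi)

theorem tail_tri {N : ℕ} (i : ℕ) (hi : i + 3 ≤ N) (x : SUn 3 F 2) :
    tail hS (tri hS i hi x) = tri hS (i + 1) (by omega) x := by
  simp only [tail, tri, emb_comp]
  congr 2
  funext j; simp [Fin.ext_iff]; omega

theorem sw_tri {N : ℕ} (h : 3 ≤ N) :
    tri hS 0 (by omega : 0 + 3 ≤ N) (sw hS (show (0 : Fin 3) ≠ 1 by decide)) =
      sw hS (i := (⟨0, by omega⟩ : Fin N)) (j := ⟨1, by omega⟩) (by simp) := by
  simp only [tri, sw, turn, pairEl, emb_comp]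
  congr 2
  funext j; fin_cases j <;> simp [Fin.ext_iff]

/-- The triples generate. -/
theorem gen_tri : ∀ (N : ℕ), 3 ≤ N → ∀ H : Subgroup (SUn N F 2),
    (∀ i (hi : i + 3 ≤ N) x, tri hS i hi x ∈ H) → H = ⊤ := by
  intro N
  induction N with
  | zero => intro h; omega
  | succ n ih =>
    intro hn H hH
    by_cases h3 : n = 2
    · subst h3
      refine eq_top_iff.2 fun g _ => ?_
      have := hH 0 le_rfl g
      have e : tri hS 0 (le_refl 3) g = g := by
        refine ext_ev fun l => funext fun m => ?_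
        have hid : (fun j : Fin 3 => (⟨0 + (j : ℕ), by omega⟩ : Fin 3)) = id := funext fun j => by simp
        have hc := emb_c hS _ (tri_injective hS 0 (le_refl 3)) g (ev l) m
        simp only [hid, id, Function.comp_id] at hc
        simp only [tri, hid]
        rwa [show (⟨0 + (m : ℕ), by omega⟩ : Fin 3) = m from Fin.ext (Nat.zero_add _)] at hc
      rwa [e] at this
    have hn3 : 3 ≤ n := by omega
    have hh := ih hn3 (H.comap (tail hS)) fun i hi x => by
      rw [Subgroup.mem_comap, tail_tri hS i hi]; exact hH _ _ x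
    refine gen_swap hS hn3 (fun h => ?_) (i := ⟨1, by omega⟩) rfl ?_
    · have : h ∈ H.comap (tail hS) := hh ▸ Subgroup.mem_top h
      exact this
    · have := hH 0 (by omega) (sw hS (show (0 : Fin 3) ≠ 1 by decide))
      rwa [sw_tri hS (by omega)] at this

/-- Conjugation by a coordinate permutation. -/
theorem conj_emb {N m : ℕ} {g : SUn N F 2} {π : Fin N → Fin N} (hg : ∀ l, ap g (ev l) = ev (π l))
    {c : Fin m → Fin N} (hc : Injective c) {c' : Fin m → Fin N} (hc' : Injective c') (he : ∀ a, π (c a) = c' a)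
    (x : SUn m F 2) : g * emb hS c hc x = emb hS c' hc' x * g := by
  have hπ : Injective π := fun a b e => by
    by_contra hab
    have h := congrFun (congrArg (ap g⁻¹) (show ap g (ev a) = ap g (ev b) by rw [hg, hg, e])) a
    simp [ev_ne hab, ev_self] at h
  have hcoord : ∀ v l, ap g v (π l) = v l := fun v l => by
    rw [← ip_ev (σ := σ) (ap g v), ← hg, ip_ap hS, ip_ev]
  refine ext_ev fun l => funext fun i => ?_
  obtain ⟨i, rfl⟩ := Finite.injective_iff_surjective.1 hπ i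
  rw [ap_mul, ap_mul, hg, hcoord]
  have hev : ∀ b, (ev (π l) : Vec N F) (π b) = (ev l : Vec N F) b := fun b => by simp [ev, Pi.single_apply, hπ.eq_iff]
  by_cases hi : i ∈ Set.range c
  · obtain ⟨a, rfl⟩ := hi
    rw [emb_c, he, emb_c]
    congr 1
    funext b
    simp only [Function.comp, ← he, hev]
  · rw [emb_ne hS _ hc x _ hi, emb_ne hS _ hc' x _ fun ⟨b, e⟩ => hi ⟨b, hπ ((he b).trans e)⟩, hev]

end Cfsg.Agent.Phan.Two
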