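import Cfsg.Agent.Phan.TwoSpace

/-!
SU₃ over the field with four elements: generators, automorphisms, and its images in SU₄.
-/

set_option autoImplicit false
set_option linter.unusedSectionVars false
set_option linter.unusedSimpArgs false

open Matrix Function

namespace Cfsg.Agent.Phan.Two

universe u v

variable {F : Type u} [Field F] [Fintype F] {σ : F →+* F} [CharP F 2]
variable (hS : Fld σ 2)
include hS

/-- Diagonal and field automorphisms. -/
noncomputable def Gam {N : ℕ} {d : Fin N → Fˣ} (hd : ∀ i, (d i : F) * σ (d i) = 1) (θ : F ≃+* F) :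
    MulAut (SUn N F 2) :=
  AutPSU.conjSu ⟨Classical.diagGL d, Classical.diag_mem hS.pow d hd⟩ * AutPSU.fieldSu θ

theorem ap_ev_eq {N : ℕ} (y : SUn N F 2) (l i : Fin N) : ap y (ev l) i = mx y i l := by
  simp [ap, ev, mulVec_single_one]

theorem Gam_mx {N : ℕ} {d : Fin N → Fˣ} (hd : ∀ i, (d i : F) * σ (d i) = 1) (θ : F ≃+* F) (y : SUn N F 2)
    (i l : Fin N) : mx (Gam hS hd θ y) i l = (d i : F) * θ (mx y i l) * (d l : F)⁻¹ := by
  show (AutPSU.gmat (Classical.diagGL d) * (mx y).map θ * AutPSU.gmat (Classical.diagGL d)⁻¹) i l = _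
  rw [show (Classical.diagGL d)⁻¹ = Classical.diagGL d⁻¹ from (map_inv _ d).symm, AutPSU.gmat, AutPSU.gmat,
    Classical.diagGL_coe, Classical.diagGL_coe, Matrix.mul_diagonal, Matrix.diagonal_mul]
  simp

theorem Gam_ap {N : ℕ} {d : Fin N → Fˣ} (hd : ∀ i, (d i : F) * σ (d i) = 1) (θ : F ≃+* F) (y : SUn N F 2)
    (l i : Fin N) : ap (Gam hS hd θ y) (ev l) i = (d i : F) * θ (ap y (ev l) i) * (d l : F)⁻¹ := by
  rw [ap_ev_eq hS, ap_ev_eq hS, Gam_mx hS]

theorem Gam_emb {N m : ℕ} {c : Fin m → Fin N} (hc : Injective c) {d : Fin N → Fˣ}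
    (hd : ∀ i, (d i : F) * σ (d i) = 1) {d' : Fin m → Fˣ} (hd' : ∀ i, (d' i : F) * σ (d' i) = 1) (θ : F ≃+* F)
    (he : ∀ a b, (d (c a) : F) * (d (c b) : F)⁻¹ = (d' a : F) * (d' b : F)⁻¹) (x : SUn m F 2) :
    Gam hS hd θ (emb hS c hc x) = emb hS c hc (Gam hS hd' θ x) := by
  refine ext_ev fun l => funext fun i => ?_
  rw [Gam_ap hS]
  by_cases hl : l ∈ Set.range c
  · obtain ⟨b, rfl⟩ := hl
    by_cases hi : i ∈ Set.range c
    · obtain ⟨a, rfl⟩ := hi
      rw [emb_c, emb_c, ev_comp c hc, Gam_ap hS, mul_comm (d (c a) : F), mul_comm (d' a : F), mul_assoc, mul_assoc,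
        he]
    · rw [emb_ne hS c hc x _ hi, emb_ne hS c hc _ _ hi, ev_ne fun e => hi ⟨b, e.symm⟩]
      simp
  · rw [emb_ev_ne hS c hc x hl, emb_ev_ne hS c hc _ hl]
    by_cases hil : i = l
    · subst hil; simp [ev_self]
    · simp [ev_ne hil]

theorem central_of_scalar {N : ℕ} {z : SUn N F 2} {c : F} (h : ∀ l, ap z (ev l) = c • ev l) :
    z ∈ Subgroup.center (SUn N F 2) := by
  have hv : ∀ v, ap z v = c • v := fun v => by
    have hx : v = ∑ i, v i • (ev i : Vec N F) := pi_eq_sum_univ' v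
    conv_lhs => rw [hx, ap_sum]
    conv_rhs => rw [hx, Finset.smul_sum]
    exact Finset.sum_congr rfl fun i _ => by rw [ap_smul, h, smul_comm]
  exact Subgroup.mem_center_iff.2 fun y => ext_ev fun l => by rw [ap_mul, ap_mul, hv, hv, ap_smul]

theorem mk2_congr {r s r' s' : F} (hr : r = r') (hs : s = s') (h : nn σ r + nn σ s = 1)
    (h' : nn σ r' + nn σ s' = 1) : mk2 hS r s h = mk2 hS r' s' h' := by
  subst hr hs; rfl

/-- SU₂ is monomial. -/
theorem su_two_cases (x : SUn 2 F 2) : mx x 1 0 = 0 ∨ mx x 0 0 = 0 ∧ x * x = 1 := by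
  obtain ⟨h, hx⟩ := su_two_form hS x
  by_cases hs : mx x 1 0 = 0
  · exact Or.inl hs
  refine Or.inr ⟨?_, ?_⟩
  · by_contra hr
    rw [nn_one hS hr, nn_one hS hs] at h
    exact one_ne_zero (by linear_combination h : (1 : F) = 0)
  · have hr : mx x 0 0 = 0 := by
      by_contra hr
      rw [nn_one hS hr, nn_one hS hs] at h
      exact one_ne_zero (by linear_combination h : (1 : F) = 0)
    have hm : mx x = !![0, -σ (mx x 1 0); mx x 1 0, 0] := by
      rw [show mx x = !![mx x 0 0, -σ (mx x 1 0); mx x 1 0, σ (mx x 0 0)] from congrArg mx hx, hr, map_zero]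
      simp
    have hn := nn_one hS hs
    unfold nn at hn
    refine Subtype.ext (Subtype.ext ?_)
    show mx x * mx x = 1
    rw [hm]
    ext i j
    fin_cases i <;> fin_cases j <;> simp [Matrix.mul_apply, Fin.sum_univ_two]
    · linear_combination -hn - two_zero (F := F)
    · linear_combination -hn - two_zero (F := F)

theorem diag_of_cube {x : SUn 2 F 2} (h : x ^ 3 = 1) : mx x 1 0 = 0 := by
  rcases su_two_cases hS x with h' | ⟨h0, h2⟩
  · exact h'
  · rw [pow_three', h2, one_mul] at h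
    rw [h]; simp [mx]

theorem cube_of_diag {x : SUn 2 F 2} (h : mx x 1 0 = 0) : x ^ 3 = 1 := by
  obtain ⟨h1, hx⟩ := su_two_form hS x
  have hm : mx x = !![mx x 0 0, 0; 0, σ (mx x 0 0)] := by
    rw [show mx x = !![mx x 0 0, -σ (mx x 1 0); mx x 1 0, σ (mx x 0 0)] from congrArg mx hx, h]; simp
  have hr : mx x 0 0 ≠ 0 := fun e => by rw [e, h, nn_zero, zero_add] at h1; exact zero_ne_one h1
  have hn := nn_one hS hr
  rw [nn, hS.pow] at hn
  refine Subtype.ext (Subtype.ext ?_)
  rw [pow_three']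
  show mx x * mx x * mx x = 1
  rw [hm, hS.pow]
  ext i j
  fin_cases i <;> fin_cases j <;> simp [Matrix.mul_apply, Fin.sum_univ_two]
  · linear_combination hn
  · linear_combination (mx x 0 0 * mx x 0 0 ^ 2 + 1) * hn

theorem field_ext {ω : F} (hω : ω * ω + ω + 1 = 0) {θ θ' : F ≃+* F} (h : θ ω = θ' ω) : θ = θ' := by
  refine RingEquiv.ext fun x => ?_
  by_cases hx : x = 0
  · simp [hx]
  have hc : x ^ 3 = 1 := by
    have := nn_one hS hx
    rw [nn, hS.pow] at this
    linear_combination this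
  have h3 : ω * (ω * ω) = 1 := by linear_combination (ω - 1) * hω
  have : (x - 1) * ((x - ω) * (x - (ω * ω))) = 0 := by
    linear_combination hc + (x - x ^ 2) * hω + (x - 1) * h3
  rcases mul_eq_zero.1 this with e | e
  · rw [sub_eq_zero.1 e, map_one, map_one]
  rcases mul_eq_zero.1 e with e | e
  · rw [sub_eq_zero.1 e, h]
  · rw [sub_eq_zero.1 e, map_mul, map_mul, h]

/-- The torus element of order three. -/
theorem exists_torus : ∃ (ω : F) (h : nn σ ω + nn σ (0 : F) = 1),
    ω * ω + ω + 1 = 0 ∧ σ ω = ω * ω ∧ ω * (ω * ω) = 1 ∧ ω ≠ 1 ∧ ω * ω ≠ 1 ∧ ω ≠ ω * ω := by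
  obtain ⟨ω, hω, hσ, h3⟩ := exists_omega hS
  refine ⟨ω, by rw [nn_zero, add_zero, nn, hσ, h3], hω, hσ, h3, fun e => ?_, fun e => ?_, fun e => ?_⟩
  · subst e; exact one_ne_zero (by linear_combination hω - two_zero (F := F) : (1 : F) = 0)
  · have hw : ω = 0 := by linear_combination hω - e - two_zero (F := F)
    subst hw; simp at e
  · exact one_ne_zero (by linear_combination hω - e * (-1) - ω * two_zero (F := F) + 0 * h3 : (1 : F) = 0)

/-- The plane subgroups. -/
noncomputable def Bl : Subgroup (SUn 3 F 2) := (e01 hS).range ⊔ (e12 hS).range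

theorem e01_mem (x : SUn 2 F 2) : e01 hS x ∈ Bl hS := Subgroup.mem_sup_left ⟨x, rfl⟩

theorem e12_mem (x : SUn 2 F 2) : e12 hS x ∈ Bl hS := Subgroup.mem_sup_right ⟨x, rfl⟩

/-- The exchange in SU₂. -/
noncomputable def w2 : SUn 2 F 2 := mk2 hS (0 : F) 1 (by simp [nn])

theorem e01_w : e01 hS (w2 hS) = sw hS (show (0 : Fin 3) ≠ 1 by decide) := rfl

theorem e12_w : e12 hS (w2 hS) = sw hS (show (1 : Fin 3) ≠ 2 by decide) := rfl

theorem cyc_mem : cyc hS ∈ Bl hS := mul_mem (e01_mem hS (w2 hS)) (e12_mem hS (w2 hS))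

theorem w2_sq : w2 hS * w2 hS = 1 := by
  refine Subtype.ext (Subtype.ext ?_)
  show mx (w2 hS) * mx (w2 hS) = 1
  rw [w2, mx_mk2]
  ext i j
  fin_cases i <;> fin_cases j <;> simp [Matrix.mul_apply, Fin.sum_univ_two]
  · linear_combination -(two_zero (F := F))
  · linear_combination -(two_zero (F := F))

/-- The Fourier element. -/
theorem exists_fourier {ω : F} (hω : ω * ω + ω + 1 = 0) (hσω : σ ω = ω * ω) (h : nn σ ω + nn σ (0 : F) = 1) :
    ∃ J : SUn 3 F 2, J * e12 hS (mk2 hS ω 0 h) = (cyc hS)⁻¹ * J ∧ J * cyc hS = e12 hS (mk2 hS ω 0 h) * J ∧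
      J * J = e12 hS (w2 hS) ∧ ap J (ev 0) = ![1, 1, 1] := by
  have h3 : ω * (ω * ω) = 1 := by rw [nn_zero, add_zero, nn, hσω] at h; exact h
  set M : Matrix (Fin 3) (Fin 3) F := !![1, 1, 1; 1, ω, ω * ω; 1, ω * ω, ω]
  have hdet : M.det = 1 := by
    rw [Matrix.det_fin_three]
    simp [M]
    linear_combination (-1 : F) * hω - ω * h3 + (ω * ω + ω * ω - ω) * two_zero (F := F)
  have e : ∀ u : Vec 3 F, M *ᵥ u = ![u 0 + u 1 + u 2, u 0 + ω * u 1 + ω * ω * u 2, u 0 + ω * ω * u 1 + ω * u 2] :=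
    fun u => by ext i; fin_cases i <;> simp [M, mulVec, dotProduct, Fin.sum_univ_three] <;> ring
  have hh : ∀ u v, Cfsg.hermForm 3 F 2 (M *ᵥ u) (M *ᵥ v) = Cfsg.hermForm 3 F 2 u v := fun u v => by
    rw [hermForm_eq hS, hermForm_eq hS, e, e]
    simp only [ip, Fin.sum_univ_three, Matrix.cons_val_zero, Matrix.cons_val_one, Matrix.cons_val_two,
      Matrix.head_cons, Matrix.tail_cons, map_add, map_mul, hσω]
    linear_combination (u 0 * σ (v 0) + u 1 * σ (v 1) + u 2 * σ (v 2)) * two_zero (F := F) +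
      2 * (u 1 * σ (v 1) + u 2 * σ (v 2)) * h3 +
      (u 0 * σ (v 1) + u 0 * σ (v 2) + u 1 * σ (v 0) + u 2 * σ (v 0) + u 1 * σ (v 2) + u 2 * σ (v 1)) * hω +
      ω * (u 1 * σ (v 2) + u 2 * σ (v 1)) * h3 +
      (ω * (u 0 * σ (v 1) + u 0 * σ (v 2)) + ω * ω * (u 1 * σ (v 2) + u 2 * σ (v 1)) +
        ω * ω * ω * (u 1 * σ (v 1) + u 2 * σ (v 2))) * h3
  refine ⟨⟨⟨M, hdet⟩, hh⟩, ?_, ?_, ?_, ?_⟩
  all_goals have hJ : ∀ u, ap (⟨⟨M, hdet⟩, hh⟩ : SUn 3 F 2) u = M *ᵥ u := fun u => rfl
  · rw [eq_inv_mul_iff_mul_eq, cyc, ← e01_w, ← e12_w, ← mul_assoc]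
    refine ext_ev fun l => funext fun i => ?_
    simp only [ap_mul, hJ, e, e01_ap, e12_ap, w2, mx_mk2]
    fin_cases i <;> fin_cases l <;> simp [ev, hσω] <;> first
      | ring1
      | linear_combination two_zero (F := F)
      | linear_combination -(two_zero (F := F))
      | linear_combination ω * two_zero (F := F)
      | linear_combination -ω * two_zero (F := F)
      | linear_combination (ω * ω) * two_zero (F := F)
      | linear_combination -(ω * ω) * two_zero (F := F)
      | linear_combination h3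
      | linear_combination -h3
      | linear_combination ω * h3
      | linear_combination -ω * h3
      | linear_combination h3 - two_zero (F := F)
      | linear_combination -h3 - two_zero (F := F)
      | linear_combination ω * h3 + ω * two_zero (F := F)
      | linear_combination ω * h3 - ω * two_zero (F := F)
  · rw [cyc, ← e01_w, ← e12_w]
    refine ext_ev fun l => funext fun i => ?_
    simp only [ap_mul, hJ, e, e01_ap, e12_ap, w2, mx_mk2]
    fin_cases i <;> fin_cases l <;> simp [ev, hσω] <;> first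
      | ring1
      | linear_combination two_zero (F := F)
      | linear_combination -(two_zero (F := F))
      | linear_combination ω * two_zero (F := F)
      | linear_combination -ω * two_zero (F := F)
      | linear_combination (ω * ω) * two_zero (F := F)
      | linear_combination -(ω * ω) * two_zero (F := F)
      | linear_combination h3
      | linear_combination -h3
      | linear_combination ω * h3
      | linear_combination -ω * h3
      | linear_combination h3 - two_zero (F := F)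
      | linear_combination -h3 - two_zero (F := F)
      | linear_combination ω * h3 + ω * two_zero (F := F)
      | linear_combination ω * h3 - ω * two_zero (F := F)
  · refine ext_ev fun l => funext fun i => ?_
    simp only [ap_mul, hJ, e, e12_ap, w2, mx_mk2]
    fin_cases i <;> fin_cases l <;> simp [ev, hσω]
    all_goals first
      | ring1
      | linear_combination two_zero (F := F)
      | linear_combination hω
      | linear_combination ω * h3 + hω
      | linear_combination ω * h3 + two_zero (F := F) + hω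
      | linear_combination hω + two_zero (F := F)
      | linear_combination 2 * h3 + two_zero (F := F)
      | linear_combination 2 * h3 + 2 * two_zero (F := F)
      | linear_combination h3 * 2 + two_zero (F := F) * 1 + 0 * hω
  · rw [hJ, e]
    funext i; fin_cases i <;> simp [ev]

/-- A non-zero scalar as a unit. -/
theorem exists_twist {s : F} (hs : s ≠ 0) :
    ∃ d : Fin 3 → Fˣ, (∀ i, (d i : F) * σ (d i) = 1) ∧ (d 0 : F) = 1 ∧ (d 1 : F) = 1 ∧ (d 2 : F) = s :=
  ⟨![1, 1, Units.mk0 s hs], fun i => by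
    fin_cases i <;> simp
    exact nn_one hS hs, rfl, rfl, rfl⟩

theorem Gam_e01 {d : Fin 3 → Fˣ} (hd : ∀ i, (d i : F) * σ (d i) = 1) (θ : F ≃+* F) (x : SUn 2 F 2) :
    Gam hS hd θ (e01 hS x) =
      e01 hS (Gam hS (d := ![d 0, d 1]) (fun i => by fin_cases i <;> exact hd _) θ x) :=
  Gam_emb hS _ hd _ θ (fun a b => by fin_cases a <;> fin_cases b <;> rfl) x

theorem Gam_e12 {d : Fin 3 → Fˣ} (hd : ∀ i, (d i : F) * σ (d i) = 1) (θ : F ≃+* F) (x : SUn 2 F 2) :
    Gam hS hd θ (e12 hS x) =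
      e12 hS (Gam hS (d := ![d 1, d 2]) (fun i => by fin_cases i <;> exact hd _) θ x) :=
  Gam_emb hS _ hd _ θ (fun a b => by fin_cases a <;> fin_cases b <;> rfl) x

theorem Gam_Bl {d : Fin 3 → Fˣ} (hd : ∀ i, (d i : F) * σ (d i) = 1) (θ : F ≃+* F) {x : SUn 3 F 2} (hx : x ∈ Bl hS) :
    Gam hS hd θ x ∈ Bl hS := by
  have : Bl hS ≤ (Bl hS).comap (Gam hS hd θ : SUn 3 F 2 ≃* SUn 3 F 2).toMonoidHom := by
    refine sup_le ?_ ?_
    · rintro _ ⟨y, rfl⟩
      show Gam hS hd θ (e01 hS y) ∈ Bl hS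
      rw [Gam_e01 hS]; exact e01_mem hS _
    · rintro _ ⟨y, rfl⟩
      show Gam hS hd θ (e12 hS y) ∈ Bl hS
      rw [Gam_e12 hS]; exact e12_mem hS _
  exact this hx

theorem mem_e12 {g : SUn 3 F 2} (hg : ap g (ev 0) = ev 0) : g ∈ (e12 hS).range := by
  rw [e12, range_emb]
  intro l hl
  obtain ⟨h1, h2⟩ := notMem_range_pair.1 hl
  rw [show l = 0 by fin_cases l <;> simp_all]
  exact hg

theorem mem_e01 {g : SUn 3 F 2} (hg : ap g (ev 2) = ev 2) : g ∈ (e01 hS).range := by
  rw [e01, range_emb]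
  intro l hl
  obtain ⟨h1, h2⟩ := notMem_range_pair.1 hl
  rw [show l = 2 by fin_cases l <;> simp_all]
  exact hg

/-- The planes and the twisted Fourier elements generate. -/
theorem gen_three {ω : F} (hω : ω * ω + ω + 1 = 0) (hσω : σ ω = ω * ω) (h : nn σ ω + nn σ (0 : F) = 1)
    {J : SUn 3 F 2} (hJ : ap J (ev 0) = ![1, 1, 1]) {H : Subgroup (SUn 3 F 2)} (hB : Bl hS ≤ H)
    (hH : ∀ (d : Fin 3 → Fˣ) (hd : ∀ i, (d i : F) * σ (d i) = 1), (d 0 : F) = 1 → (d 1 : F) = 1 →
      Gam hS hd (RingEquiv.refl F) J ∈ H) : H = ⊤ := by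
  refine eq_top_iff.2 fun g _ => ?_
  set x := ap g (ev 0)
  have hx : ip σ x x = 1 := by rw [ip_ap hS, ip_self_ev hS]
  suffices ∃ k ∈ H, ap k (ev 0) = x by
    obtain ⟨k, hk, hke⟩ := this
    have : k⁻¹ * g ∈ H := hB (Subgroup.mem_sup_right (mem_e12 hS (by
      rw [ap_mul]; show ap k⁻¹ x = _; rw [← hke, ap_inv_ap])))
    simpa using mul_mem hk this
  by_cases hfull : x 0 ≠ 0 ∧ x 1 ≠ 0 ∧ x 2 ≠ 0
  · obtain ⟨h0, h1, h2⟩ := hfull
    obtain ⟨d, hd, d0, d1, d2⟩ := exists_twist hS (s := x 0 * x 1 * x 2) (mul_ne_zero (mul_ne_zero h0 h1) h2)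
    have hn : ∀ {a : F}, a ≠ 0 → nn σ a + nn σ (0 : F) = 1 := fun ha => by rw [nn_zero, add_zero, nn_one hS ha]
    refine ⟨e01 hS (mk2 hS (x 0) 0 (hn h0)) * e12 hS (mk2 hS (x 0 * x 1) 0 (hn (mul_ne_zero h0 h1))) *
      Gam hS hd (RingEquiv.refl F) J, mul_mem (mul_mem (hB (e01_mem hS _)) (hB (e12_mem hS _))) (hH d hd d0 d1), ?_⟩
    rw [ap_mul, ap_mul]
    have hK : ap (Gam hS hd (RingEquiv.refl F) J) (ev 0) = ![1, 1, x 0 * x 1 * x 2] := by
      funext i
      rw [Gam_ap hS, hJ]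
      fin_cases i <;> simp [d0, d1, d2]
    rw [hK]
    funext i
    have n0 := nn_one hS h0
    have n1 := nn_one hS h1
    unfold nn at n0 n1
    simp only [e01_ap, e12_ap, mx_mk2]
    fin_cases i <;> simp [map_mul]
    · linear_combination (x 1) * n0
    · linear_combination (x 2 * x 1 * σ (x 1)) * n0 + x 2 * n1
  · have key : ∀ j : Fin 3, x j ≠ 0 → (∀ m, m ≠ j → x m = 0) → ∃ k ∈ H, ap k (ev 0) = x := by
      intro j hj hz
      have hn : nn σ (x j) + nn σ (0 : F) = 1 := by rw [nn_zero, add_zero, nn_one hS hj]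
      set D := e01 hS (mk2 hS (x j) 0 hn)
      have hD : ap D (ev 0) = x j • ev 0 := by
        funext i; rw [e01_ap, mx_mk2]; fin_cases i <;> simp [ev]
      have hxe : x = x j • ev j := funext fun m => by
        by_cases hm : m = j
        · subst hm; simp [ev_self]
        · simp [hz m hm, ev_ne hm]
      obtain ⟨k, hk, hke⟩ : ∃ k ∈ H, ap k (ev 0) = (ev j : Vec 3 F) := by
        fin_cases j
        · exact ⟨1, one_mem _, ap_one _⟩
        · exact ⟨e01 hS (w2 hS), hB (e01_mem hS _), sw_fst hS (show (0 : Fin 3) ≠ 1 by decide)⟩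
        · refine ⟨e12 hS (w2 hS) * e01 hS (w2 hS), hB (mul_mem (e12_mem hS _) (e01_mem hS _)), ?_⟩
          rw [ap_mul, e01_w, e12_w, sw_fst hS, sw_fst hS]
          rfl
      exact ⟨k * D, mul_mem hk (hB (e01_mem hS _)), by rw [ap_mul, hD, ap_smul, hke, ← hxe]⟩
    have hsum : nn σ (x 0) + nn σ (x 1) + nn σ (x 2) = 1 := by rw [← hx, ip_self, Fin.sum_univ_three]
    have one0 : ¬ (1 : F) + 1 = 1 := fun e => one_ne_zero (by linear_combination e : (1 : F) = 0)
    by_cases h0 : x 0 = 0 <;> by_cases h1 : x 1 = 0 <;> by_cases h2 : x 2 = 0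
    · rw [h0, h1, h2, nn_zero] at hsum; simp at hsum
    · exact key 2 h2 (fun m hm => by fin_cases m <;> simp_all)
    · exact key 1 h1 (fun m hm => by fin_cases m <;> simp_all)
    · rw [h0, nn_zero, zero_add, nn_one hS h1, nn_one hS h2] at hsum; exact absurd hsum one0
    · exact key 0 h0 (fun m hm => by fin_cases m <;> simp_all)
    · rw [h1, nn_zero, add_zero, nn_one hS h0, nn_one hS h2] at hsum; exact absurd hsum one0
    · rw [h2, nn_zero, add_zero, nn_one hS h0, nn_one hS h1] at hsum; exact absurd hsum one0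
    · exact absurd ⟨h0, h1, h2⟩ hfull

theorem central_of_comm {ω : F} (hω : ω * ω + ω + 1 = 0) (hσω : σ ω = ω * ω) (h : nn σ ω + nn σ (0 : F) = 1)
    {y : SUn 3 F 2} (h1 : y * e12 hS (mk2 hS ω 0 h) = e12 hS (mk2 hS ω 0 h) * y) (h2 : y * cyc hS = cyc hS * y) :
    y ∈ Subgroup.center (SUn 3 F 2) ∧ y ^ 3 = 1 := by
  have h3 : ω * (ω * ω) = 1 := by rw [nn_zero, add_zero, nn, hσω] at h; exact h
  have n1 : ω ≠ 1 := fun e => one_ne_zero (by linear_combination (e ▸ hω : (1 : F) * 1 + 1 + 1 = 0) - two_zero (F := F) :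
    (1 : F) = 0)
  have hd : ∀ l, ap (e12 hS (mk2 hS ω 0 h)) (ev l) = (![1, ω, ω * ω] : Fin 3 → F) l • ev l := fun l => by
    funext i; rw [e12_ap, mx_mk2]; fin_cases l <;> fin_cases i <;> simp [ev, hσω]
  have n2 : ω * ω ≠ 1 := fun e => n1 (by rw [e, mul_one] at h3; exact h3)
  have n3 : ω ≠ ω * ω := fun e => n2 (by
    have : ω * ω = ω * ω * ω := by linear_combination ω * e
    rw [this, mul_assoc, h3])
  have hoff : ∀ l i, i ≠ l → ap y (ev l) i = 0 := fun l i hil => by
    have e := congrArg (fun g => ap g (ev l) i) h1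
    simp only [ap_mul, hd, ap_smul, Pi.smul_apply, smul_eq_mul] at e
    have hc : ap (e12 hS (mk2 hS ω 0 h)) (ap y (ev l)) i = (![1, ω, ω * ω] : Fin 3 → F) i * ap y (ev l) i := by
      rw [e12_ap, mx_mk2]; fin_cases i <;> simp [hσω]
    rw [hc] at e
    have : ((![1, ω, ω * ω] : Fin 3 → F) l - (![1, ω, ω * ω] : Fin 3 → F) i) * ap y (ev l) i = 0 := by
      linear_combination e
    refine (mul_eq_zero.1 this).resolve_left (sub_ne_zero.2 ?_)
    intro e'
    fin_cases i <;> fin_cases l <;> first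
      | exact hil rfl
      | exact n1 e'
      | exact n1 e'.symm
      | exact n2 e'
      | exact n2 e'.symm
      | exact n3 e'
      | exact n3 e'.symm
  have hcol : ∀ l, ap y (ev l) = ap y (ev l) l • ev l := fun l => funext fun i => by
    by_cases hil : i = l
    · subst hil; simp [ev_self]
    · simp [hoff l i hil, ev_ne hil]
  have hcyc : ∀ l, ap y (ev ((![1, 2, 0] : Fin 3 → Fin 3) l)) ((![1, 2, 0] : Fin 3 → Fin 3) l) = ap y (ev l) l := by
    intro l
    have e := congrArg (fun g => ap g (ev l)) h2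
    simp only [ap_mul, cyc_ev hS] at e
    rw [hcol l, ap_smul, cyc_ev hS] at e
    have := congrFun e ((![1, 2, 0] : Fin 3 → Fin 3) l)
    simpa [ev_self] using this
  set c := ap y (ev 0) 0
  have hy : ∀ l, ap y (ev l) = c • ev l := fun l => by
    rw [hcol l]
    congr 1
    fin_cases l
    · rfl
    · exact hcyc 0
    · exact (hcyc 1).trans (hcyc 0)
  refine ⟨central_of_scalar hS hy, ext_ev fun l => ?_⟩
  have hc : c ≠ 0 := fun e => ap_ne_zero y (ev_ne_zero 0) (by rw [hy, e, zero_smul])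
  have hn := nn_one hS hc
  rw [nn, hS.pow] at hn
  rw [pow_three, ap_mul, ap_mul, hy, ap_smul, hy, smul_smul, ap_smul, hy, smul_smul, ap_one]
  rw [show c * c * c = 1 by linear_combination hn, one_smul]

/-- An endomorphism fixing both planes is trivial. -/
theorem rigid (γ : SUn 3 F 2 →* SUn 3 F 2) (h01 : ∀ x, γ (e01 hS x) = e01 hS x) (h12 : ∀ x, γ (e12 hS x) = e12 hS x)
    (g : SUn 3 F 2) : γ g = g := by
  obtain ⟨ω, hn, hω, hσω, h3, -⟩ := exists_torus hS
  obtain ⟨J, j1, j2, j3, j0⟩ := exists_fourier hS hω hσω hn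
  have hB : Bl hS ≤ γ.eqLocus (MonoidHom.id _) := sup_le (by rintro _ ⟨x, rfl⟩; exact h01 x)
    (by rintro _ ⟨x, rfl⟩; exact h12 x)
  have := gen_three hS hω hσω hn j0 hB fun d hd _ _ => ?_
  · exact (this.symm ▸ Subgroup.mem_top g : g ∈ γ.eqLocus (MonoidHom.id _))
  show γ _ = _
  set Γ := Gam hS hd (RingEquiv.refl F)
  set K := Γ J
  set a := e12 hS (mk2 hS ω 0 hn)
  have fix : ∀ {x}, x ∈ Bl hS → γ (Γ x) = Γ x := fun hx => hB (Gam_Bl hS hd _ hx)
  obtain ⟨y, hy⟩ : ∃ y, γ K = K * y := ⟨K⁻¹ * γ K, (mul_inv_cancel_left _ _).symm⟩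
  have comm : ∀ {x m : SUn 3 F 2}, x ∈ Bl hS → m ∈ Bl hS → J * x = m * J → y * Γ x = Γ x * y := by
    intro x m hx hm he
    have e : K * Γ x = Γ m * K := by rw [← map_mul, ← map_mul, he]
    have e2 := congrArg γ e
    rw [map_mul, map_mul, fix hx, fix hm, hy, ← mul_assoc, ← e] at e2
    refine mul_left_cancel (a := K) ?_
    rw [← mul_assoc, e2, mul_assoc]
  have ca := comm (e12_mem hS _) (inv_mem (cyc_mem hS)) j1
  have cc := comm (cyc_mem hS) (e12_mem hS _) j2
  have hz := central_of_comm hS hω hσω hn (y := Γ.symm y)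
    (Γ.injective (by rw [map_mul, map_mul, Γ.apply_symm_apply]; exact ca))
    (Γ.injective (by rw [map_mul, map_mul, Γ.apply_symm_apply]; exact cc))
  have hyc : ∀ z, z * y = y * z := fun z => by
    have := congrArg Γ (Subgroup.mem_center_iff.1 hz.1 (Γ.symm z))
    simpa using this
  have hy3 : y ^ 3 = 1 := by
    have := congrArg Γ hz.2
    simpa using this
  have hy2 : y * y = 1 := by
    have e : K * K = Γ (e12 hS (w2 hS)) := by rw [← map_mul, j3]
    have e2 := congrArg γ e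
    rw [map_mul, fix (e12_mem hS _), hy, ← e, mul_assoc, ← mul_assoc y, ← hyc K, mul_assoc, ← mul_assoc K K] at e2
    exact mul_left_cancel (e2.trans (mul_one _).symm)
  rw [hy, show y = 1 by rw [pow_three', hy2, one_mul] at hy3; exact hy3, mul_one]
  rfl

/-- Homs into groups of exponent three are trivial. -/
theorem hom_trivial {M : Type v} [CommGroup M] (μ : SUn 3 F 2 →* M) (hM : ∀ x, μ x ^ 3 = 1) (g : SUn 3 F 2) :
    μ g = 1 := by
  obtain ⟨ω, hn, hω, hσω, h3, -⟩ := exists_torus hS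
  obtain ⟨J, j1, j2, j3, j0⟩ := exists_fourier hS hω hσω hn
  have inv : ∀ {x : SUn 3 F 2}, x * x = 1 → μ x = 1 := fun {x} hx => by
    have h := hM x
    rwa [pow_three', ← map_mul, hx, map_one, one_mul] at h
  have key : ∀ (e : SUn 2 F 2 →* SUn 3 F 2) x, μ (e x) = 1 := fun e x => by
    rcases su_two_cases hS x with h | ⟨-, h⟩
    · have h' : (x * w2 hS) * (x * w2 hS) = 1 := by
        rcases su_two_cases hS (x * w2 hS) with h0 | ⟨-, h0⟩
        · exfalso
          have e1 : x = x * w2 hS * w2 hS := by rw [mul_assoc, w2_sq, mul_one]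
          obtain ⟨h1, hx⟩ := su_two_form hS x
          have : mx (x * w2 hS) 1 0 = σ (mx x 0 0) := by
            show (mx x * mx (w2 hS)) 1 0 = _
            rw [show mx x = !![mx x 0 0, -σ (mx x 1 0); mx x 1 0, σ (mx x 0 0)] from congrArg mx hx, w2, mx_mk2]
            simp [Matrix.mul_apply, Fin.sum_univ_two]
          rw [h0] at this
          rw [(map_eq_zero σ).1 this.symm, h, nn_zero, zero_add] at h1
          exact zero_ne_one h1
        · exact h0
      have a1 := inv (x := e (x * w2 hS)) (by rw [← map_mul, h', map_one])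
      have a2 := inv (x := e (w2 hS)) (by rw [← map_mul, w2_sq, map_one])
      rwa [map_mul, map_mul, a2, mul_one] at a1
    · exact inv (by rw [← map_mul, h, map_one])
  have hB : Bl hS ≤ μ.ker := sup_le (by rintro _ ⟨x, rfl⟩; exact key (e01 hS) x)
    (by rintro _ ⟨x, rfl⟩; exact key (e12 hS) x)
  have := gen_three hS hω hσω hn j0 hB fun d hd _ _ => ?_
  · exact (this.symm ▸ Subgroup.mem_top g : g ∈ μ.ker)
  have e : μ (Gam hS hd (RingEquiv.refl F) J) * μ (Gam hS hd (RingEquiv.refl F) J) = 1 := by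
    rw [← map_mul, ← map_mul, j3]; exact hB (Gam_Bl hS hd _ (e12_mem hS _))
  have h := hM (Gam hS hd (RingEquiv.refl F) J)
  rw [pow_three', e, one_mul] at h
  exact h

/-! ### Diagonalisation -/

omit hS [CharP F 2] in
/-- An eigenvector of a commuting element. -/
theorem eigen_comm {N : ℕ} {a b : SUn N F 2} (h : a * b = b * a) {v : Vec N F} {α : F} (hv : ap a v = α • v) :
    ap a (ap b v) = α • ap b v := by
  rw [← ap_mul, h, ap_mul, hv, ap_smul]

theorem exists_proj {N : ℕ} {a : SUn N F 2} (ha : a ^ 3 = 1) {e : Vec N F} (he : ip σ e e = 1) :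
    ∃ α : F, α ≠ 0 ∧ ip σ (e + α • ap a e + (α * α) • ap a (ap a e)) (e + α • ap a e + (α * α) • ap a (ap a e)) = 1 ∧
      ip σ (e + α • ap a e + (α * α) • ap a (ap a e)) e ≠ 0 ∧
      ap a (e + α • ap a e + (α * α) • ap a (ap a e)) =
        (α * α) • (e + α • ap a e + (α * α) • ap a (ap a e)) := by
  obtain ⟨ω, -, hω, hσω, h3, -⟩ := exists_torus hS
  have hω0 : ω ≠ 0 := fun e => by simp [e] at h3
  obtain ⟨α, hα, hne⟩ : ∃ α : F, α ≠ 0 ∧ ip σ (e + α • ap a e + (α * α) • ap a (ap a e)) e ≠ 0 := by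
    by_contra hc
    push Not at hc
    have q1 := hc 1 one_ne_zero
    have q2 := hc ω hω0
    have q3 := hc (ω * ω) (mul_ne_zero hω0 hω0)
    simp only [ip_add_left, ip_smul_left, he] at q1 q2 q3
    exact one_ne_zero (α := F) (by
      linear_combination q1 + q2 + q3 - (ip σ (ap a e) e + ip σ (ap a (ap a e)) e) * hω -
        ω * ip σ (ap a (ap a e)) e * h3 - two_zero (F := F))
  set w := e + α • ap a e + (α * α) • ap a (ap a e)
  have hn := nn_one hS hα
  rw [nn, hS.pow] at hn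
  have h3' : ap a (ap a (ap a e)) = e := by rw [← ap_mul, ← ap_mul, ← pow_three', ha, ap_one]
  have haw : ap a w = (α * α) • w := by
    simp only [w, ap_add, ap_smul, h3', smul_add, smul_smul]
    rw [show α * α * α = 1 by linear_combination hn, show α * α * (α * α) = α by linear_combination α * hn, one_smul]
    abel
  refine ⟨α, hα, ?_, hne, haw⟩
  have hs : σ α * α = 1 := by rw [hS.pow]; linear_combination hn
  have k1 : ∀ v, ip σ w (ap a v) = α * ip σ w v := fun v => by
    have hinv : ap a (α • w) = w := by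
      rw [ap_smul, haw, smul_smul, show α * (α * α) = 1 by linear_combination hn, one_smul]
    conv_lhs => rw [← hinv]
    rw [ip_ap hS, ip_smul_left]
  have hww : ip σ w w = ip σ w e := by
    conv_lhs => arg 3; simp only [w]
    rw [ip_add_right, ip_add_right, ip_smul_right, ip_smul_right, k1, k1, k1, map_mul]
    linear_combination (ip σ w e * (1 + σ α * α + 1)) * hs + ip σ w e * two_zero (F := F)
  refine (mul_left_eq_self₀.1 (?_ : ip σ w w * ip σ w w = ip σ w w)).resolve_right ?_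
  · have hf : σ (ip σ w w) = ip σ w w := ip_symm hS w w
    rw [hS.pow] at hf
    linear_combination hf
  · rw [hww]; exact hne

theorem eigen_of_supp {N k : ℕ} (hk : N ≤ k + 2) {w e : Vec N F} (hw : Supp k w) (h1 : ip σ w w = 1) {j : Fin N}
    (hj : k ≤ (j : ℕ)) (he : e = ev j) (hne : ip σ w e ≠ 0) : w = w j • ev j := by
  subst he
  rw [ip_ev] at hne
  funext l
  by_cases hlj : l = j
  · subst hlj; simp [ev_self]
  rw [Pi.smul_apply, ev_ne hlj, smul_zero]
  by_contra hl
  have h0 : ∀ m, m ≠ l → m ≠ j → w m = 0 := fun m m1 m2 => hw m (by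
    have := m.isLt; have := l.isLt; have := j.isLt
    have := Fin.val_ne_of_ne m1; have := Fin.val_ne_of_ne m2; have := Fin.val_ne_of_ne hlj
    by_contra hge
    have hlk : k ≤ (l : ℕ) := by
      by_contra h'
      exact hl (hw l (by omega))
    omega)
  rw [ip_self_two hlj h0, nn_one hS hl, nn_one hS hne] at h1
  exact one_ne_zero (by linear_combination h1 : (1 : F) = 0)

/-- Commuting elements of order three are diagonal in some orthonormal basis. -/
theorem exists_diag_two {N : ℕ} {A B : SUn N F 2} (hA : A ^ 3 = 1) (hB : B ^ 3 = 1) (hAB : A * B = B * A) :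
    ∃ (h : SUn N F 2) (a b : Fin N → F), ∀ l, ap A (ap h (ev l)) = a l • ap h (ev l) ∧
      ap B (ap h (ev l)) = b l • ap h (ev l) := by
  suffices H : ∀ (m k : ℕ), k + m = N → ∀ A B : SUn N F 2, A ^ 3 = 1 → B ^ 3 = 1 → A * B = B * A →
      (∀ l : Fin N, (l : ℕ) < k → ∃ α β : F, ap A (ev l) = α • ev l ∧ ap B (ev l) = β • ev l) →
      ∃ h : SUn N F 2, ∀ l, ∃ α β : F, ap A (ap h (ev l)) = α • ap h (ev l) ∧ ap B (ap h (ev l)) = β • ap h (ev l) by
    obtain ⟨h, hh⟩ := H N 0 (Nat.zero_add _) A B hA hB hAB fun l hl => absurd hl (Nat.not_lt_zero _)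
    choose a b hab using hh
    exact ⟨h, a, b, hab⟩
  intro m
  induction m with
  | zero =>
    intro k hk A B _ _ _ hlow
    exact ⟨1, fun l => by rw [ap_one]; exact hlow l (by omega)⟩
  | succ m ih =>
    intro k hk A B hA hB hAB hlow
    have hsA : ∀ (T : SUn N F 2), (∀ l : Fin N, (l : ℕ) < k → ∃ α : F, ap T (ev l) = α • ev l) →
        ∀ v, Supp k v → Supp k (ap T v) := fun T hT v hv l hl => by
      obtain ⟨α, hα⟩ := hT l hl
      have hα0 : α ≠ 0 := fun e => ap_ne_zero T (ev_ne_zero l) (by rw [hα, e, zero_smul])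
      have e := ip_ap hS T v (ev l)
      rw [hα, ip_smul_right, ip_ev, ip_ev, hv l hl] at e
      exact (mul_eq_zero.1 e).resolve_left ((map_ne_zero σ).2 hα0)
    have sA := hsA A fun l hl => let ⟨α, β, h1, h2⟩ := hlow l hl; ⟨α, h1⟩
    have sB := hsA B fun l hl => let ⟨α, β, h1, h2⟩ := hlow l hl; ⟨β, h2⟩
    have mk : ∀ (T : SUn N F 2) (v : Vec N F) (α : F), (∀ v, Supp k v → Supp k (ap T v)) → Supp k v →
        Supp k (v + α • ap T v + (α * α) • ap T (ap T v)) := fun T v α hT hv l hl => by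
      simp [hv l hl, hT v hv l hl, hT _ (hT v hv) l hl]
    set j : Fin N := ⟨k, by omega⟩
    by_cases h3 : k + 3 ≤ N
    · obtain ⟨α, -, w1u, -, w1A⟩ := exists_proj hS hA (e := ev j) (ip_self_ev hS j)
      set w1 := ev j + α • ap A (ev j) + (α * α) • ap A (ap A (ev j))
      have sw1 : Supp k w1 := mk A _ α sA (supp_ev le_rfl)
      obtain ⟨β, -, w2u, -, w2B⟩ := exists_proj hS hB (e := w1) w1u
      set w2 := w1 + β • ap B w1 + (β * β) • ap B (ap B w1)
      have sw2 : Supp k w2 := mk B _ β sB sw1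
      have w2A : ap A w2 = (α * α) • w2 := by
        simp only [w2, ap_add, ap_smul, smul_add, eigen_comm hAB w1A, eigen_comm hAB (eigen_comm hAB w1A), w1A]
        simp only [smul_smul, mul_comm]
      obtain ⟨g, hg, hge⟩ := exists_map hS k h3 sw2 w2u
      have cj : ∀ (T : SUn N F 2) (v : Vec N F) (c : F), ap T (ap g v) = c • ap g v →
          ap (g⁻¹ * T * g) v = c • v := fun T v c h => by
        rw [ap_mul, ap_mul, h, ap_smul, ap_inv_ap]
      obtain ⟨h, hh⟩ := ih (k + 1) (by omega) (g⁻¹ * A * g) (g⁻¹ * B * g)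
        (by rw [show g⁻¹ * A * g = g⁻¹ * A * g⁻¹⁻¹ by rw [inv_inv], conj_pow, hA]; group)
        (by rw [show g⁻¹ * B * g = g⁻¹ * B * g⁻¹⁻¹ by rw [inv_inv], conj_pow, hB]; group)
        (by rw [show g⁻¹ * A * g * (g⁻¹ * B * g) = g⁻¹ * (A * B) * g by group, hAB]; group)
        fun l hl => by
          by_cases hlk : (l : ℕ) < k
          · obtain ⟨a', b', ha', hb'⟩ := hlow l hlk
            exact ⟨a', b', cj A _ _ (by rw [hg l hlk, ha']), cj B _ _ (by rw [hg l hlk, hb'])⟩
          · rw [show l = j from Fin.ext (by simp [j]; omega)]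
            exact ⟨α * α, β * β, cj A _ _ (by rw [hge]; exact w2A), cj B _ _ (by rw [hge]; exact w2B)⟩
      refine ⟨g * h, fun l => ?_⟩
      obtain ⟨a', b', ha', hb'⟩ := hh l
      refine ⟨a', b', ?_, ?_⟩
      · have := congrArg (ap g) ha'
        rw [ap_mul, ap_mul, ap_ap_inv, ap_smul] at this
        rw [ap_mul]; exact this
      · have := congrArg (ap g) hb'
        rw [ap_mul, ap_mul, ap_ap_inv, ap_smul] at this
        rw [ap_mul]; exact this
    · refine ⟨1, fun l => ?_⟩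
      rw [ap_one]
      by_cases hl : (l : ℕ) < k
      · exact hlow l hl
      have one : ∀ T : SUn N F 2, T ^ 3 = 1 → (∀ v, Supp k v → Supp k (ap T v)) →
          ∃ c : F, ap T (ev l) = c • ev l := fun T hT hsT => by
        obtain ⟨α, -, wu, wne, wT⟩ := exists_proj hS hT (e := ev l) (ip_self_ev hS l)
        set w := ev l + α • ap T (ev l) + (α * α) • ap T (ap T (ev l))
        have hw : w = w l • ev l := eigen_of_supp hS (k := k) (by omega) (mk T _ α hsT (supp_ev (by omega))) wu (j := l) (by omega) rfl wne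
        have hc : w l ≠ 0 := fun e => wne (by rw [hw, e, zero_smul]; simp [ip])
        refine ⟨α * α, smul_right_injective _ hc ?_⟩
        show w l • ap T (ev l) = w l • ((α * α) • ev l)
        rw [← ap_smul, ← hw, wT, smul_comm, ← hw]
      obtain ⟨c1, hc1⟩ := one A hA sA
      obtain ⟨c2, hc2⟩ := one B hB sB
      exact ⟨c1, c2, hc1, hc2⟩

/-- An eigenvector seen through a diagonalising basis. -/
theorem exists_coord {N : ℕ} {A B h : SUn N F 2} {a b : Fin N → F}
    (hd : ∀ l, ap A (ap h (ev l)) = a l • ap h (ev l) ∧ ap B (ap h (ev l)) = b l • ap h (ev l))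
    {v : Vec N F} (hv : v ≠ 0) {α β : F} (hA : ap A v = α • v) (hB : ap B v = β • v) :
    ∃ l, a l = α ∧ b l = β := by
  obtain ⟨l, hl⟩ : ∃ l, ap h⁻¹ v l ≠ 0 := by
    by_contra hc
    push Not at hc
    exact hv (by rw [← ap_ap_inv h v, show ap h⁻¹ v = 0 from funext hc, ap_zero])
  have key : ∀ (T : SUn N F 2) (c : Fin N → F) (γ : F), (∀ m, ap T (ap h (ev m)) = c m • ap h (ev m)) →
      ap T v = γ • v → c l = γ := fun T c γ hT hγ => by
    have hx : ap h⁻¹ v = ∑ i, ap h⁻¹ v i • (ev i : Vec N F) := pi_eq_sum_univ' _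
    have e : ap h⁻¹ (ap T v) = fun i => c i * ap h⁻¹ v i := by
      conv_lhs => rw [← ap_ap_inv h v, hx, ap_sum, ap_sum, ap_sum]
      funext i
      simp [Finset.sum_apply, ap_smul, hT]
      simp [ev, Pi.single_apply, mul_comm]
    have e2 := congrFun e l
    rw [hγ, ap_smul] at e2
    exact (mul_right_cancel₀ hl e2).symm
  exact ⟨l, key A a α (fun m => (hd m).1) hA, key B b β (fun m => (hd m).2) hB⟩

end Cfsg.Agent.Phan.Two
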