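import Mathlib
import Cfsg.Prelude.Def_PhanSystems
import Cfsg.Agent.Classical.HermGroup

/-!
The unitary group in an orthonormal basis: embeddings along coordinate maps, the subgroups fixing basis
vectors, moves inside a coordinate plane, and generation by the planes of neighbouring coordinates.
-/

set_option autoImplicit false
set_option linter.unusedSectionVars false
set_option linter.unusedSimpArgs false

open Matrix Function
open Cfsg.Agent.Classical.Herm (IsInvol fixField)

namespace Cfsg.Agent.Phan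

universe u

variable {F : Type u} [Field F]

/-- The field conditions: `σ` is `x ↦ x ^ q`, an involution whose fixed field has `q > 1` elements. -/
structure Fld [Fintype F] (σ : F →+* F) (q : ℕ) : Prop where
  pow : ∀ x, σ x = x ^ q
  invol : IsInvol σ
  card_fix : Nat.card (fixField σ) = q
  one : 1 < q

theorem exists_fld_two [Fintype F] {q : ℕ} (hq : 1 < q) (hF : Fintype.card F = q ^ 2) :
    ∃ σ : F →+* F, Fld σ q := by
  obtain ⟨σ, h1, h2, h3, -⟩ := Classical.exists_powHom hF
  exact ⟨σ, h1, h2, h3, hq⟩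

theorem exists_fld [Fintype F] {q : ℕ} (hq : 3 < q) (hF : Fintype.card F = q ^ 2) : ∃ σ : F →+* F, Fld σ q :=
  exists_fld_two (by omega) hF

/-- The norm. -/
def nn (σ : F →+* F) (a : F) : F := a * σ a

theorem nn_zero (σ : F →+* F) : nn σ 0 = 0 := by simp [nn]

theorem nn_ne_zero {σ : F →+* F} {a : F} (h : a ≠ 0) : nn σ a ≠ 0 := mul_ne_zero h ((map_ne_zero σ).2 h)

theorem nn_eq_zero {σ : F →+* F} {a : F} : nn σ a = 0 ↔ a = 0 :=
  ⟨fun h => by_contra fun h' => nn_ne_zero h' h, fun h => by rw [h, nn_zero]⟩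

theorem nn_neg (σ : F →+* F) (a : F) : nn σ (-a) = nn σ a := by simp [nn]

variable {σ : F →+* F} {q : ℕ}

namespace Fld

variable [Fintype F] (hS : Fld σ q)
include hS

theorem sigma_sigma (x : F) : σ (σ x) = x := hS.invol.invol x

theorem fix_nn (a : F) : σ (nn σ a) = nn σ a := by rw [nn, map_mul, hS.sigma_sigma, mul_comm]

theorem exists_nn {a : F} (ha : σ a = a) : ∃ x, nn σ x = a := Classical.Herm.exists_norm hS.invol ha

theorem exists_trace {a : F} (ha : σ a = a) : ∃ x, x + σ x = a := Classical.Herm.exists_trace hS.invol ha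

theorem avoid_two [hq2 : Fact (2 < q)] (a b : F) : ∃ s, σ s = s ∧ s ≠ a ∧ s ≠ b := by
  classical
  by_contra h
  push Not at h
  have hsub : (Finset.univ.filter fun s : F => σ s = s) ⊆ {a, b} := fun s hs => by
    simp only [Finset.mem_filter, Finset.mem_univ, true_and] at hs
    simp only [Finset.mem_insert, Finset.mem_singleton]
    by_contra hh
    push Not at hh
    exact hh.2 (h s hs hh.1)
  have h1 := Finset.card_le_card hsub
  have h2 : (Finset.univ.filter fun s : F => σ s = s).card = q := by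
    rw [← hS.card_fix, ← Fintype.card_subtype, ← Nat.card_eq_fintype_card]
    exact Nat.card_congr (Equiv.refl _)
  have h3 : ({a, b} : Finset F).card ≤ 2 := Finset.card_le_two
  have := hq2.out
  omega

theorem avoid (hq : 3 < q) (a b c : F) : ∃ s, σ s = s ∧ s ≠ a ∧ s ≠ b ∧ s ≠ c := by
  classical
  by_contra h
  push Not at h
  have hsub : (Finset.univ.filter fun s : F => σ s = s) ⊆ {a, b, c} := fun s hs => by
    simp only [Finset.mem_filter, Finset.mem_univ, true_and] at hs
    simp only [Finset.mem_insert, Finset.mem_singleton]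
    by_contra hh
    push Not at hh
    exact hh.2.2 (h s hs hh.1 hh.2.1)
  have h1 := Finset.card_le_card hsub
  have h2 : (Finset.univ.filter fun s : F => σ s = s).card = q := by
    rw [← hS.card_fix, ← Fintype.card_subtype, ← Nat.card_eq_fintype_card]
    exact Nat.card_congr (Equiv.refl _)
  have h3 : ({a, b, c} : Finset F).card ≤ 3 := Finset.card_le_three
  omega

/-- A norm one scalar that is not fixed. -/
theorem exists_moved : ∃ η : F, nn σ η = 1 ∧ σ η ≠ η := by
  classical
  by_contra h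
  push Not at h
  have hone : (1 : F) ≠ 0 := one_ne_zero
  have hc := Classical.card_norm_fibre (σ := σ) hS.invol (map_one σ) hone
  rw [hS.card_fix, Nat.card_eq_fintype_card, Fintype.card_subtype] at hc
  have hsub : (Finset.univ.filter fun x : F => x * σ x = 1) ⊆ {1, -1} := fun x hx => by
    simp only [Finset.mem_filter, Finset.mem_univ, true_and] at hx
    have h2 : x * x = 1 := by rwa [h x hx] at hx
    simpa using mul_self_eq_one_iff.1 h2
  have h1 := Finset.card_le_card hsub
  have h3 : ({1, -1} : Finset F).card ≤ 2 := Finset.card_le_two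
  have := hS.one
  omega

end Fld

/-- Coordinate vectors. -/
abbrev Vec (N : ℕ) (F : Type u) := Fin N → F

/-- The special unitary group. -/
abbrev SUn (N : ℕ) (F : Type u) [Field F] (q : ℕ) := ↥(Cfsg.SU N F q)

variable {N m : ℕ}

/-- The matrix of an element. -/
abbrev mx (g : SUn N F q) : Matrix (Fin N) (Fin N) F := g.1.1

/-- The action. -/
def ap (g : SUn N F q) (x : Vec N F) : Vec N F := mx g *ᵥ x

theorem ap_mul (g h : SUn N F q) (x : Vec N F) : ap (g * h) x = ap g (ap h x) :=
  (mulVec_mulVec x _ _).symm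

@[simp] theorem ap_one (x : Vec N F) : ap (1 : SUn N F q) x = x := one_mulVec x

theorem ap_add (g : SUn N F q) (x y : Vec N F) : ap g (x + y) = ap g x + ap g y := mulVec_add _ _ _

theorem ap_smul (g : SUn N F q) (c : F) (x : Vec N F) : ap g (c • x) = c • ap g x := mulVec_smul _ _ _

theorem ap_zero (g : SUn N F q) : ap g 0 = 0 := mulVec_zero _

theorem ap_sub (g : SUn N F q) (x y : Vec N F) : ap g (x - y) = ap g x - ap g y := mulVec_sub _ _ _

theorem ap_sum {ι : Type*} (g : SUn N F q) (s : Finset ι) (f : ι → Vec N F) :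
    ap g (∑ i ∈ s, f i) = ∑ i ∈ s, ap g (f i) := mulVec_sum _ _ _

@[simp] theorem ap_inv_ap (g : SUn N F q) (x : Vec N F) : ap g⁻¹ (ap g x) = x := by
  rw [← ap_mul, inv_mul_cancel, ap_one]

@[simp] theorem ap_ap_inv (g : SUn N F q) (x : Vec N F) : ap g (ap g⁻¹ x) = x := by
  rw [← ap_mul, mul_inv_cancel, ap_one]

theorem ap_ne_zero (g : SUn N F q) {x : Vec N F} (hx : x ≠ 0) : ap g x ≠ 0 := fun h => hx (by
  rw [← ap_inv_ap g x, h, ap_zero])

/-- The basis vector. -/
def ev (l : Fin N) : Vec N F := Pi.single l 1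

theorem ev_self (l : Fin N) : (ev l : Vec N F) l = 1 := Pi.single_eq_same _ _

theorem ev_ne {l l' : Fin N} (h : l' ≠ l) : (ev l : Vec N F) l' = 0 := Pi.single_eq_of_ne h _

theorem ev_ne_zero (l : Fin N) : (ev l : Vec N F) ≠ 0 := fun h => by
  simpa [ev_self] using congrFun h l

theorem ext_ev {g h : SUn N F q} (H : ∀ l, ap g (ev l) = ap h (ev l)) : g = h :=
  Subtype.ext (Subtype.ext (Matrix.ext_of_mulVec_single fun i => H i))

/-- The Hermitian form, linear in the first argument. -/
def ip (σ : F →+* F) (x y : Vec N F) : F := ∑ i, x i * σ (y i)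

theorem ip_ev (x : Vec N F) (l : Fin N) : ip σ x (ev l) = x l := by
  rw [ip, Finset.sum_eq_single l (fun b _ hb => by rw [ev_ne hb, map_zero, mul_zero]) (by simp), ev_self,
    map_one, mul_one]

theorem ip_self (x : Vec N F) : ip σ x x = ∑ i, nn σ (x i) := rfl

/-- The elements fixing the basis vectors with index satisfying `p`. -/
def fixSet (p : Fin N → Prop) : Subgroup (SUn N F q) where
  carrier := {g | ∀ l, p l → ap g (ev l) = ev l}
  one_mem' l _ := ap_one _
  mul_mem' {g h} hg hh l hl := by rw [ap_mul, hh l hl, hg l hl]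
  inv_mem' {g} hg l hl := by conv_lhs => rw [← hg l hl, ap_inv_ap]

theorem fixSet_anti {p p' : Fin N → Prop} (h : ∀ l, p' l → p l) :
    (fixSet p : Subgroup (SUn N F q)) ≤ fixSet p' := fun _ hg l hl => hg l (h l hl)

theorem ap_eq_self_of_coord (g : SUn N F q) {x : Vec N F} (h : ∀ i, x i ≠ 0 → ap g (ev i) = ev i) :
    ap g x = x := by
  have hx : x = ∑ i, x i • (ev i : Vec N F) := pi_eq_sum_univ' x
  conv_rhs => rw [hx]
  conv_lhs => rw [hx]
  rw [ap_sum]
  refine Finset.sum_congr rfl fun i _ => ?_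
  rw [ap_smul]
  by_cases hi : x i = 0
  · rw [hi, zero_smul, zero_smul]
  · rw [h i hi]

section Form

variable [Fintype F] (hS : Fld σ q)
include hS

theorem hermForm_eq (x y : Vec N F) : Cfsg.hermForm N F q x y = ip σ x y := by
  simp only [Cfsg.hermForm, ip, hS.pow]

theorem ip_ap (g : SUn N F q) (x y : Vec N F) : ip σ (ap g x) (ap g y) = ip σ x y := by
  rw [← hermForm_eq hS, ← hermForm_eq hS]
  exact g.2 x y

theorem coord_fix {g : SUn N F q} {l : Fin N} (hg : ap g (ev l) = ev l) (x : Vec N F) : ap g x l = x l := by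
  rw [← ip_ev (σ := σ) (ap g x) l]
  conv_lhs => rw [← hg]
  rw [ip_ap hS, ip_ev]

/-- Elements moving complementary sets of coordinates commute. -/
theorem commute_of_fixSet {p p' : Fin N → Prop} (hpp : ∀ l, p l ∨ p' l) {g h : SUn N F q}
    (hg : g ∈ fixSet p) (hh : h ∈ fixSet p') : g * h = h * g := by
  have main : ∀ {p p' : Fin N → Prop}, (∀ l, p l ∨ p' l) → ∀ {g h : SUn N F q}, g ∈ fixSet p → h ∈ fixSet p' →
      ∀ l, p l → ap g (ap h (ev l)) = ap h (ev l) := by
    intro p p' hpp g h hg hh l hl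
    refine ap_eq_self_of_coord g fun i hi => ?_
    rcases hpp i with hi' | hi'
    · exact hg i hi'
    · rw [coord_fix hS (hh i hi')] at hi
      by_cases hil : i = l
      · rw [hil]; exact hg l hl
      · exact absurd (ev_ne hil) hi
  refine ext_ev fun l => ?_
  rw [ap_mul, ap_mul]
  rcases hpp l with hl | hl
  · rw [hg l hl, main hpp hg hh l hl]
  · rw [hh l hl, main (fun l => (hpp l).symm) hh hg l hl]

end Form

/-! ### Embeddings along coordinate maps -/

section Emb

/-- The coordinates in the range of `c` and the others. -/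
noncomputable def splitEq (c : Fin m → Fin N) (hc : Injective c) :
    Fin m ⊕ {l // l ∉ Set.range c} ≃ Fin N :=
  letI := Classical.decPred (fun l => l ∈ Set.range c)
  ((Equiv.ofInjective c hc).sumCongr (Equiv.refl _)).trans (Equiv.sumCompl fun l => l ∈ Set.range c)

theorem splitEq_inl (c : Fin m → Fin N) (hc : Injective c) (a : Fin m) : splitEq c hc (Sum.inl a) = c a := by
  simp [splitEq]

theorem splitEq_inr (c : Fin m → Fin N) (hc : Injective c) (l : {l // l ∉ Set.range c}) :
    splitEq c hc (Sum.inr l) = l.1 := by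
  simp [splitEq]

open _root_.Classical in
/-- The matrix acting as `M` on the coordinates in the range of `c`, trivially on the others. -/
noncomputable def embMat (c : Fin m → Fin N) (hc : Injective c) (M : Matrix (Fin m) (Fin m) F) :
    Matrix (Fin N) (Fin N) F :=
  Matrix.reindex (splitEq c hc) (splitEq c hc) (Matrix.fromBlocks M 0 0 1)

theorem embMat_c (c : Fin m → Fin N) (hc : Injective c) (M : Matrix (Fin m) (Fin m) F) (x : Vec N F) (a : Fin m) :
    (embMat c hc M *ᵥ x) (c a) = (M *ᵥ (x ∘ c)) a := by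
  classical
  conv_lhs => rw [← splitEq_inl c hc a]
  simp only [embMat, Matrix.reindex_apply, Matrix.submatrix_mulVec_equiv, Equiv.symm_symm, Function.comp,
    Equiv.symm_apply_apply, Matrix.fromBlocks_mulVec, Sum.elim_inl, Matrix.zero_mulVec, add_zero, Pi.add_apply,
    Pi.zero_apply]
  simp only [mulVec, dotProduct, Function.comp, splitEq_inl]

theorem embMat_ne (c : Fin m → Fin N) (hc : Injective c) (M : Matrix (Fin m) (Fin m) F) (x : Vec N F) {l : Fin N}
    (hl : l ∉ Set.range c) : (embMat c hc M *ᵥ x) l = x l := by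
  classical
  obtain ⟨i, rfl⟩ := (splitEq c hc).surjective l
  rcases i with a | l'
  · exact absurd ⟨a, (splitEq_inl c hc a).symm⟩ hl
  · simp only [embMat, Matrix.reindex_apply, Matrix.submatrix_mulVec_equiv, Equiv.symm_symm, Function.comp,
      Equiv.symm_apply_apply, Matrix.fromBlocks_mulVec, Sum.elim_inr, Matrix.zero_mulVec, zero_add, Pi.add_apply,
      Pi.zero_apply, Matrix.one_mulVec]

theorem det_embMat (c : Fin m → Fin N) (hc : Injective c) (M : Matrix (Fin m) (Fin m) F) :
    (embMat c hc M).det = M.det := by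
  classical
  rw [embMat, Matrix.det_reindex_self, Matrix.det_fromBlocks_zero₂₁, Matrix.det_one, mul_one]

theorem ip_split (c : Fin m → Fin N) (hc : Injective c) (x y : Vec N F)
    [Fintype {l // l ∉ Set.range c}] :
    ip σ x y = ip σ (x ∘ c) (y ∘ c) + ∑ l : {l // l ∉ Set.range c}, x l.1 * σ (y l.1) := by
  rw [ip, ← (splitEq c hc).sum_comp, Fintype.sum_sum_type]
  simp only [splitEq_inl, splitEq_inr]
  rfl

variable [Fintype F] (hS : Fld σ q)

/-- The embedding along `c`. -/
noncomputable def emb (c : Fin m → Fin N) (hc : Injective c) : SUn m F q →* SUn N F q where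
  toFun s := ⟨⟨embMat c hc (mx s), (det_embMat c hc _).trans s.1.2⟩, fun u v => by
    classical
    show Cfsg.hermForm N F q (embMat c hc (mx s) *ᵥ u) (embMat c hc (mx s) *ᵥ v) = Cfsg.hermForm N F q u v
    rw [hermForm_eq hS, hermForm_eq hS, ip_split c hc, ip_split c hc u v]
    congr 1
    · rw [show (embMat c hc (mx s) *ᵥ u) ∘ c = mx s *ᵥ (u ∘ c) from funext (embMat_c c hc _ u),
        show (embMat c hc (mx s) *ᵥ v) ∘ c = mx s *ᵥ (v ∘ c) from funext (embMat_c c hc _ v)]
      exact ip_ap hS s _ _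
    · exact Finset.sum_congr rfl fun l _ => by rw [embMat_ne c hc _ u l.2, embMat_ne c hc _ v l.2]⟩
  map_one' := Subtype.ext (Subtype.ext (by
    classical
    show embMat c hc 1 = 1
    rw [embMat, Matrix.fromBlocks_one, Matrix.reindex_apply, Matrix.submatrix_one_equiv]))
  map_mul' s t := Subtype.ext (Subtype.ext (by
    classical
    show embMat c hc (mx s * mx t) = embMat c hc (mx s) * embMat c hc (mx t)
    simp only [embMat, Matrix.reindex_apply, Matrix.submatrix_mul_equiv, Matrix.fromBlocks_multiply,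
      Matrix.zero_mul, Matrix.mul_zero, add_zero, zero_add, Matrix.one_mul]))

variable (c : Fin m → Fin N) (hc : Injective c)

theorem emb_c (s : SUn m F q) (x : Vec N F) (a : Fin m) : ap (emb hS c hc s) x (c a) = ap s (x ∘ c) a :=
  embMat_c c hc _ x a

theorem emb_ne (s : SUn m F q) (x : Vec N F) {l : Fin N} (hl : l ∉ Set.range c) :
    ap (emb hS c hc s) x l = x l :=
  embMat_ne c hc _ x hl

theorem emb_ev_ne (s : SUn m F q) {l : Fin N} (hl : l ∉ Set.range c) : ap (emb hS c hc s) (ev l) = ev l := by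
  funext i
  by_cases hi : i ∈ Set.range c
  · obtain ⟨a, rfl⟩ := hi
    rw [emb_c, show (ev l : Vec N F) ∘ c = 0 from funext fun b => ev_ne fun e => hl ⟨b, e⟩, ap_zero]
    exact (ev_ne fun e => hl ⟨a, e⟩).symm
  · rw [emb_ne hS c hc s _ hi]

include hc in
theorem ev_comp (a : Fin m) : (ev (c a) : Vec N F) ∘ c = ev a :=
  funext fun b => by
    by_cases h : b = a
    · subst h; simp [ev_self]
    · rw [Function.comp, ev_ne fun e => h (hc e), ev_ne h]

theorem emb_injective : Injective (emb hS c hc) := fun s t h => ext_ev fun a => funext fun b => by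
  have := congrFun (congrArg (fun g => ap g (ev (c a))) h) (c b)
  simpa [emb_c, ev_comp c hc] using this

theorem range_emb : (emb hS c hc).range = fixSet fun l => l ∉ Set.range c := by
  classical
  refine le_antisymm ?_ fun g hg => ?_
  · rintro _ ⟨s, rfl⟩ l hl
    exact emb_ev_ne hS c hc s hl
  · set M : Matrix (Fin m) (Fin m) F := Matrix.of fun a b => mx g (c a) (c b)
    have hM : embMat c hc M = mx g := by
      refine Matrix.ext_of_mulVec_single fun j => funext fun i => ?_
      by_cases hi : i ∈ Set.range c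
      · obtain ⟨a, rfl⟩ := hi
        rw [embMat_c]
        by_cases hj : j ∈ Set.range c
        · obtain ⟨b, rfl⟩ := hj
          rw [show (Pi.single (c b) (1 : F) : Vec N F) ∘ c = Pi.single b 1 from ev_comp c hc b,
            mulVec_single_one, mulVec_single_one]
          rfl
        · rw [show (Pi.single j (1 : F) : Vec N F) ∘ c = 0 from funext fun b => ev_ne fun e => hj ⟨b, e⟩,
            mulVec_zero]
          refine ((congrFun (hg j hj) _).trans ?_).symm
          exact ev_ne fun e => hj ⟨a, e⟩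
      · rw [embMat_ne c hc M _ hi]
        exact (coord_fix hS (hg i hi) _).symm
    refine ⟨⟨⟨M, by rw [← det_embMat c hc M, hM]; exact g.1.2⟩, fun u v => ?_⟩, Subtype.ext (Subtype.ext hM)⟩
    show Cfsg.hermForm m F q (M *ᵥ u) (M *ᵥ v) = Cfsg.hermForm m F q u v
    let ext' : Vec m F → Vec N F := fun w => Function.extend c w (0 : Vec N F)
    have e1 : ∀ w, ext' w ∘ c = w := fun w => funext fun b => hc.extend_apply w _ b
    have e2 : ∀ w (l : Fin N), l ∉ Set.range c → ext' w l = 0 := fun w l hl =>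
      Function.extend_apply' w _ l fun ⟨b, e⟩ => hl ⟨b, e⟩
    have key := ip_ap hS g (ext' u) (ext' v)
    rw [hermForm_eq hS, hermForm_eq hS]
    rw [ip_split c hc, ip_split c hc (ext' u), e1, e1] at key
    have e3 : ∀ w, ap g (ext' w) ∘ c = M *ᵥ w := fun w => funext fun a => by
      show (mx g *ᵥ ext' w) (c a) = _
      rw [← hM, embMat_c, e1]
    rw [e3, e3, Finset.sum_eq_zero (fun l _ => ?_), add_zero,
      Finset.sum_eq_zero (fun l _ => by rw [e2 u l.1 l.2, zero_mul]), add_zero] at key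
    · exact key
    · show (mx g *ᵥ ext' u) l.1 * _ = 0
      rw [← hM, embMat_ne c hc M _ l.2, e2 u l.1 l.2, zero_mul]

theorem emb_comp {k : ℕ} (d : Fin k → Fin m) (hd : Injective d) (s : SUn k F q) :
    emb hS c hc (emb hS d hd s) = emb hS (c ∘ d) (hc.comp hd) s := by
  refine ext_ev fun j => funext fun i => ?_
  by_cases hi : i ∈ Set.range c
  · obtain ⟨a, rfl⟩ := hi
    rw [emb_c]
    by_cases ha : a ∈ Set.range d
    · obtain ⟨b, rfl⟩ := ha
      rw [emb_c]
      exact (emb_c hS (c ∘ d) (hc.comp hd) s (ev j) b).symm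
    · rw [emb_ne hS d hd s _ ha, emb_ne hS (c ∘ d) (hc.comp hd) s _ fun ⟨b, e⟩ => ha ⟨b, hc e⟩]
      rfl
  · rw [emb_ne hS c hc _ _ hi, emb_ne hS (c ∘ d) (hc.comp hd) s _ fun ⟨b, e⟩ => hi ⟨d b, e⟩]

end Emb

/-! ### Rank two elements -/

section Plane

variable [Fintype F] (hS : Fld σ q)
include hS

/-- The matrix with first column `(r, s)`. -/
def mk2 (r s : F) (h : nn σ r + nn σ s = 1) : SUn 2 F q :=
  ⟨⟨!![r, -σ s; s, σ r], by rw [Matrix.det_fin_two_of, ← h, nn, nn]; ring⟩, fun u v => by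
    show Cfsg.hermForm 2 F q (!![r, -σ s; s, σ r] *ᵥ u) (!![r, -σ s; s, σ r] *ᵥ v) = Cfsg.hermForm 2 F q u v
    rw [hermForm_eq hS, hermForm_eq hS]
    simp only [ip, Fin.sum_univ_two, mulVec, dotProduct, Matrix.of_apply, Matrix.cons_val', Matrix.cons_val_zero,
      Matrix.cons_val_one, Matrix.cons_val_fin_one, map_add, map_mul, map_neg, hS.sigma_sigma]
    unfold nn at h
    linear_combination (u 0 * σ (v 0) + u 1 * σ (v 1)) * h⟩

theorem mk2_zero (r s : F) (h : nn σ r + nn σ s = 1) (x : Vec 2 F) :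
    ap (mk2 hS r s h) x 0 = r * x 0 - σ s * x 1 := by
  simp [ap, mx, mk2, mulVec, dotProduct, Fin.sum_univ_two]; ring

theorem mk2_one (r s : F) (h : nn σ r + nn σ s = 1) (x : Vec 2 F) :
    ap (mk2 hS r s h) x 1 = s * x 0 + σ r * x 1 := by
  simp [ap, mx, mk2, mulVec, dotProduct, Fin.sum_univ_two]

theorem injective_pair {i j : Fin N} (hij : i ≠ j) : Injective (![i, j] : Fin 2 → Fin N) := by
  intro a b hab
  fin_cases a <;> fin_cases b <;> simp_all

omit hS in
theorem notMem_range_pair {i j l : Fin N} : l ∉ Set.range (![i, j] : Fin 2 → Fin N) ↔ l ≠ i ∧ l ≠ j := by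
  simp [Matrix.range_cons, eq_comm]; tauto

/-- The element acting on the coordinates `i`, `j`. -/
noncomputable def pairEl {i j : Fin N} (hij : i ≠ j) (r s : F) (h : nn σ r + nn σ s = 1) : SUn N F q :=
  emb hS ![i, j] (injective_pair hS hij) (mk2 hS r s h)

theorem pairEl_fst {i j : Fin N} (hij : i ≠ j) (r s : F) (h : nn σ r + nn σ s = 1) (x : Vec N F) :
    ap (pairEl hS hij r s h) x i = r * x i - σ s * x j := by
  exact (emb_c hS ![i, j] _ _ x 0).trans (mk2_zero hS r s h _)

theorem pairEl_snd {i j : Fin N} (hij : i ≠ j) (r s : F) (h : nn σ r + nn σ s = 1) (x : Vec N F) :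
    ap (pairEl hS hij r s h) x j = s * x i + σ r * x j := by
  exact (emb_c hS ![i, j] _ _ x 1).trans (mk2_one hS r s h _)

theorem pairEl_other {i j : Fin N} (hij : i ≠ j) (r s : F) (h : nn σ r + nn σ s = 1) (x : Vec N F) {l : Fin N}
    (h1 : l ≠ i) (h2 : l ≠ j) : ap (pairEl hS hij r s h) x l = x l :=
  emb_ne hS _ _ _ x (notMem_range_pair.2 ⟨h1, h2⟩)

theorem pairEl_mem {i j : Fin N} (hij : i ≠ j) (r s : F) (h : nn σ r + nn σ s = 1) :
    pairEl hS hij r s h ∈ fixSet fun l => l ≠ i ∧ l ≠ j := fun _ hl =>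
  emb_ev_ne hS _ _ _ (notMem_range_pair.2 hl)

/-- The quarter turn `(x, y) ↦ (-y, x)`. -/
noncomputable def turn {i j : Fin N} (hij : i ≠ j) : SUn N F q :=
  pairEl hS hij 0 1 (by simp [nn])

theorem turn_fst {i j : Fin N} (hij : i ≠ j) (x : Vec N F) : ap (turn hS hij) x i = -x j := by
  rw [turn, pairEl_fst hS]; simp

theorem turn_snd {i j : Fin N} (hij : i ≠ j) (x : Vec N F) : ap (turn hS hij) x j = x i := by
  rw [turn, pairEl_snd hS]; simp

theorem turn_other {i j : Fin N} (hij : i ≠ j) (x : Vec N F) {l : Fin N} (h1 : l ≠ i) (h2 : l ≠ j) :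
    ap (turn hS hij) x l = x l := by rw [turn, pairEl_other hS hij _ _ _ x h1 h2]

/-- Moving the first coordinate in a plane. -/
theorem exists_move {i j : Fin N} (hij : i ≠ j) (x : Vec N F) (a : F)
    (h : nn σ (x i) + nn σ (x j) ≠ 0 ∨ ((x i ≠ 0 ∨ x j ≠ 0) ∧ a ≠ 0)) :
    ∃ g : SUn N F q, g ∈ fixSet (fun l => l ≠ i ∧ l ≠ j) ∧ ap g x i = a ∧
      nn σ (x i) + nn σ (x j) = nn σ a + nn σ (ap g x j) := by
  suffices ∃ r s, nn σ r + nn σ s = 1 ∧ r * x i - σ s * x j = a by
    obtain ⟨r, s, h1, h2⟩ := this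
    refine ⟨pairEl hS hij r s h1, pairEl_mem hS hij r s h1, by rw [pairEl_fst hS, h2], ?_⟩
    rw [pairEl_snd hS, ← h2]
    simp only [nn, map_sub, map_add, map_mul, hS.sigma_sigma] at h1 ⊢
    linear_combination -(x i * σ (x i) + x j * σ (x j)) * h1
  set z := x i
  set w := x j
  by_cases hρ : nn σ z + nn σ w = 0
  · obtain ⟨hzw, ha⟩ : (z ≠ 0 ∨ w ≠ 0) ∧ a ≠ 0 := h.resolve_left (not_not.2 hρ)
    have hz : z ≠ 0 := fun e => by
      rw [e, nn_zero, zero_add, nn_eq_zero] at hρ
      exact hzw.elim (fun h' => h' e) fun h' => h' hρ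
    have hw : w ≠ 0 := fun e => by
      rw [e, nn_zero, add_zero, nn_eq_zero] at hρ
      exact hz hρ
    obtain ⟨t, ht⟩ := hS.exists_trace (a := nn σ z - nn σ a) (by rw [map_sub, hS.fix_nn, hS.fix_nn])
    have hd : σ a * w ≠ 0 := mul_ne_zero ((map_ne_zero σ).2 ha) hw
    set S := t / (σ a * w) with hSd
    have hS' : σ a * w * S = t := mul_div_cancel₀ _ hd
    refine ⟨(a + S * w) / z, σ S, ?_, ?_⟩
    · have ht' : σ t = a * σ w * σ S := by rw [← hS']; simp [hS.sigma_sigma]
      have hz' : σ z ≠ 0 := (map_ne_zero σ).2 hz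
      simp only [nn] at hρ ht ⊢
      rw [map_div₀, map_add, map_mul, hS.sigma_sigma]
      field_simp
      linear_combination ht - ht' + hS' + S * σ S * hρ
    · rw [hS.sigma_sigma]; field_simp; ring
  · obtain ⟨b, hb⟩ := hS.exists_nn (a := nn σ z + nn σ w - nn σ a) (by
      rw [map_sub, map_add, hS.fix_nn, hS.fix_nn, hS.fix_nn])
    have e : σ (nn σ z + nn σ w) = nn σ z + nn σ w := by rw [map_add, hS.fix_nn, hS.fix_nn]
    refine ⟨(a * σ z + σ b * w) / (nn σ z + nn σ w), (b * σ z - σ a * w) / (nn σ z + nn σ w), ?_, ?_⟩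
    · unfold nn at hb e hρ ⊢
      rw [map_div₀, map_div₀, e, div_mul_div_comm, div_mul_div_comm, ← add_div,
        div_eq_one_iff_eq (mul_ne_zero hρ hρ)]
      simp only [map_add, map_sub, map_mul, hS.sigma_sigma]
      linear_combination (z * σ z + w * σ w) * hb
    · unfold nn at e hρ ⊢
      rw [map_div₀, e, div_mul_eq_mul_div, div_mul_eq_mul_div, ← sub_div, div_eq_iff hρ]
      simp only [map_sub, map_mul, hS.sigma_sigma]
      ring

end Plane

/-! ### Generation by neighbouring planes -/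

/-- The elements moving only the coordinates `i` and `i + 1`. -/
def blk (i : ℕ) : Subgroup (SUn N F q) := fixSet fun l => (l : ℕ) ≠ i ∧ (l : ℕ) ≠ i + 1

/-- The elements fixing the first `k` basis vectors. -/
def lowFix (k : ℕ) : Subgroup (SUn N F q) := fixSet fun l => (l : ℕ) < k

/-- The subgroup generated by the planes from `k` on. -/
def gen (k : ℕ) : Subgroup (SUn N F q) := ⨆ (i : ℕ) (_ : k ≤ i ∧ i + 1 < N), blk i

theorem blk_le_gen {k i : ℕ} (h : k ≤ i) (h' : i + 1 < N) : (blk i : Subgroup (SUn N F q)) ≤ gen k :=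
  le_iSup₂_of_le i ⟨h, h'⟩ le_rfl

theorem gen_le_lowFix (k : ℕ) : (gen k : Subgroup (SUn N F q)) ≤ lowFix k :=
  iSup₂_le fun i hi => fixSet_anti fun l hl => ⟨by omega, by omega⟩

theorem gen_mono {k k' : ℕ} (h : k ≤ k') : (gen k' : Subgroup (SUn N F q)) ≤ gen k :=
  iSup₂_le fun _ hi => blk_le_gen (h.trans hi.1) hi.2

/-- The vectors with zero coordinates below `k`. -/
def Supp (k : ℕ) (x : Vec N F) : Prop := ∀ l : Fin N, (l : ℕ) < k → x l = 0

theorem Supp.mono {k k' : ℕ} (h : k ≤ k') {x : Vec N F} (hx : Supp k' x) : Supp k x :=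
  fun l hl => hx l (lt_of_lt_of_le hl h)

theorem supp_ev {k : ℕ} {j : Fin N} (h : k ≤ j) : Supp (F := F) k (ev j) := fun _ hl =>
  ev_ne fun e => absurd (e ▸ hl) (not_lt.2 h)

theorem supp_succ {k : Fin N} {x : Vec N F} (hx : Supp (k : ℕ) x) (h : x k = 0) : Supp ((k : ℕ) + 1) x := by
  intro l hl
  rcases Nat.lt_succ_iff_lt_or_eq.1 hl with h1 | h1
  · exact hx l h1
  · rw [Fin.ext h1]; exact h

theorem eq_smul_ev_of_supp {k : Fin N} {x : Vec N F} (hx : Supp (k : ℕ) x)
    (h : ∀ l : Fin N, (k : ℕ) < l → x l = 0) : x = x k • ev k := by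
  funext l
  rcases lt_trichotomy (l : ℕ) k with h1 | h1 | h1
  · simp [hx l h1, ev_ne (Fin.ne_of_val_ne h1.ne)]
  · rw [Fin.ext h1]; simp [ev_self]
  · simp [h l h1, ev_ne (Fin.ne_of_val_ne h1.ne')]

theorem mem_blk_of_pair {i j : Fin N} (hij : (j : ℕ) = i + 1) {g : SUn N F q}
    (hg : g ∈ fixSet fun l => l ≠ i ∧ l ≠ j) : g ∈ blk (i : ℕ) := fun l hl =>
  hg l ⟨fun e => hl.1 (congrArg Fin.val e), fun e => hl.2 (by rw [e, hij])⟩

section Moves

variable [Fintype F] (hS : Fld σ q)
include hS

theorem supp_ap {k : ℕ} {x : Vec N F} (hx : Supp k x) {g : SUn N F q} (hg : g ∈ lowFix k) :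
    Supp k (ap g x) := fun l hl => by rw [coord_fix hS (hg l hl), hx l hl]

theorem ip_self_supp {k : Fin N} {x : Vec N F} (hx : Supp (k : ℕ) x) (h : ∀ l : Fin N, (k : ℕ) < l → x l = 0) :
    ip σ x x = nn σ (x k) := by
  rw [ip_self, Finset.sum_eq_single k (fun l _ hl => ?_) (by simp)]
  rcases lt_or_gt_of_ne (Fin.val_ne_of_ne hl) with h1 | h1
  · rw [hx l h1, nn_zero]
  · rw [h l h1, nn_zero]

omit hS in
theorem ip_self_two {i j : Fin N} (hij : i ≠ j) {x : Vec N F} (h : ∀ l, l ≠ i → l ≠ j → x l = 0) :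
    ip σ x x = nn σ (x i) + nn σ (x j) := by
  classical
  rw [ip_self, ← Finset.sum_subset (Finset.subset_univ {i, j}) (fun l _ hl => ?_), Finset.sum_pair hij]
  simp only [Finset.mem_insert, Finset.mem_singleton, not_or] at hl
  rw [h l hl.1 hl.2, nn_zero]

/-- The `k`th coordinate can be moved to any admissible value. -/
theorem exists_first [Fact (2 < q)] (d : ℕ) : ∀ (k : Fin N), (k : ℕ) + d + 2 = N → ∀ (x : Vec N F), Supp (k : ℕ) x → x ≠ 0 →
    ∀ a : F, (ip σ x x ≠ 0 ∨ a ≠ 0) → ∃ g : SUn N F q, g ∈ gen (k : ℕ) ∧ ap g x k = a := by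
  induction d with
  | zero =>
    intro k hk x hx hne a ha
    set j : Fin N := ⟨k + 1, by omega⟩
    have hkj : k ≠ j := Fin.ne_of_val_ne (by simp [j])
    have h0 : ∀ l, l ≠ k → l ≠ j → x l = 0 := fun l h1 h2 =>
      hx l (by have := l.isLt; have := Fin.val_ne_of_ne h1; have := Fin.val_ne_of_ne h2; simp [j] at this; omega)
    have hor : x k ≠ 0 ∨ x j ≠ 0 := by
      by_contra hh
      push Not at hh
      exact hne (funext fun l => by
        by_cases h1 : l = k
        · rw [h1, hh.1]; rfl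
        · by_cases h2 : l = j
          · rw [h2, hh.2]; rfl
          · exact h0 l h1 h2)
    obtain ⟨g, hg, he, -⟩ := exists_move hS hkj x a (by
      rw [← ip_self_two hkj h0]
      exact ha.imp id fun h => ⟨hor, h⟩)
    exact ⟨g, blk_le_gen le_rfl (by omega) (mem_blk_of_pair rfl hg), he⟩
  | succ d ih =>
    intro k hk x hx hne a ha
    set j : Fin N := ⟨k + 1, by omega⟩
    have hkj : k ≠ j := Fin.ne_of_val_ne (by simp [j])
    set v : Vec N F := Function.update x k 0 with hv
    have hvs : Supp (j : ℕ) v := fun l hl => by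
      by_cases h1 : l = k
      · simp [hv, h1]
      · rw [hv, Function.update_of_ne h1]
        exact hx l (by have := Fin.val_ne_of_ne h1; simp [j] at hl; omega)
    have hmove : ∀ y : Vec N F, nn σ (y k) + nn σ (y j) ≠ 0 →
        ∃ g : SUn N F q, g ∈ gen (k : ℕ) ∧ ap g y k = a := fun y hy => by
      obtain ⟨g, hg, he, -⟩ := exists_move hS hkj y a (Or.inl hy)
      exact ⟨g, blk_le_gen le_rfl (by omega) (mem_blk_of_pair rfl hg), he⟩
    by_cases hv0 : v = 0
    · refine hmove x ?_
      have h0 : ∀ l, l ≠ k → x l = 0 := fun l hl => by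
        simpa [hv, Function.update_of_ne hl] using congrFun hv0 l
      rw [h0 j hkj.symm, nn_zero, add_zero]
      refine nn_ne_zero fun hk0 => hne (funext fun l => ?_)
      by_cases h1 : l = k
      · rw [h1, hk0]; rfl
      · exact h0 l h1
    · obtain ⟨s, hs, hs0, hs1⟩ := hS.avoid_two 0 (-nn σ (x k))
      obtain ⟨c, hc⟩ := hS.exists_nn hs
      have hc0 : c ≠ 0 := fun e => hs0 (by rw [← hc, e, nn_zero])
      obtain ⟨g, hg, he⟩ := ih j (by simp [j]; omega) v hvs hv0 c (Or.inr hc0)
      have hgk : ap g (ev k) = ev k := gen_le_lowFix _ hg k (by simp [j])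
      have hgx : ap g x = ap g v + x k • ev k := by
        conv_lhs => rw [show x = v + x k • ev k from funext fun l => by
          by_cases h1 : l = k
          · subst h1; simp [hv, ev_self]
          · simp [hv, Function.update_of_ne h1, ev_ne h1]]
        rw [ap_add, ap_smul, hgk]
      obtain ⟨g', hg', he'⟩ := hmove (ap g x) (by
        rw [hgx]
        simp only [Pi.add_apply, Pi.smul_apply, smul_eq_mul, ev_self, mul_one, ev_ne hkj.symm, mul_zero,
          add_zero, he, hc]
        rw [coord_fix hS hgk, hv, Function.update_self, zero_add]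
        exact fun e => hs1 (by linear_combination e))
      exact ⟨g' * g, mul_mem hg' (gen_mono (by simp [j]) hg), by rw [ap_mul, he']⟩

/-- A vector of non-zero norm can be moved onto an axis. -/
theorem exists_axis [Fact (2 < q)] (d : ℕ) : ∀ (k : Fin N), (k : ℕ) + d + 1 = N → ∀ (x : Vec N F), Supp (k : ℕ) x →
    ip σ x x ≠ 0 → ∃ g : SUn N F q, g ∈ gen (k : ℕ) ∧ ∃ c, ap g x = c • ev k ∧ nn σ c = ip σ x x := by
  induction d with
  | zero =>
    intro k hk x hx _
    have h0 : ∀ l : Fin N, (k : ℕ) < l → x l = 0 := fun l hl => absurd l.isLt (by omega)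
    exact ⟨1, one_mem _, x k, by rw [ap_one]; exact eq_smul_ev_of_supp hx h0, (ip_self_supp hS hx h0).symm⟩
  | succ d ih =>
    intro k hk x hx hn
    set j : Fin N := ⟨k + 1, by omega⟩
    have hkj : k ≠ j := Fin.ne_of_val_ne (by simp [j])
    have hne : x ≠ 0 := fun e => hn (by simp [ip, e])
    obtain ⟨g1, hg1, e1⟩ := exists_first hS d k (by omega) x hx hne 0 (Or.inl hn)
    set y := ap g1 x
    have hys : Supp (j : ℕ) y := supp_succ (supp_ap hS hx (gen_le_lowFix _ hg1)) e1
    have hyn : ip σ y y = ip σ x x := ip_ap hS g1 x x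
    obtain ⟨g2, hg2, c, e2, hc⟩ := ih j (by simp [j]; omega) y hys (hyn ▸ hn)
    refine ⟨turn hS hkj * g2 * g1, mul_mem (mul_mem (blk_le_gen le_rfl (by omega)
      (mem_blk_of_pair rfl (pairEl_mem hS hkj _ _ _))) (gen_mono (by simp [j]) hg2)) hg1, -c, ?_, ?_⟩
    · rw [ap_mul, ap_mul, e2, ap_smul]
      funext l
      by_cases h1 : l = k
      · subst h1; simp [turn_fst hS, ev_self]
      · by_cases h2 : l = j
        · subst h2; simp [turn_snd hS, ev_self, ev_ne hkj, ev_ne h1]
        · simp [turn_other hS hkj _ h1 h2, ev_ne h1, ev_ne h2]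
    · rw [nn_neg, hc, hyn]

/-- A unit vector can be moved onto the `k`th basis vector. -/
theorem exists_to_ev [Fact (2 < q)] {k : Fin N} (hk : (k : ℕ) + 1 < N) {x : Vec N F} (hx : Supp (k : ℕ) x)
    (hn : ip σ x x = 1) : ∃ g : SUn N F q, g ∈ gen (k : ℕ) ∧ ap g x = ev k := by
  obtain ⟨g, hg, c, e, hc⟩ := exists_axis hS (N - k - 1) k (by omega) x hx (by rw [hn]; exact one_ne_zero)
  set j : Fin N := ⟨k + 1, hk⟩
  have hkj : k ≠ j := Fin.ne_of_val_ne (by simp [j])
  rw [hn] at hc
  have hc' : nn σ (σ c) + nn σ (0 : F) = 1 := by rw [nn_zero, add_zero, ← hc, nn, nn, hS.sigma_sigma, mul_comm]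
  refine ⟨pairEl hS hkj (σ c) 0 hc' * g,
    mul_mem (blk_le_gen le_rfl hk (mem_blk_of_pair rfl (pairEl_mem hS hkj _ _ _))) hg, ?_⟩
  rw [ap_mul, e]
  funext l
  unfold nn at hc
  by_cases h1 : l = k
  · subst h1; simp [pairEl_fst hS, ev_self, mul_comm (σ c), hc]
  · by_cases h2 : l = j
    · subst h2; simp [pairEl_snd hS, ev_ne h1]
    · simp [pairEl_other hS hkj _ _ _ _ h1 h2, ev_ne h1]

omit hS in
theorem eq_one_of_lowFix {k : ℕ} (hk : N ≤ k) {g : SUn N F q} (hg : g ∈ lowFix k) : g = 1 :=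
  ext_ev fun l => by rw [hg l (lt_of_lt_of_le l.isLt hk), ap_one]

theorem eq_one_of_lowFix_last {k : ℕ} (hk : N ≤ k + 1) {g : SUn N F q} (hg : g ∈ lowFix k) : g = 1 := by
  by_cases hN : N ≤ k
  · exact eq_one_of_lowFix hN hg
  set l : Fin N := ⟨k, by omega⟩
  have h0 : ∀ i, i ≠ l → ap g (ev i) = ev i := fun i hi => hg i (by
    have := i.isLt; have := Fin.val_ne_of_ne hi; simp [l] at this; omega)
  have hcol : ap g (ev l) = mx g l l • ev l := by
    funext i
    by_cases hi : i = l
    · subst hi; simp [ev_self, ap, ev, mulVec_single_one]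
    · rw [coord_fix hS (h0 i hi), Pi.smul_apply, ev_ne hi, smul_zero]
  have hdiag : mx g = Matrix.diagonal (fun i => if i = l then mx g l l else 1) := by
    refine Matrix.ext_of_mulVec_single fun j => ?_
    show ap g (ev j) = _
    by_cases hj : j = l
    · subst hj; rw [hcol, mulVec_single_one]; ext i
      by_cases hi : i = l
      · subst hi; simp [ev_self, Matrix.diagonal]
      · simp [ev_ne hi, Matrix.diagonal, hi]
    · rw [h0 j hj, mulVec_single_one]; ext i
      by_cases hi : i = j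
      · subst hi; simp [ev_self, Matrix.diagonal, hj]
      · simp [ev_ne hi, Matrix.diagonal, hi]
  have h1 : mx g l l = 1 := by
    have hdet : (mx g).det = 1 := g.1.2
    rwa [hdiag, Matrix.det_diagonal, Finset.prod_ite_eq' Finset.univ l (fun _ => mx g l l),
      if_pos (Finset.mem_univ _)] at hdet
  refine ext_ev fun i => ?_
  rw [ap_one]
  by_cases hi : i = l
  · subst hi; rw [hcol, h1, one_smul]
  · exact h0 i hi

/-- The neighbouring planes generate. -/
theorem gen_eq_lowFix [Fact (2 < q)] (k : ℕ) : (gen k : Subgroup (SUn N F q)) = lowFix k := by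
  refine le_antisymm (gen_le_lowFix k) ?_
  suffices ∀ d k, N ≤ k + d + 1 → (lowFix k : Subgroup (SUn N F q)) ≤ gen k from this N k (by omega)
  intro d
  induction d with
  | zero => intro k hk g hg; rw [eq_one_of_lowFix_last hS hk hg]; exact one_mem _
  | succ d ih =>
    intro k hk g hg
    by_cases hk' : N ≤ k + 1
    · rw [eq_one_of_lowFix_last hS hk' hg]; exact one_mem _
    set l : Fin N := ⟨k, by omega⟩
    have hxs : Supp (l : ℕ) (ap g (ev l)) := supp_ap hS (supp_ev le_rfl) hg
    obtain ⟨h, hh, he⟩ := exists_to_ev hS (k := l) (by simp [l]; omega) hxs (by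
      rw [ip_ap hS, ip_ev, ev_self])
    have hgh : h * g ∈ lowFix (k + 1) := fun i hi => by
      rcases Nat.lt_succ_iff_lt_or_eq.1 hi with h1 | h1
      · rw [ap_mul, hg i h1, gen_le_lowFix _ hh i h1]
      · rw [show i = l from Fin.ext h1, ap_mul, he]
    rw [show g = h⁻¹ * (h * g) by group]
    exact mul_mem (inv_mem hh) (gen_mono (Nat.le_succ k) (ih (k + 1) (by omega) hgh))

end Moves

end Cfsg.Agent.Phan
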